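import Cfsg.Agent.H127.TwFInv
import Cfsg.Agent.KFacts.TwF4.Full

/-!
# No involution of `²F₄(q)`, `q ≥ 8`, commutes with elements of order 3 and of order 5 (helper339)
-/

set_option autoImplicit false
set_option linter.unusedSectionVars false

namespace Cfsg.Agent.H339.TwFNo

open Cfsg Cfsg.Lie
open Cfsg.Agent.SplitTwo Cfsg.Agent.SplitTwo.ZS Cfsg.Agent.TitsThree.RankTwoZ Cfsg.Agent.KFacts.TwF4
open Cfsg.Agent.KFacts.TwF4.Arc Cfsg.Agent.KFacts.TwF4.Irr Cfsg.Agent.KFacts.TwF4.Layers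
open Cfsg.Agent.KFacts.TwF4.Perf Cfsg.Agent.KFacts.TwF4.Inv Cfsg.Agent.KFacts.TwF4.SylU
open Cfsg.Agent.H127.TwFInv

universe u

variable {F : Type*} [Field F] {σ : F →+* F} {G : Type u} [Group G] (S : Full σ G) [Finite F] [Finite G]

/-- **the two classes of involutions**: the odd primes of the centraliser divide `(q-1)(q²+1)` or `(q-1)(q+1)` -/
theorem dichotomy (hF : ∃ c : Fˣ, c ≠ 1) (hR : S.R.p = 2) {t : G} (ht : t * t = 1) (ht1 : t ≠ 1) :
    (∀ {b : G} {r : ℕ}, r.Prime → r ≠ 2 → orderOf b = r → b * t = t * b →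
      r ∣ Nat.card F - 1 ∨ r ∣ 1 + Nat.card F * Nat.card F) ∨
    (∀ {b : G} {r : ℕ}, r.Prime → r ≠ 2 → orderOf b = r → b * t = t * b →
      r ∣ Nat.card F - 1 ∨ r ∣ 1 + Nat.card F) := by
  have hconj : ∀ {b : G} {r : ℕ}, orderOf b = r → b * t = t * b → ∀ k : G, orderOf (k * b * k⁻¹) = r ∧
      (k * b * k⁻¹) * (k * t * k⁻¹) = (k * t * k⁻¹) * (k * b * k⁻¹) := by
    intro b r hb hbt k
    refine ⟨?_, ?_⟩
    · rw [← hb]
      exact (MulAut.conj k).orderOf_eq b
    · calc (k * b * k⁻¹) * (k * t * k⁻¹) = k * (b * t) * k⁻¹ := by group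
        _ = k * (t * b) * k⁻¹ := by rw [hbt]
        _ = _ := by group
  rcases classes S hF hR ht ht1 with ⟨u, hu, k, hk⟩ | ⟨s, hs, k, hk⟩
  · left
    intro b r hr hr2 hb hbt
    obtain ⟨h1, h2⟩ := hconj hb hbt (S.rot * (S.rot * k))
    have e1 : S.rot * (S.rot * k) * t * (S.rot * (S.rot * k))⁻¹ = S.e 2 0 u := by
      calc S.rot * (S.rot * k) * t * (S.rot * (S.rot * k))⁻¹ = S.rot * (S.rot * (k * t * k⁻¹) * S.rot⁻¹) * S.rot⁻¹ := by
            group
        _ = S.e 2 0 u := by rw [hk, S.rot_e, S.rot_e]; rfl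
    rw [e1] at h2
    have hz1 : S.e 2 0 u ≠ 1 := fun h => hu (S.e_eq_one h).2
    have hPL : S.rot * (S.rot * k) * b * (S.rot * (S.rot * k))⁻¹ ∈ S.PL := by
      rw [← S.centralizer_z (z := S.e 2 0 u) ⟨u, rfl⟩ hz1, Subgroup.mem_centralizer_singleton_iff]
      exact h2
    have h3 : r ∣ Nat.card S.PL := by
      rw [← h1, ← Subgroup.orderOf_mk _ hPL]
      exact orderOf_dvd_natCard _
    rw [card_PL S] at h3
    rcases hr.dvd_mul.1 h3 with h4 | h4
    · exact Or.inl (prime_BT S hR hr hr2 (h4.trans (Subgroup.card_dvd_of_le inf_le_right)))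
    · exact Or.inr h4
  · right
    intro b r hr hr2 hb hbt
    obtain ⟨h1, h2⟩ := hconj hb hbt (S.rot * (S.rot * k))
    have e1 : S.rot * (S.rot * k) * t * (S.rot * (S.rot * k))⁻¹ = S.o 2 s := by
      calc S.rot * (S.rot * k) * t * (S.rot * (S.rot * k))⁻¹ = S.rot * (S.rot * (k * t * k⁻¹) * S.rot⁻¹) * S.rot⁻¹ := by
            group
        _ = S.o 2 s := by rw [hk, S.rot_o, S.rot_o]; rfl
    rw [e1] at h2
    have hHO : S.rot * (S.rot * k) * b * (S.rot * (S.rot * k))⁻¹ ∈ S.HO := by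
      rw [← S.centralizer_o hs, Subgroup.mem_centralizer_singleton_iff]
      exact h2
    have h3 : r ∣ Nat.card S.HO := by
      rw [← h1, ← Subgroup.orderOf_mk _ hHO]
      exact orderOf_dvd_natCard _
    rw [card_HO S] at h3
    rcases hr.dvd_mul.1 h3 with h4 | h4
    · exact Or.inl (prime_BT S hR hr hr2 (h4.trans (Subgroup.card_dvd_of_le inf_le_right)))
    · exact Or.inr h4

theorem mod15 (m : ℕ) : 2 ^ (2 * m + 1) % 15 = 2 ∨ 2 ^ (2 * m + 1) % 15 = 8 := by
  induction m with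
  | zero => left; norm_num
  | succ m ih =>
    have e : 2 ^ (2 * (m + 1) + 1) = 2 ^ (2 * m + 1) * 4 := by ring
    rw [e, Nat.mul_mod]
    rcases ih with h | h <;> rw [h] <;> decide

/-- **no involution of `²F₄(q)` commutes with elements of order 3 and 5** -/
theorem no_three_five {X : Type*} [Group X] [Finite X] (h : Iso2F4 X) {t a b : X} (ht : t * t = 1) (ht1 : t ≠ 1)
    (ha : orderOf a = 3) (hb : orderOf b = 5) (hat : a * t = t * a) (hbt : b * t = t * b) : False := by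
  obtain ⟨F, _, _, m, hm, hK, ⟨e⟩⟩ := h
  obtain ⟨φ, hφ⟩ := Cfsg.Agent.ChevalleyStructure.TwF4.TwistedFix.exists_rln hK
  have := Cfsg.Agent.ChevalleyStructure.TwF4.Twisted.charP_two hK
  have hfin : Finite ↥(twistedF4 F (2 ^ m)) := inferInstance
  have hF : ∃ c : Fˣ, c ≠ 1 := by
    have h1 : 1 < Nat.card Fˣ := by
      rw [Nat.card_units, Nat.card_eq_fintype_card, hK]
      have : 2 ^ 3 ≤ 2 ^ (2 * m + 1) := Nat.pow_le_pow_right (by norm_num) (by omega)
      omega
    have h2 : Nontrivial Fˣ := Finite.one_lt_card_iff_nontrivial.1 h1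
    exact exists_ne 1
  obtain ⟨S, hS⟩ : ∃ S : Full φ ↥(twistedF4 F (2 ^ m)), S.R.p = 2 :=
    ⟨Cfsg.Agent.KFacts.TwF4.Inst.full hK hφ, rfl⟩
  have ht' : e t * e t = 1 := by rw [← map_mul, ht, map_one]
  have ht1' : e t ≠ 1 := fun h => ht1 (e.injective (h.trans e.map_one.symm))
  have ha' : orderOf (e a) = 3 := by rw [← ha]; exact e.orderOf_eq a
  have hb' : orderOf (e b) = 5 := by rw [← hb]; exact e.orderOf_eq b
  have hat' : e a * e t = e t * e a := by rw [← map_mul, hat, map_mul]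
  have hbt' : e b * e t = e t * e b := by rw [← map_mul, hbt, map_mul]
  have hcF : Nat.card F = 2 ^ (2 * m + 1) := by rw [Nat.card_eq_fintype_card, hK]
  have hmod := mod15 m
  have hpos : 0 < 2 ^ (2 * m + 1) := by positivity
  rcases dichotomy S hF hS ht' ht1' with h | h
  · have h3 := h Nat.prime_three (by norm_num) ha' hat'
    rw [hcF] at h3
    set q := 2 ^ (2 * m + 1) with hq
    have hq3 : q % 3 = 2 := by omega
    rcases h3 with h3 | h3
    · omega
    · have h4 : (1 + q * q) % 3 = 2 := by rw [Nat.add_mod, Nat.mul_mod, hq3]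
      omega
  · have h5 := h Nat.prime_five (by norm_num) hb' hbt'
    rw [hcF] at h5
    omega

end Cfsg.Agent.H339.TwFNo
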