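import Cfsg.Agent.H339.MaxRed
import Cfsg.Agent.H940.MaxCls

/-!
# Few classes of maximal subgroups: covers and indices (helper339, S5907)

* `exists_cover` : if there are not `n + 1` classes with `P`, then `n` maximal subgroups with `P` cover all;
* `exists_indices` : for `S` simple and normal in `X`, not `n + 1` classes of supplements: `n` supplements `M i` covering all,
  for each prime `r ∣ |S|` the normalizer of a Sylow `r`-subgroup of `S` lies in some `M i`;
* `index_modEq` : then `|X : M i| ≡ 1 [MOD r]`;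
* `exists_numeric` : the numerical consequences.
-/

set_option autoImplicit false
set_option linter.unusedSectionVars false

namespace Cfsg.Agent.H339.MaxCl

open Subgroup

universe u v

section cover

variable {G : Type*} [Group G]

theorem NCl.snoc {n : ℕ} {P : Subgroup G → Prop} {M : Fin n → Subgroup G} (hM : ∀ i, IsCoatom (M i) ∧ P (M i))
    (hc : ∀ i j, Cj (M i) (M j) → i = j) {K : Subgroup G} (hK : IsCoatom K) (hP : P K) (h : ∀ i, ¬ Cj (M i) K) :
    NCl (n + 1) G P := by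
  have h1 : NCl n G fun A => ∃ i, A = M i := ⟨M, fun i => ⟨(hM i).1, i, rfl⟩, hc⟩
  have h2 : NCl 1 G fun A => A = K := NCl.one hK rfl
  refine h1.add h2 ?_ ?_ ?_
  · rintro _ _ ⟨i, rfl⟩ rfl
    exact h i
  · rintro _ ⟨i, rfl⟩
    exact (hM i).2
  · rintro _ rfl
    exact hP

theorem exists_cover {P : Subgroup G → Prop} (hex : ∃ M, IsCoatom M ∧ P M) : ∀ {n : ℕ}, 1 ≤ n → ¬ NCl (n + 1) G P →
    ∃ M : Fin n → Subgroup G, (∀ i, IsCoatom (M i) ∧ P (M i)) ∧ ∀ K, IsCoatom K → P K → ∃ i, Cj (M i) K := by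
  intro n hn
  induction n, hn using Nat.le_induction with
  | base =>
    intro h
    obtain ⟨M, hM, hP⟩ := hex
    refine ⟨fun _ => M, fun _ => ⟨hM, hP⟩, fun K hK hPK => ⟨0, ?_⟩⟩
    by_contra hc
    exact h (NCl.two hM hP hK hPK hc)
  | succ n hn ih =>
    intro h
    by_cases h1 : NCl (n + 1) G P
    · obtain ⟨M, hM, hc⟩ := h1
      refine ⟨M, hM, fun K hK hPK => ?_⟩
      by_contra hcon
      push Not at hcon
      exact h (NCl.snoc hM hc hK hPK hcon)
    · obtain ⟨M, hM, hcov⟩ := ih h1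
      refine ⟨Fin.cons (M ⟨0, hn⟩) M, fun i => ?_, fun K hK hPK => ?_⟩
      · refine Fin.cases ?_ (fun i => ?_) i
        · rw [Fin.cons_zero]; exact hM _
        · rw [Fin.cons_succ]; exact hM _
      · obtain ⟨i, hi⟩ := hcov K hK hPK
        exact ⟨i.succ, by rwa [Fin.cons_succ]⟩

end cover

section indices

variable {X : Type*} [Group X] [Finite X] {S : Subgroup X} [hS : S.Normal]

/-- the normalizer of a Sylow subgroup of `S` supplements `S` and is proper -/
theorem sylow_norm (hsimp : IsSimpleGroup ↥S) (hns : ¬ Group.IsSolvable ↥S) {r : ℕ} [hr : Fact r.Prime]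
    (hrS : r ∣ Nat.card S) (R : Sylow r ↥S) :
    normalizer (((R : Subgroup ↥S).map S.subtype : Subgroup X) : Set X) ⊔ S = ⊤ ∧
      normalizer (((R : Subgroup ↥S).map S.subtype : Subgroup X) : Set X) ≠ ⊤ := by
  refine ⟨Sylow.normalizer_sup_eq_top R, fun h => ?_⟩
  have h2 : ((R : Subgroup ↥S).map S.subtype).Normal := normalizer_eq_top_iff.1 h
  have h3 : (R : Subgroup ↥S).Normal := by
    refine ⟨fun x hx g => ?_⟩
    obtain ⟨y, hy, hyx⟩ := h2.conj_mem x ⟨x, hx, rfl⟩ g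
    have e : y = g * x * g⁻¹ := Subtype.ext hyx
    rwa [← e]
  rcases h3.eq_bot_or_eq_top with h4 | h4
  · have hrR : r ∣ Nat.card R := R.dvd_card_of_dvd_card hrS
    have h5 : Nat.card R = 1 := by
      show Nat.card (R : Subgroup ↥S) = 1
      rw [h4, Subgroup.card_bot]
    rw [h5] at hrR
    exact hr.out.one_lt.ne' (Nat.dvd_one.1 hrR)
  · apply hns
    have h5 : IsPGroup r (⊤ : Subgroup ↥S) := h4 ▸ R.2
    exact isSolvable_of_isPGroup (h5.of_equiv Subgroup.topEquiv)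

theorem sylow_coatom (hsimp : IsSimpleGroup ↥S) (hns : ¬ Group.IsSolvable ↥S) {r : ℕ} [hr : Fact r.Prime]
    (hrS : r ∣ Nat.card S) (R : Sylow r ↥S) :
    ∃ M : Subgroup X, IsCoatom M ∧ ¬ S ≤ M ∧
      normalizer (((R : Subgroup ↥S).map S.subtype : Subgroup X) : Set X) ≤ M := by
  obtain ⟨h1, h2⟩ := sylow_norm hsimp hns hrS R
  obtain ⟨M, hM, hRM⟩ := exists_coatom h2
  refine ⟨M, hM, fun h => hM.1 ?_, hRM⟩
  rw [eq_top_iff, ← h1]
  exact sup_le hRM h

theorem index_eq {M : Subgroup X} (hM : M ⊔ S = ⊤) : M.index = (M.subgroupOf S).index := by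
  have h1 : S.relIndex (M ⊔ S) = S.relIndex M := Subgroup.relIndex_sup_right M S
  rw [hM, Subgroup.relIndex_top_right] at h1
  have h2 : Nat.card (S.subgroupOf M) * S.relIndex M = Nat.card M := Subgroup.card_mul_index _
  have h3 : Nat.card (M.subgroupOf S) * (M.subgroupOf S).index = Nat.card S := Subgroup.card_mul_index _
  have h4 : Nat.card (S.subgroupOf M) = Nat.card (M.subgroupOf S) := by
    have e1 : Nat.card (S.subgroupOf M) = Nat.card (S ⊓ M : Subgroup X) := by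
      rw [← Subgroup.inf_subgroupOf_right]
      exact Nat.card_congr (Subgroup.subgroupOfEquivOfLe inf_le_right).toEquiv
    have e2 : Nat.card (M.subgroupOf S) = Nat.card (M ⊓ S : Subgroup X) := by
      rw [← Subgroup.inf_subgroupOf_right]
      exact Nat.card_congr (Subgroup.subgroupOfEquivOfLe inf_le_right).toEquiv
    rw [e1, e2, inf_comm]
  have h5 : Nat.card M * M.index = Nat.card X := Subgroup.card_mul_index _
  have h6 : Nat.card S * S.index = Nat.card X := Subgroup.card_mul_index _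
  have hp : 0 < Nat.card (M.subgroupOf S) * S.index :=
    Nat.mul_pos Nat.card_pos (Nat.pos_of_ne_zero Subgroup.index_ne_zero_of_finite)
  refine Nat.eq_of_mul_eq_mul_left hp ?_
  calc Nat.card (M.subgroupOf S) * S.index * M.index = Nat.card M * M.index := by rw [← h2, h4, h1]
    _ = Nat.card S * S.index := by rw [h5, h6]
    _ = Nat.card (M.subgroupOf S) * S.index * (M.subgroupOf S).index := by rw [← h3]; ring

/-- the index of a supplement containing the normalizer of a Sylow `r`-subgroup of `S` is `1` mod `r` -/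
theorem index_modEq {M : Subgroup X} (hM : M ⊔ S = ⊤) {r : ℕ} [hr : Fact r.Prime] (R : Sylow r ↥S)
    (h : normalizer (((R : Subgroup ↥S).map S.subtype : Subgroup X) : Set X) ≤ M) : M.index ≡ 1 [MOD r] := by
  rw [index_eq hM]
  refine Cfsg.Agent.H940.MaxCls.index_modEq_one R ?_
  intro x hx
  refine h ?_
  rw [mem_normalizer_iff] at hx ⊢
  intro y
  constructor
  · rintro ⟨z, hz, rfl⟩
    exact ⟨x * z * x⁻¹, (hx z).1 hz, rfl⟩
  · rintro ⟨z, hz, hzy⟩
    have e : y = ((x⁻¹ * z * x : ↥S) : X) := by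
      show y = (x : X)⁻¹ * (z : X) * (x : X)
      have : (z : X) = (x : X) * y * (x : X)⁻¹ := hzy
      rw [this]; group
    rw [e]
    refine ⟨x⁻¹ * z * x, (hx _).2 ?_, rfl⟩
    have e2 : x * (x⁻¹ * z * x) * x⁻¹ = z := by group
    rw [e2]; exact hz

theorem exists_indices (hsimp : IsSimpleGroup ↥S) (hns : ¬ Group.IsSolvable ↥S) {n : ℕ} (hn : 1 ≤ n)
    (h : ¬ NCl (n + 1) X fun M => ¬ S ≤ M) :
    ∃ M : Fin n → Subgroup X, (∀ i, IsCoatom (M i) ∧ ¬ S ≤ M i) ∧ (∀ K, IsCoatom K → ¬ S ≤ K → ∃ i, Cj (M i) K) ∧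
      ∀ (r : ℕ) [Fact r.Prime], r ∣ Nat.card S → ∃ (i : Fin n) (R : Sylow r ↥S),
        normalizer (((R : Subgroup ↥S).map S.subtype : Subgroup X) : Set X) ≤ M i := by
  have hS1 : Nat.card S ≠ 1 := by
    intro h
    apply hns
    have : Subsingleton ↥S := (Nat.card_eq_one_iff_unique.1 h).1
    infer_instance
  obtain ⟨r0, hr0, hrS0⟩ := Nat.exists_prime_and_dvd hS1
  have := Fact.mk hr0
  obtain ⟨M0, hM0, hSM0, -⟩ := sylow_coatom hsimp hns hrS0 (default : Sylow r0 ↥S)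
  obtain ⟨M, hM, hcov⟩ := exists_cover (P := fun M => ¬ S ≤ M) ⟨M0, hM0, hSM0⟩ hn h
  refine ⟨M, hM, hcov, ?_⟩
  intro r hr hrS
  obtain ⟨K, hK, hSK, hRK⟩ := sylow_coatom hsimp hns hrS (default : Sylow r ↥S)
  obtain ⟨i, g, hg⟩ := hcov K hK hSK
  -- `K = M i` conjugated by `g`; write `g⁻¹ = a s`, `a ∈ N(R)`, `s ∈ S`
  have hgi : K.map (MulAut.conj g⁻¹).toMonoidHom = M i := by
    rw [← hg, map_conj_mul, inv_mul_cancel, map_conj_one]
  obtain ⟨s, hs, k, hk, hsk⟩ := exists_mul_of_coatom hK hSK g⁻¹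
  have hsi : K.map (MulAut.conj s).toMonoidHom = M i := by
    rw [← hgi, ← hsk, ← map_conj_mul, mem_normalizer_iff_conj.1 (Subgroup.le_normalizer hk)]
  refine ⟨i, (⟨s, hs⟩ : ↥S) • (default : Sylow r ↥S), ?_⟩
  rw [← hsi]
  have e1 : (((⟨s, hs⟩ : ↥S) • (default : Sylow r ↥S) : Sylow r ↥S) : Subgroup ↥S).map S.subtype =
      (((default : Sylow r ↥S) : Subgroup ↥S).map S.subtype).map (MulAut.conj s).toMonoidHom := by
    have h3 : (((⟨s, hs⟩ : ↥S) • (default : Sylow r ↥S) : Sylow r ↥S) : Subgroup ↥S) =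
        ((default : Sylow r ↥S) : Subgroup ↥S).map (MulAut.conj (⟨s, hs⟩ : ↥S)).toMonoidHom := by
      rw [Sylow.coe_subgroup_smul]
      rfl
    rw [h3, Subgroup.map_map, Subgroup.map_map]
    congr 1
  rw [e1]
  intro x hx
  rw [mem_map_conj]
  apply hRK
  rw [mem_normalizer_iff] at hx ⊢
  intro y
  have h4 := hx (s * y * s⁻¹)
  have e2 : s⁻¹ * (s * y * s⁻¹) * s = y := by group
  have e3 : s⁻¹ * (x * (s * y * s⁻¹) * x⁻¹) * s = s⁻¹ * x * s * y * (s⁻¹ * x * s)⁻¹ := by group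
  rw [mem_map_conj, mem_map_conj, e2, e3] at h4
  exact h4

/-- numerical consequences -/
theorem exists_numeric (hsimp : IsSimpleGroup ↥S) (hns : ¬ Group.IsSolvable ↥S) {n : ℕ} (hn : 1 ≤ n)
    (h : ¬ NCl (n + 1) X fun M => ¬ S ≤ M) :
    ∃ d : Fin n → ℕ, (∀ i, d i ≠ 1 ∧ d i ∣ Nat.card S ∧ Nat.card S ∣ (d i).factorial) ∧
      ∀ r : ℕ, r.Prime → r ∣ Nat.card S → ∃ i, d i % r = 1 := by
  obtain ⟨M, hM, -, hR⟩ := exists_indices hsimp hns hn h
  refine ⟨fun i => (M i).index, fun i => ?_, fun r hr hrS => ?_⟩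
  · have h1 := index_eq (sup_eq_top_of_coatom (hM i).1 (hM i).2)
    refine ⟨fun e => (hM i).1.1 (Subgroup.index_eq_one.1 e), ?_, ?_⟩
    · show (M i).index ∣ _
      rw [h1]
      exact Subgroup.index_dvd_card _
    · show _ ∣ ((M i).index).factorial
      rw [h1]
      refine Cfsg.Agent.H940.MaxCls.card_dvd_factorial ?_
      rw [Ne, subgroupOf_eq_top]
      exact (hM i).2
  · have := Fact.mk hr
    obtain ⟨i, R, hRi⟩ := hR r hrS
    refine ⟨i, ?_⟩
    have h1 := index_modEq (sup_eq_top_of_coatom (hM i).1 (hM i).2) R hRi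
    show (M i).index % r = 1
    rw [h1]
    exact Nat.mod_eq_of_lt hr.one_lt

end indices

/-- numerical criterion for `Supp 3` -/
theorem supp_of_numeric {K : Type v} [Group K] [Finite K] (hsimp : IsSimpleGroup K) (hns : ¬ Group.IsSolvable K)
    (hnum : ∀ d e : ℕ, d ≠ 1 → e ≠ 1 → d ∣ Nat.card K → e ∣ Nat.card K → Nat.card K ∣ d.factorial →
      Nat.card K ∣ e.factorial → ∃ r : ℕ, r.Prime ∧ r ∣ Nat.card K ∧ d % r ≠ 1 ∧ e % r ≠ 1) : Supp.{u} 3 K := by
  rintro X _ _ S _ ⟨f⟩ _ _ _ _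
  have h1 : IsSimpleGroup ↥S := f.isSimpleGroup
  have h2 : ¬ Group.IsSolvable ↥S := fun h =>
    hns (Group.isSolvable_of_isSolvable_injective (f := f.symm.toMonoidHom) f.symm.injective)
  have hc : Nat.card S = Nat.card K := Nat.card_congr f.toEquiv
  by_contra hcon
  obtain ⟨d, hd, hr⟩ := exists_numeric h1 h2 (n := 2) (by norm_num) hcon
  rw [hc] at hd hr
  obtain ⟨r, hr1, hr2, hr3, hr4⟩ := hnum (d 0) (d 1) (hd 0).1 (hd 1).1 (hd 0).2.1 (hd 1).2.1 (hd 0).2.2 (hd 1).2.2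
  obtain ⟨i, hi⟩ := hr r hr1 hr2
  fin_cases i
  · exact hr3 hi
  · exact hr4 hi

end Cfsg.Agent.H339.MaxCl
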