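import Cfsg.Agent.H339.SpCen

/-!
# The centralizer in `PSp₄(F)` of a central element of a Sylow `p`-subgroup (helper339, S3324)
-/

set_option autoImplicit false
set_option linter.unusedSectionVars false
set_option linter.unusedSimpArgs false
set_option linter.unusedVariables false
set_option linter.style.haveILetI false
open Subgroup Matrix

namespace Cfsg.Agent.H339

theorem Co.mem_Z_of_comm_P {G F : Type*} [Group G] [Field F] (K : Co G F) (h2 : (2 : F) ≠ 0)
    {x : G} (hx : x ∈ K.P) (hc : ∀ y ∈ K.P, y * x = x * y) : x ∈ K.Z := by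
  obtain ⟨t, u, v, s, rfl⟩ := hx
  have h1 := hc (K.c 1) ⟨0, 1, 0, 0, by rw [K.a_zero, mul_one, K.c_eq]⟩
  have hr : K.m t u v * K.a s = K.m t u v * K.a s * K.h 1 := by rw [K.h_one, mul_one]
  rw [hr, K.c_eq] at h1
  rw [K.e_m] at h1
  have h3 := mul_right_cancel h1
  obtain ⟨-, -, h4⟩ := K.m_inj h3
  have hs : s = 0 := by
    simp only [Units.val_one, mul_one, mul_zero, add_zero, zero_add] at h4
    rcases mul_eq_zero.mp h4.symm with h7 | h7
    · exact absurd h7 h2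
    · exact h7
  subst hs
  have h5 := hc (K.a 1) ⟨0, 0, 0, 1, by rw [K.m_zero, one_mul]⟩
  rw [K.a_zero, mul_one, K.a_m] at h5
  obtain ⟨-, h6, h7⟩ := K.m_inj (mul_right_cancel h5)
  have ht : t = 0 := by linear_combination h6
  subst ht
  have hu : 2 * u = 0 := by linear_combination h7
  have hu' : u = 0 := by
    rcases mul_eq_zero.mp hu with h8 | h8
    · exact absurd h8 h2
    · exact h8
  subst hu'
  exact ⟨v, by rw [K.a_zero, mul_one, K.d_eq]⟩

namespace SpCo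

variable {F : Type*} [Field F]

/-- The Sylow `p`-subgroup of `Sp₄(F)`. -/
def P0 (F : Type*) [Field F] : Subgroup (Sp F) := (co F).P.map (S1 F).subtype

theorem P0_le : P0 F ≤ S1 F := by
  rintro _ ⟨x, -, rfl⟩
  exact x.2

theorem mem_P0 {x : S1 F} : (x : Sp F) ∈ P0 F ↔ x ∈ (co F).P := by
  constructor
  · rintro ⟨y, hy, e⟩
    have : y = x := Subtype.ext e
    rwa [← this]
  · intro h
    exact ⟨x, h, rfl⟩

theorem isPGroup_P0 [Finite F] {p n : ℕ} [Fact p.Prime] (hF : Nat.card F = p ^ n) :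
    IsPGroup p (P0 F) :=
  (isPGroup_P hF).map _

theorem mem_S1_iff {g : Sp F} : g ∈ S1 F ↔ g.1 *ᵥ (Pi.single (Sum.inl 0) 1) = Pi.single (Sum.inl 0) 1 := by
  rw [Matrix.mulVec_single_one]
  constructor
  · intro h
    ext i
    change g.1 i (Sum.inl 0) = _
    rw [h i, Matrix.one_apply, Pi.single_apply]
  · intro h i
    have := congrFun h i
    change g.1 i (Sum.inl 0) = _ at this
    rw [this, Matrix.one_apply, Pi.single_apply]

/-- Every `p`-subgroup of `Sp₄(F)` is conjugate to a subgroup of `P0`. -/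
theorem exists_conj_le' [Finite F] {p n : ℕ} [Fact p.Prime] (hn : 1 ≤ n) (hF : Nat.card F = p ^ n)
    (Q : Subgroup (Sp F)) (hQ : IsPGroup p Q) :
    ∃ g : Sp F, ∀ x ∈ Q, g⁻¹ * x * g ∈ P0 F := by
  classical
  letI : MulAction Q (Fin 2 ⊕ Fin 2 → F) :=
    { smul := fun g w => g.1.1 *ᵥ w
      one_smul := fun w => by
        change (1 : Matrix (Fin 2 ⊕ Fin 2) (Fin 2 ⊕ Fin 2) F) *ᵥ w = w
        rw [Matrix.one_mulVec]
      mul_smul := fun g g' w => by
        change (g.1.1 * g'.1.1) *ᵥ w = g.1.1 *ᵥ (g'.1.1 *ᵥ w)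
        rw [Matrix.mulVec_mulVec] }
  have h0 : (0 : Fin 2 ⊕ Fin 2 → F) ∈ MulAction.fixedPoints Q (Fin 2 ⊕ Fin 2 → F) := by
    intro g
    exact Matrix.mulVec_zero _
  obtain ⟨w, hw, hw0⟩ := hQ.exists_fixed_point_of_prime_dvd_card_of_fixed_point (Fin 2 ⊕ Fin 2 → F)
    (by
      rw [Nat.card_fun, Nat.card_eq_fintype_card (α := Fin 2 ⊕ Fin 2), Fintype.card_sum,
        Fintype.card_fin, hF, ← pow_mul]
      exact dvd_pow_self p (by omega)) h0
  obtain ⟨k, hk⟩ := Cfsg.Agent.S0271.result 2 (Pi.single (Sum.inl 0) 1 : Fin 2 ⊕ Fin 2 → F) w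
    (by
      intro h
      have := congrFun h (Sum.inl 0)
      simp at this) hw0.symm
  have h1 : ∀ x ∈ Q, k⁻¹ * x * k ∈ S1 F := by
    intro x hx
    rw [mem_S1_iff]
    change ((k⁻¹).1 * x.1 * k.1) *ᵥ _ = _
    rw [← Matrix.mulVec_mulVec, ← Matrix.mulVec_mulVec, hk]
    have hxw : x.1 *ᵥ w = w := hw ⟨x, hx⟩
    rw [hxw, ← hk, Matrix.mulVec_mulVec]
    have e2 : (k⁻¹).1 * k.1 = 1 := congrArg Subtype.val (inv_mul_cancel k)
    rw [e2, Matrix.one_mulVec]
  let Q' : Subgroup (S1 F) := (cj k⁻¹ Q).comap (S1 F).subtype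
  have hQ' : IsPGroup p Q' := (hQ.map _).comap_of_injective _ (S1 F).subtype_injective
  obtain ⟨g, hg⟩ := exists_conj_le hn hF Q' hQ'
  refine ⟨k * g, fun x hx => ?_⟩
  have h2 : (⟨k⁻¹ * x * k, h1 x hx⟩ : S1 F) ∈ Q' := by
    change k⁻¹ * x * k ∈ cj k⁻¹ Q
    have := conj_mem_cj (g := k⁻¹) hx
    rwa [inv_inv] at this
  have h3 := hg _ h2
  rw [← mem_P0] at h3
  have h4 : (k * (g : Sp F))⁻¹ * x * (k * g) =
      ((g⁻¹ * (⟨k⁻¹ * x * k, h1 x hx⟩ : S1 F) * g : S1 F) : Sp F) := by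
    change _ = (g : Sp F)⁻¹ * (k⁻¹ * x * k) * g
    group
  rw [h4]
  exact h3

/-- **The centralizer of a central element of order `p` of a Sylow `p`-subgroup.** -/
theorem nonempty_iso [Finite F] {p n : ℕ} [Fact p.Prime] (hp2 : p ≠ 2) (hn : 1 ≤ n)
    (hF : Nat.card F = p ^ n) (hpF : (p : F) = 0) (h2 : (2 : F) ≠ 0) (x : Cfsg.PSp 2 F)
    (hx : orderOf x = p) (Px : Sylow p (Cfsg.PSp 2 F)) (hxP : x ∈ (Px : Subgroup (Cfsg.PSp 2 F)))
    (hxc : ∀ y ∈ (Px : Subgroup (Cfsg.PSp 2 F)), y * x = x * y) :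
    Nonempty (S1 F ≃* Subgroup.centralizer ({x} : Set (Cfsg.PSp 2 F))) := by
  have hp : p.Prime := Fact.out
  haveI : Finite (Sp F) := Subtype.finite
  obtain ⟨P, hP⟩ := Sylow.mapSurjective_surjective (pr_surjective (F := F)) p Px
  have hP' : ∀ y ∈ (P : Subgroup (Sp F)), pr F y ∈ (Px : Subgroup (Cfsg.PSp 2 F)) := by
    intro y hy
    rw [← hP]
    exact ⟨y, hy, rfl⟩
  obtain ⟨x', hx', e⟩ : ∃ x' ∈ (P : Subgroup (Sp F)), pr F x' = x := by
    rw [← hP] at hxP
    exact hxP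
  obtain ⟨k, hk⟩ := exists_conj_le' hn hF (P : Subgroup (Sp F)) P.isPGroup'
  have h1 : (P : Subgroup (Sp F)) ≤ cj k (P0 F) := by
    intro y hy
    rw [mem_cj]
    exact hk y hy
  have h2' : cj k (P0 F) = P := P.is_maximal' ((isPGroup_P0 hF).map _) h1
  set y := k⁻¹ * x' * k with hy
  have hyP : y ∈ P0 F := hk x' hx'
  have hyp : y ^ p = 1 := by
    apply ker_S1 _ ((S1 F).pow_mem (P0_le hyP) p)
    rw [map_pow, hy, map_mul, map_mul, e]
    have : (pr F k⁻¹ * x * pr F k) = pr F k⁻¹ * x * (pr F k⁻¹)⁻¹ := by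
      rw [map_inv, inv_inv]
    rw [this, conj_pow, ← hx, pow_orderOf_eq_one]
    group
  have hyc : ∀ z ∈ P0 F, z * y = y * z := by
    intro z hz
    apply comm_of_pr hp hp2 hyp
    have h3 : k * z * k⁻¹ ∈ (P : Subgroup (Sp F)) := by
      rw [← h2']; exact conj_mem_cj hz
    have h4 := hxc _ (hP' _ h3)
    rw [← e, ← map_mul, ← map_mul] at h4
    have h5 : z * y = k⁻¹ * ((k * z * k⁻¹) * x') * k := by rw [hy]; group
    have h6 : y * z = k⁻¹ * (x' * (k * z * k⁻¹)) * k := by rw [hy]; group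
    rw [← map_mul, ← map_mul, h5, h6, map_mul _ _ k, map_mul _ k⁻¹, h4, map_mul _ _ k, map_mul _ k⁻¹]
  obtain ⟨y', hy'P, hy'⟩ := hyP
  have h3 : y' ∈ (co F).Z := by
    apply (co F).mem_Z_of_comm_P h2 hy'P
    intro z hz
    apply Subtype.ext
    have := hyc z (mem_P0.mpr hz)
    rw [← hy'] at this
    exact this
  obtain ⟨v, hv⟩ := h3
  have hyv : y = m 0 0 v := by
    rw [← hy']
    change (y' : Sp F) = _
    rw [hv]
    rfl
  have hv0 : v ≠ 0 := by
    rintro rfl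
    have h4 : y = 1 := by
      rw [← hy', hv, (co F).d_zero]
      rfl
    have h5 : x' = 1 := by
      have : x' = k * y * k⁻¹ := by rw [hy]; group
      rw [this, h4]; group
    rw [← e, h5, map_one, orderOf_one] at hx
    exact hp.one_lt.ne hx
  have h4 := cent_pr hp hp2 hpF hv0
  let θ : S1 F →* Cfsg.PSp 2 F :=
    ((MulAut.conj (pr F k)).toMonoidHom.comp (pr F)).comp (S1 F).subtype
  have hθ : Function.Injective θ := by
    intro g g' hgg
    have h5 : pr F (g : Sp F) = pr F (g' : Sp F) := (MulAut.conj (pr F k)).injective hgg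
    exact Subtype.ext (pr_inj g.2 g'.2 h5)
  have hxe : x = pr F k * pr F y * (pr F k)⁻¹ := by
    rw [← e, ← map_inv, ← map_mul, ← map_mul, hy]
    congr 1
    group
  have hr : θ.range = Subgroup.centralizer ({x} : Set (Cfsg.PSp 2 F)) := by
    ext z
    rw [Subgroup.mem_centralizer_singleton_iff, MonoidHom.mem_range]
    constructor
    · rintro ⟨g, rfl⟩
      change (pr F k * pr F (g : Sp F) * (pr F k)⁻¹) * x = x * (pr F k * pr F (g : Sp F) * (pr F k)⁻¹)
      have h5 : pr F (g : Sp F) * pr F y = pr F y * pr F (g : Sp F) := by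
        rw [← map_mul, ← map_mul, hyv, d_comm g.2]
      rw [hxe]
      calc pr F k * pr F (g : Sp F) * (pr F k)⁻¹ * (pr F k * pr F y * (pr F k)⁻¹) =
          pr F k * (pr F (g : Sp F) * pr F y) * (pr F k)⁻¹ := by group
        _ = _ := by rw [h5]; group
    · intro hz
      have h5 : (pr F k)⁻¹ * z * pr F k ∈ Subgroup.centralizer {pr F (m 0 0 v)} := by
        rw [Subgroup.mem_centralizer_singleton_iff, ← hyv]
        rw [hxe] at hz
        calc (pr F k)⁻¹ * z * pr F k * pr F y =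
            (pr F k)⁻¹ * (z * (pr F k * pr F y * (pr F k)⁻¹)) * pr F k := by group
          _ = _ := by rw [hz]; group
      rw [h4] at h5
      obtain ⟨g, hg, hge⟩ := h5
      refine ⟨⟨g, hg⟩, ?_⟩
      change pr F k * pr F g * (pr F k)⁻¹ = z
      rw [hge]; group
  exact ⟨(MonoidHom.ofInjective hθ).trans (MulEquiv.subgroupCongr hr)⟩

end SpCo

end Cfsg.Agent.H339
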