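import Cfsg.Agent.H339.Pts
import Cfsg.Agent.Lib.Zsigmondy

/-!
# Counting the conjugates of the root group `Z` (helper339, S3324)
-/

set_option autoImplicit false
set_option linter.unusedSectionVars false
open Subgroup

namespace Cfsg.Agent.H339

theorem card_dvd_of_free {A X : Type*} [Group A] [Finite A] [Finite X] [MulAction A X]
    (h : ∀ a : A, ∀ x : X, a • x = x → a = 1) : Nat.card A ∣ Nat.card X := by
  classical
  rw [Nat.card_congr (MulAction.selfEquivSigmaOrbitsQuotientStabilizer A X)]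
  have := Fintype.ofFinite (Quotient (MulAction.orbitRel A X))
  rw [Nat.card_sigma]
  refine Finset.dvd_sum fun w _ => ?_
  have h1 : MulAction.stabilizer A (w.out : X) = ⊥ := by
    rw [eq_bot_iff]
    intro a ha
    exact h a _ (MulAction.mem_stabilizer_iff.1 ha)
  rw [h1, ← Subgroup.index, Subgroup.index_bot]

theorem arith {h k : ℕ} (hh : 1 ≤ h) (hodd : h % 2 = 1) (hk1 : 1 ≤ k) (hk : k ≤ 2 * h + 1)
    (hd : k + 1 ∣ (2 * h + 1) * (1 + (2 * h + 1) * k)) (hm : h ∣ k ∨ h ∣ k - 1)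
    (hne : k ≠ 2 * h) : k = 1 := by
  rcases hm with ⟨j, hj⟩ | ⟨j, hj⟩
  · -- `k = h j`
    have hj3 : j ≤ 3 := by
      by_contra hcon
      push Not at hcon
      have : h * 4 ≤ h * j := Nat.mul_le_mul_left h hcon
      omega
    have hj0 : j ≠ 0 := by rintro rfl; omega
    obtain rfl | rfl | rfl : j = 1 ∨ j = 2 ∨ j = 3 := by omega
    · rw [mul_one] at hj
      subst hj
      have h1 : (k : ℕ) + 1 ∣ 2 := by
        have h2 : (2 * k + 1) * (1 + (2 * k + 1) * k) + 2 = (k + 1) * (4 * k * k + 3) := by ring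
        have h3 : k + 1 ∣ (2 * k + 1) * (1 + (2 * k + 1) * k) + 2 := by rw [h2]; exact ⟨_, rfl⟩
        exact (Nat.dvd_add_right hd).mp h3
      have := Nat.le_of_dvd (by norm_num) h1
      omega
    · omega
    · have : h = 1 := by omega
      subst this
      subst hj
      norm_num at hd
  · have hj2 : j ≤ 2 := by
      by_contra hcon
      push Not at hcon
      have : h * 3 ≤ h * j := Nat.mul_le_mul_left h hcon
      omega
    obtain rfl | rfl | rfl : j = 0 ∨ j = 1 ∨ j = 2 := by omega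
    · omega
    · have hk' : k = h + 1 := by omega
      subst hk'
      have h1 : h + 2 ∣ 12 := by
        have h2 : (2 * h + 1) * (1 + (2 * h + 1) * (h + 1)) + 12 = (h + 2) * (4 * h * h + 7) := by
          ring
        have h3 : h + 2 ∣ (2 * h + 1) * (1 + (2 * h + 1) * (h + 1)) + 12 := by
          rw [h2]; exact ⟨_, rfl⟩
        exact (Nat.dvd_add_right hd).mp h3
      have h4 := Nat.le_of_dvd (by norm_num) h1
      have h5 : h ≤ 10 := by omega
      clear hd
      interval_cases h <;> omega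
    · have hk' : k = 2 * h + 1 := by omega
      subst hk'
      have h1 : 2 * h + 1 + 1 ∣ 2 := by
        have h2 : (2 * h + 1) * (1 + (2 * h + 1) * (2 * h + 1)) + 2 =
          (2 * h + 1 + 1) * (4 * h * h + 2 * h + 2) := by ring
        have h3 : 2 * h + 1 + 1 ∣ (2 * h + 1) * (1 + (2 * h + 1) * (2 * h + 1)) + 2 := by
          rw [h2]; exact ⟨_, rfl⟩
        exact (Nat.dvd_add_right hd).mp h3
      have := Nat.le_of_dvd (by norm_num) h1
      omega

namespace Co

variable {G F : Type*} [Group G] [Field F] (K : Co G F)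

/-- The set of points. -/
def Pts : Set (Subgroup G) := {S | K.IsPt S}

/-- The points other than `Z` in `D`. -/
def E : Set (Subgroup G) := {S | K.IsPt S ∧ S ≠ K.Z ∧ S ≤ K.D}

/-- The subgroup `b(F)`. -/
def X : Subgroup G where
  carrier := {x | ∃ t, x = K.b t}
  mul_mem' := by
    rintro _ _ ⟨v, rfl⟩ ⟨v', rfl⟩
    exact ⟨_, (K.b_add _ _).symm⟩
  one_mem' := ⟨0, K.b_zero.symm⟩
  inv_mem' := by
    rintro _ ⟨v, rfl⟩
    refine ⟨-v, ?_⟩
    rw [K.b_eq, K.b_eq, K.m_inv, neg_zero]

theorem mem_X {x : G} : x ∈ K.X ↔ ∃ t, x = K.b t := Iff.rfl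

theorem b_inj {v v' : F} (e : K.b v = K.b v') : v = v' := by
  rw [K.b_eq, K.b_eq] at e
  exact (K.m_inj e).1

theorem card_X : Nat.card K.X = Nat.card F := by
  have e : F ≃ K.X := Equiv.ofBijective
    (fun x => ⟨K.b x, ⟨x, rfl⟩⟩) ⟨by
      intro v v' e
      exact K.b_inj (congrArg Subtype.val e), by
      rintro ⟨_, v, rfl⟩
      exact ⟨v, rfl⟩⟩
  rw [← Nat.card_congr e]

theorem cj_h_X (r : Fˣ) : cj (K.h r) K.X = K.X := by
  have key : ∀ r : Fˣ, cj (K.h r) K.X ≤ K.X := by
    rintro r x hx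
    rw [mem_cj] at hx
    obtain ⟨t, ht⟩ := hx
    refine ⟨(r : F) * r * t, ?_⟩
    have : x = K.h r * ((K.h r)⁻¹ * x * K.h r) * (K.h r)⁻¹ := by group
    rw [this, ht, K.hb]
    group
  apply le_antisymm (key r)
  have := cj_mono (g := K.h r) (key r⁻¹)
  rwa [← cj_mul, ← K.h_mul, mul_inv_cancel, K.h_one, cj_one] at this

theorem cj_h_D (r : Fˣ) : cj (K.h r) K.D = K.D := by
  have key : ∀ r : Fˣ, cj (K.h r) K.D ≤ K.D := by
    rintro r x hx
    rw [mem_cj] at hx
    obtain ⟨t, v, ht⟩ := hx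
    refine ⟨(r : F) * r * t, v, ?_⟩
    have : x = K.h r * ((K.h r)⁻¹ * x * K.h r) * (K.h r)⁻¹ := by group
    rw [this, ht, K.h_m, mul_zero]
    group
  apply le_antisymm (key r)
  have := cj_mono (g := K.h r) (key r⁻¹)
  rwa [← cj_mul, ← K.h_mul, mul_inv_cancel, K.h_one, cj_one] at this

variable {K}

namespace Hyp

variable (H : K.Hyp) [Finite G] [Finite F]

include H

theorem E_cj_h {S : Subgroup G} (hS : S ∈ K.E) (r : Fˣ) : cj (K.h r) S ∈ K.E := by
  obtain ⟨h1, h2, h3⟩ := hS
  refine ⟨h1.cj _, ?_, ?_⟩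
  · intro e
    rw [← H.cj_h_Z r] at e
    exact h2 (cj_inj e)
  · have := cj_mono (g := K.h r) h3
    rwa [K.cj_h_D] at this

omit [Finite G] [Finite F] in
theorem eq_Z_of_cj_a {s : F} {S : Subgroup G} (e : cj (K.a s) S = K.Z) : S = K.Z :=
  cj_inj (e.trans (H.cj_a_Z s).symm)

theorem E_nonempty : K.E.Nonempty := by
  obtain ⟨g, hg⟩ := H.np
  have h1 : K.IsPt (cj g K.Z) := ⟨g, rfl⟩
  obtain ⟨s, hs⟩ := H.exists_le_D h1 hg
  refine ⟨cj (K.a s) (cj g K.Z), h1.cj _, ?_, hs⟩
  intro e
  exact hg (H.eq_Z_of_cj_a e)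

theorem card_Pts : Nat.card K.Pts = 1 + Nat.card F * Nat.card K.E := by
  classical
  have e : Option (F × K.E) ≃ K.Pts := Equiv.ofBijective
    (fun o => o.elim ⟨K.Z, isPt_Z⟩ (fun x => ⟨cj (K.a x.1) x.2.1, x.2.2.1.cj _⟩)) ⟨by
      rintro (_ | ⟨s, S, hS1, hS2, hS3⟩) (_ | ⟨s', S', hS1', hS2', hS3'⟩) e
      · rfl
      · exfalso
        have e1 : K.Z = cj (K.a s') S' := congrArg Subtype.val e
        exact hS2' (H.eq_Z_of_cj_a e1.symm)
      · exfalso
        have e1 : cj (K.a s) S = K.Z := congrArg Subtype.val e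
        exact hS2 (H.eq_Z_of_cj_a e1)
      · have e1 : cj (K.a s) S = cj (K.a s') S' := congrArg Subtype.val e
        have e2 : cj (K.a (-s' + s)) S = S' := by
          rw [K.a_add, cj_mul, e1, K.a_neg, cj_inv_cj]
        have e3 : -s' + s = 0 := by
          apply H.eq_zero_of_le_D hS1 hS2 hS3
          rw [e2]
          exact hS3'
        have e4 : s = s' := by linear_combination e3
        subst e4
        have e5 := cj_inj e1
        subst e5
        rfl, by
      rintro ⟨S, hS⟩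
      by_cases hZ : S = K.Z
      · subst hZ
        exact ⟨none, rfl⟩
      · obtain ⟨s, hs⟩ := H.exists_le_D hS hZ
        refine ⟨some (-s, ⟨cj (K.a s) S, hS.cj _, ?_, hs⟩), ?_⟩
        · intro e
          exact hZ (H.eq_Z_of_cj_a e)
        · apply Subtype.ext
          change cj (K.a (-s)) (cj (K.a s) S) = S
          rw [K.a_neg, cj_inv_cj]⟩
  rw [← Nat.card_congr e, Finite.card_option, Nat.card_prod, add_comm]

/-- Two points generate: a subgroup of order `q²` containing two points is determined. -/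
theorem eq_of_two {S S' T T' : Subgroup G} (hS : K.IsPt S) (hS' : K.IsPt S') (hne : S ≠ S')
    (hT : Nat.card T = Nat.card F ^ 2) (hT' : Nat.card T' = Nat.card F ^ 2)
    (h1 : S ≤ T) (h2 : S' ≤ T) (h3 : S ≤ T') (h4 : S' ≤ T') : T = T' := by
  classical
  let f : S × S' → T := fun x => ⟨x.1 * x.2, T.mul_mem (h1 x.1.2) (h2 x.2.2)⟩
  have hf : Function.Injective f := by
    rintro ⟨x, y⟩ ⟨x', y'⟩ e
    have e1 : (x : G) * y = x' * y' := congrArg Subtype.val e
    have e2 : (x' : G)⁻¹ * x = y' * (y : G)⁻¹ := by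
      rw [inv_mul_eq_iff_eq_mul, ← mul_assoc, ← e1]; group
    have e3 : (x' : G)⁻¹ * x = 1 := by
      by_contra hcon
      apply hne
      apply H.ti hS hS' (S.mul_mem (S.inv_mem x'.2) x.2) _ hcon
      rw [e2]
      exact S'.mul_mem y'.2 (S'.inv_mem y.2)
    have e4 : x = x' := Subtype.ext (by rw [inv_mul_eq_one] at e3; exact e3.symm)
    have e5 : y = y' := Subtype.ext (by
      rw [e3] at e2
      have := (mul_inv_eq_one.mp e2.symm)
      exact this.symm)
    rw [e4, e5]
  have hb : Function.Bijective f := by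
    apply (Nat.bijective_iff_injective_and_card f).mpr
    refine ⟨hf, ?_⟩
    rw [Nat.card_prod, hS.card, hS'.card, hT]
    ring
  have hle : T ≤ T' := by
    intro x hx
    obtain ⟨⟨y, z⟩, e⟩ := hb.2 ⟨x, hx⟩
    have : (y : G) * z = x := congrArg Subtype.val e
    rw [← this]
    exact T'.mul_mem (h3 y.2) (h4 z.2)
  exact Subgroup.eq_of_le_of_card_ge hle (by rw [hT, hT'])

theorem card_dvd : Nat.card K.E + 1 ∣ Nat.card F * Nat.card K.Pts := by
  classical
  letI := Fintype.ofFinite F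
  letI := Fintype.ofFinite (Subgroup G)
  let s : Finset (Subgroup G) := Finset.univ.filter (fun S => K.IsPt S)
  let t : Finset (Subgroup G) := Finset.univ.filter (fun T => ∃ g, T = cj g K.D)
  obtain ⟨S₁, hS1, hS2, hS3⟩ := H.E_nonempty
  -- the conjugates of `D` containing `Z`
  have keyZ : ∀ T, (∃ g, T = cj g K.D) → K.Z ≤ T → ∃ s, T = cj (K.a s) K.D := by
    rintro T ⟨g, rfl⟩ hT
    -- a point other than `Z`
    obtain ⟨S₂, h1, h2, h3⟩ : ∃ S₂, K.IsPt S₂ ∧ S₂ ≠ K.Z ∧ S₂ ≤ cj g K.D := by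
      by_cases e : cj g K.Z = K.Z
      · refine ⟨cj g S₁, hS1.cj _, ?_, cj_mono hS3⟩
        intro e2
        rw [← e] at e2
        exact hS2 (cj_inj e2)
      · exact ⟨cj g K.Z, ⟨g, rfl⟩, e, cj_mono H.Z_le_D⟩
    obtain ⟨s, hs⟩ := H.exists_le_D h1 h2
    refine ⟨-s, ?_⟩
    have e1 : K.D = cj (K.a s) (cj g K.D) := by
      symm
      apply H.eq_of_two (isPt_Z (K := K)) (h1.cj (K.a s))
      · intro e2
        exact h2 (H.eq_Z_of_cj_a e2.symm)
      · rw [card_cj, card_cj, K.card_D]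
      · exact K.card_D
      · have := cj_mono (g := K.a s) hT
        rwa [H.cj_a_Z] at this
      · exact cj_mono h3
      · exact H.Z_le_D
      · exact hs
    conv_rhs => rw [e1, K.a_neg, cj_inv_cj]
  have hDs : ∀ s, cj (K.a s) K.D = K.D → s = 0 := by
    intro s hs
    apply H.eq_zero_of_le_D hS1 hS2 hS3
    have := cj_mono (g := K.a s) hS3
    rwa [hs] at this
  have hm : ∀ S ∈ s, (t.bipartiteAbove (fun S T => S ≤ T) S).card = Nat.card F := by
    intro S hS
    obtain ⟨g, rfl⟩ : K.IsPt S := by simpa [s] using hS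
    have e1 : t.bipartiteAbove (fun S T => S ≤ T) (cj g K.Z) =
        Finset.univ.image (fun x : F => cj g (cj (K.a x) K.D)) := by
      ext T
      simp only [Finset.bipartiteAbove, t, Finset.mem_filter, Finset.mem_univ, true_and,
        Finset.mem_image]
      constructor
      · rintro ⟨⟨g', rfl⟩, h2⟩
        obtain ⟨x, hx⟩ := keyZ (cj (g⁻¹ * g') K.D) ⟨_, rfl⟩ (by
          have := cj_mono (g := g⁻¹) h2
          rwa [cj_inv_cj, ← cj_mul] at this)
        refine ⟨x, ?_⟩
        rw [← hx, ← cj_mul]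
        congr 1
        group
      · rintro ⟨x, rfl⟩
        refine ⟨⟨g * K.a x, (cj_mul g (K.a x) K.D).symm⟩, ?_⟩
        apply cj_mono
        have := cj_mono (g := K.a x) H.Z_le_D
        rwa [H.cj_a_Z] at this
    rw [e1, Finset.card_image_of_injective, Finset.card_univ, Nat.card_eq_fintype_card]
    intro x y e
    have e2 : cj (K.a x) K.D = cj (K.a y) K.D := cj_inj e
    have e3 : cj (K.a (-y + x)) K.D = K.D := by
      rw [K.a_add, cj_mul, e2, K.a_neg, cj_inv_cj]
    have := hDs _ e3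
    linear_combination this
  have hn : ∀ T ∈ t, (s.bipartiteBelow (fun S T => S ≤ T) T).card = Nat.card K.E + 1 := by
    intro T hT
    obtain ⟨g, rfl⟩ : ∃ g, T = cj g K.D := by simpa [t] using hT
    have e1 : s.bipartiteBelow (fun S T => S ≤ T) (cj g K.D) =
        (insert K.Z (K.E.toFinite.toFinset)).image (cj g) := by
      ext S
      simp only [Finset.bipartiteBelow, s, Finset.mem_filter, Finset.mem_univ, true_and,
        Finset.mem_image, Finset.mem_insert, Set.Finite.mem_toFinset]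
      constructor
      · rintro ⟨h1, h2⟩
        refine ⟨cj g⁻¹ S, ?_, cj_cj_inv _ _⟩
        by_cases e : cj g⁻¹ S = K.Z
        · exact Or.inl e
        · right
          refine ⟨h1.cj _, e, ?_⟩
          have := cj_mono (g := g⁻¹) h2
          rwa [cj_inv_cj] at this
      · rintro ⟨S', h1, rfl⟩
        rcases h1 with rfl | ⟨h1, h2, h3⟩
        · exact ⟨⟨g, rfl⟩, cj_mono H.Z_le_D⟩
        · exact ⟨h1.cj _, cj_mono h3⟩
    rw [e1, Finset.card_image_of_injective _ (fun _ _ e => cj_inj e), Finset.card_insert_of_notMem]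
    · congr 1
      rw [← Set.ncard_eq_toFinset_card, Nat.card_coe_set_eq]
    · rw [Set.Finite.mem_toFinset]
      rintro ⟨-, h, -⟩
      exact h rfl
  have := Finset.card_mul_eq_card_mul _ hm hn
  have hs : s.card = Nat.card K.Pts := by
    rw [Nat.card_coe_set_eq, ← Set.ncard_coe_finset]
    congr 1
    ext S
    simp [s, Pts]
  rw [hs] at this
  rw [mul_comm (Nat.card F), this]
  exact ⟨_, mul_comm _ _⟩

theorem card_E_le : Nat.card K.E ≤ Nat.card F := by
  choose f hf using fun S : K.E => H.exists_coord S.2.1 S.2.2.1 S.2.2.2 1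
  apply Nat.card_le_card_of_injective f
  intro S S' e
  apply Subtype.ext
  have h1 := hf S
  rw [e] at h1
  apply H.ti S.2.1 S'.2.1 h1 (hf S')
  intro e2
  exact one_ne_zero (K.m_eq_one e2).1

end Hyp

end Co

/-- The squares. -/
def Sq (F : Type*) [Field F] : Subgroup Fˣ := (powMonoidHom 2 : Fˣ →* Fˣ).range

theorem card_Sq {F : Type*} [Field F] [Finite F] (h2 : (2 : F) ≠ 0) :
    Nat.card (Sq F) * 2 = Nat.card F - 1 := by
  have h1 := Subgroup.card_mul_index (powMonoidHom 2 : Fˣ →* Fˣ).ker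
  rw [Subgroup.index_ker] at h1
  have h3 : Nat.card (powMonoidHom 2 : Fˣ →* Fˣ).ker = 2 := by
    have e : ((powMonoidHom 2 : Fˣ →* Fˣ).ker : Set Fˣ) = {1, -1} := by
      ext x
      simp only [SetLike.mem_coe, MonoidHom.mem_ker, powMonoidHom_apply, Set.mem_insert_iff,
        Set.mem_singleton_iff]
      rw [Units.ext_iff, Units.ext_iff, Units.ext_iff, Units.val_pow_eq_pow_val, Units.val_one,
        Units.val_neg, Units.val_one, sq, mul_self_eq_one_iff]
    have e2 : Nat.card (powMonoidHom 2 : Fˣ →* Fˣ).ker =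
      (((powMonoidHom 2 : Fˣ →* Fˣ).ker : Set Fˣ)).ncard := (Nat.card_coe_set_eq _)
    rw [e2, e, Set.ncard_pair]
    intro e3
    apply h2
    have e4 := congrArg (fun x : Fˣ => (x : F)) e3
    simp only [Units.val_one, Units.val_neg] at e4
    linear_combination e4
  rw [h3, Nat.card_units] at h1
  change 2 * Nat.card (Sq F) = _ at h1
  rw [mul_comm, h1]

namespace Co
namespace Hyp

variable {G F : Type*} [Group G] [Field F] {K : Co G F} (H : K.Hyp) [Finite G] [Finite F]

include H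

/-- Only `±1` fixes a point in `D` other than `Z` and `b(F)`. -/
theorem sq_eq_one_of_fix {S : Subgroup G} (hS : S ∈ K.E) (hX : S ≠ K.X) {r : Fˣ}
    (hr : cj (K.h r) S = S) : (r : F) * r = 1 := by
  by_contra hne
  apply hX
  symm
  apply Subgroup.eq_of_le_of_card_ge _ (by rw [hS.1.card, K.card_X])
  rintro _ ⟨t, rfl⟩
  have hne' : (r : F) * r - 1 ≠ 0 := fun e => hne (by linear_combination e)
  obtain ⟨v, hv⟩ := H.exists_coord hS.1 hS.2.1 hS.2.2 (t / ((r : F) * r - 1))
  have h1 := conj_mem_cj (g := K.h r) hv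
  rw [hr, K.h_m, mul_inv_cancel_right] at h1
  have h2 := S.mul_mem h1 (S.inv_mem hv)
  rw [K.m_inv, K.m_mul, add_neg_cancel, mul_zero, neg_zero, add_zero] at h2
  have h3 : (r : F) * r * (t / ((r : F) * r - 1)) + -(t / ((r : F) * r - 1)) = t := by
    have h4 : (r : F) * r * (t / ((r : F) * r - 1)) + -(t / ((r : F) * r - 1)) =
      ((r : F) * r - 1) * (t / ((r : F) * r - 1)) := by ring
    rw [h4, mul_div_cancel₀ _ hne']
  rwa [h3, ← K.b_eq] at h2

theorem dvd_card_E (hm1 : ¬ IsSquare (-1 : F)) :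
    Nat.card (Sq F) ∣ Nat.card K.E ∨ Nat.card (Sq F) ∣ Nat.card K.E - 1 := by
  classical
  let X1 := {S : Subgroup G // S ∈ K.E ∧ S ≠ K.X}
  letI : MulAction (Sq F) X1 :=
    { smul := fun x S => ⟨cj (K.h x) S.1, H.E_cj_h S.2.1 _, fun e => S.2.2
        (cj_inj (e.trans (K.cj_h_X x).symm))⟩
      one_smul := fun S => Subtype.ext (by
        change cj (K.h ((1 : Sq F) : Fˣ)) S.1 = S.1
        rw [Subgroup.coe_one, K.h_one, cj_one])
      mul_smul := fun x y S => Subtype.ext (by
        change cj (K.h ((x * y : Sq F) : Fˣ)) S.1 = cj (K.h x) (cj (K.h y) S.1)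
        rw [Subgroup.coe_mul, K.h_mul, cj_mul]) }
  have h1 : Nat.card (Sq F) ∣ Nat.card X1 := by
    apply card_dvd_of_free
    intro x S e
    have e1 : cj (K.h x) S.1 = S.1 := congrArg Subtype.val e
    have e2 := H.sq_eq_one_of_fix S.2.1 S.2.2 e1
    obtain ⟨y, hy⟩ := x.2
    apply Subtype.ext
    apply Units.ext
    rw [Subgroup.coe_one, Units.val_one]
    rcases mul_self_eq_one_iff.mp e2 with h | h
    · exact h
    · exfalso
      apply hm1
      refine ⟨y, ?_⟩
      rw [← h, ← hy, powMonoidHom_apply, Units.val_pow_eq_pow_val, sq]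
  by_cases hX : K.X ∈ K.E
  · right
    have h2 : Nat.card K.E = Nat.card X1 + 1 := by
      have e : Nat.card X1 = (K.E \ {K.X}).ncard := by
        rw [← Nat.card_coe_set_eq]
        rfl
      rw [e, Nat.card_coe_set_eq, Set.ncard_sdiff_singleton_add_one hX]
    rw [h2, Nat.add_sub_cancel]
    exact h1
  · left
    have h2 : Nat.card K.E = Nat.card X1 := by
      refine Nat.card_congr (Equiv.subtypeEquivRight fun S => ?_)
      constructor
      · intro h
        exact ⟨h, fun e => hX (e ▸ h)⟩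
      · exact fun h => h.1
    rw [h2]
    exact h1

theorem card_Pts_dvd : Nat.card K.Pts ∣ Nat.card G := by
  classical
  letI : MulAction G (Subgroup G) :=
    { smul := cj
      one_smul := cj_one
      mul_smul := cj_mul }
  have h1 := Subgroup.card_mul_index (MulAction.stabilizer G K.Z)
  rw [MulAction.index_stabilizer] at h1
  have h2 : (MulAction.orbit G K.Z).ncard = Nat.card K.Pts := by
    rw [Nat.card_coe_set_eq]
    congr 1
    ext S
    constructor
    · rintro ⟨g, rfl⟩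
      exact ⟨g, rfl⟩
    · rintro ⟨g, rfl⟩
      exact ⟨g, rfl⟩
  rw [h2] at h1
  exact ⟨_, by rw [mul_comm]; exact h1.symm⟩

/-- A primitive prime divisor of `p ^ (6 n) - 1` does not divide the order of `G`. -/
theorem not_dvd_card {p n r : ℕ} (hp : p.Prime) (hn : 1 ≤ n) (hF : Nat.card F = p ^ n)
    (hr : r.Prime) (hrd : ∀ m, r ∣ p ^ m - 1 ↔ 6 * n ∣ m) (hrp : ¬ r ∣ p) : ¬ r ∣ Nat.card G := by
  intro hrG
  classical
  haveI := Fact.mk hr
  haveI := Fact.mk hp
  obtain ⟨g, hg⟩ := exists_prime_orderOf_dvd_card' r hrG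
  haveI hMn : K.M.Normal := ⟨fun x hx g => H.nrm g x hx⟩
  have hM3 : Nat.card K.M = p ^ (n * 3) := by rw [K.card_M, hF, pow_mul]
  -- `g` centralises `M`
  have hcent : ∀ x ∈ K.M, g * x = x * g := by
    letI : MulAction (Subgroup.zpowers g) K.M :=
      MulAction.compHom K.M ((MulAut.conjNormal (H := K.M)).comp (Subgroup.zpowers g).subtype)
    have hpg : IsPGroup r (Subgroup.zpowers g) := by
      apply IsPGroup.of_card (n := 1)
      rw [Nat.card_zpowers, hg, pow_one]
    have hmod := hpg.card_modEq_card_fixedPoints (α := K.M)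
    -- the fixed points form a subgroup
    let C : Subgroup K.M := (Subgroup.centralizer {g}).subgroupOf K.M
    have hC : Nat.card (MulAction.fixedPoints (Subgroup.zpowers g) K.M) = Nat.card C := by
      refine Nat.card_congr (Equiv.subtypeEquivRight fun x => ?_)
      rw [MulAction.mem_fixedPoints, Subgroup.mem_subgroupOf, Subgroup.mem_centralizer_singleton_iff]
      constructor
      · intro h
        have h1 := congrArg Subtype.val (h ⟨g, Subgroup.mem_zpowers g⟩)
        have h2 : g * (x : G) * g⁻¹ = x := h1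
        rw [mul_inv_eq_iff_eq_mul] at h2
        exact h2.symm
      · rintro h ⟨_, k, rfl⟩
        apply Subtype.ext
        change (g ^ k) * (x : G) * (g ^ k)⁻¹ = x
        have h3 : Commute g (x : G) := h.symm
        have h4 : (g ^ k) * (x : G) = x * g ^ k := (h3.zpow_left k)
        rw [h4, mul_inv_cancel_right]
    rw [hC, hM3] at hmod
    obtain ⟨j, hj, hj2⟩ := (Nat.dvd_prime_pow hp).mp (hM3 ▸ Subgroup.card_subgroup_dvd_card C)
    rw [hj2] at hmod
    have h5 : r ∣ p ^ (n * 3) - p ^ j := (Nat.modEq_iff_dvd' (Nat.pow_le_pow_right hp.pos hj)).mp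
      hmod.symm
    have h6 : p ^ (n * 3) - p ^ j = p ^ j * (p ^ (n * 3 - j) - 1) := by
      rw [Nat.mul_sub, mul_one, ← pow_add]
      congr 2
      omega
    rw [h6] at h5
    have h7 : r ∣ p ^ (n * 3 - j) - 1 := by
      rcases hr.dvd_mul.mp h5 with h | h
      · exact absurd (hr.dvd_of_dvd_pow h) hrp
      · exact h
    have h8 := (hrd _).mp h7
    have h9 : n * 3 - j = 0 := by
      by_contra hne
      have := Nat.le_of_dvd (Nat.pos_of_ne_zero hne) h8
      omega
    have h10 : j = n * 3 := by omega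
    have h11 : C = ⊤ := by
      apply Subgroup.eq_top_of_card_eq
      rw [hj2, h10, hM3]
    intro x hx
    have h12 : (⟨x, hx⟩ : K.M) ∈ C := by rw [h11]; exact Subgroup.mem_top _
    rw [Subgroup.mem_subgroupOf, Subgroup.mem_centralizer_singleton_iff] at h12
    exact h12.symm
  have h1 : g ∈ K.M := by
    obtain ⟨t, u, v, s, r', e⟩ := H.cent 1 one_ne_zero g (by
      have := hcent (K.d 1) ⟨0, 0, 1, K.d_eq 1⟩
      exact this)
    have h2 := hcent (K.c 1) ⟨0, 1, 0, K.c_eq 1⟩
    rw [e, K.c_eq, K.e_m] at h2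
    have h4 := mul_right_cancel h2
    simp only [mul_zero, mul_one, add_zero, zero_add] at h4
    obtain ⟨-, h5, h6⟩ := K.m_inj h4
    have hr' : r' = 1 := Units.ext h5
    subst hr'
    have hs : s = 0 := by
      simp only [Units.val_one, mul_one] at h6
      rcases mul_eq_zero.mp h6 with h7 | h7
      · exact absurd h7 H.two
      · exact h7
    subst hs
    rw [K.a_zero, K.h_one, mul_one, mul_one] at e
    exact ⟨t, u, v, e⟩
  have h2 : orderOf (⟨g, h1⟩ : K.M) ∣ Nat.card K.M := orderOf_dvd_natCard _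
  rw [Subgroup.orderOf_mk, hg, hM3] at h2
  exact hrp (hr.dvd_of_dvd_pow h2)

theorem card_E_ne {p n : ℕ} (hp : p.Prime) (hp2 : p ≠ 2) (hn : 1 ≤ n)
    (hF : Nat.card F = p ^ n) : Nat.card K.E ≠ Nat.card F - 1 := by
  intro hE
  obtain ⟨r, hr, hrd, -, hrp⟩ := Cfsg.Agent.Lib.Zsigmondy.exists_primitive (a := p) (n := 6 * n)
    hp.two_le (by omega) (fun h => by omega) (fun h => hp2 h.1)
  apply H.not_dvd_card hp hn hF hr hrd hrp
  refine dvd_trans ?_ H.card_Pts_dvd
  rw [H.card_Pts, hE, hF]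
  have h1 : r ∣ p ^ (6 * n) - 1 := (hrd _).mpr dvd_rfl
  have h2 : ¬ r ∣ p ^ (3 * n) - 1 := by
    rw [hrd]
    intro h
    have := Nat.le_of_dvd (by omega) h
    omega
  have h3 : ¬ r ∣ p ^ (2 * n) - 1 := by
    rw [hrd]
    intro h
    have := Nat.le_of_dvd (by omega) h
    omega
  have e3 : p ^ (3 * n) = (p ^ n) ^ 3 := by rw [← pow_mul, mul_comm]
  have e2 : p ^ (2 * n) = (p ^ n) ^ 2 := by rw [← pow_mul, mul_comm]
  have e6 : p ^ (6 * n) = (p ^ n) ^ 6 := by rw [← pow_mul, mul_comm]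
  rw [e6] at h1
  rw [e3] at h2
  rw [e2] at h3
  have hq : 1 ≤ p ^ n := Nat.one_le_pow _ _ hp.pos
  generalize p ^ n = q at h1 h2 h3 hq
  obtain ⟨k, rfl⟩ : ∃ k, q = k + 1 := ⟨q - 1, by omega⟩
  have f6 : (k + 1) ^ 6 - 1 = ((k + 1) ^ 3 - 1) * ((k + 1) + 1) * (1 + (k + 1) * (k + 1 - 1)) := by
    zify [Nat.one_le_pow 6 (k + 1) (by omega), Nat.one_le_pow 3 (k + 1) (by omega)]
    simp only [Nat.add_sub_cancel]
    ring
  have f2 : (k + 1) ^ 2 - 1 = (k + 1 + 1) * k := by
    zify [Nat.one_le_pow 2 (k + 1) (by omega)]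
    ring
  rw [f6] at h1
  rcases hr.dvd_mul.mp h1 with h | h
  · exfalso
    rcases hr.dvd_mul.mp h with h | h
    · exact h2 h
    · apply h3
      rw [f2]
      exact Dvd.dvd.mul_right h k
  · exact h

/-- **There is exactly one point other than `Z` in `D`.** -/
theorem card_E {p n : ℕ} (hp : p.Prime) (hp2 : p ≠ 2) (hn : 1 ≤ n)
    (hF : Nat.card F = p ^ n) (h4 : p ^ n % 4 = 3) (hm1 : ¬ IsSquare (-1 : F)) :
    Nat.card K.E = 1 := by
  have h1 := card_Sq H.two
  have h2 := H.card_dvd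
  rw [H.card_Pts] at h2
  have h3 := H.card_E_le
  have h5 := H.card_E_ne hp hp2 hn hF
  have h6 := H.dvd_card_E hm1
  have h7 : 1 ≤ Nat.card K.E := by
    obtain ⟨S, hS⟩ := H.E_nonempty
    haveI : Nonempty K.E := ⟨⟨S, hS⟩⟩
    exact Nat.card_pos
  rw [hF] at h1 h2 h3 h5
  generalize Nat.card K.E = k at *
  generalize Nat.card (Sq F) = h at *
  generalize p ^ n = q at *
  have hq : q = 2 * h + 1 := by omega
  subst hq
  exact arith (by omega) (by omega) h7 h3 h2 h6 (by omega)

end Hyp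

end Co

end Cfsg.Agent.H339
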