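import Cfsg.Agent.H339.Fin

/-!
# The quotient `N_G(M)/M`: conclusion (helper339, S3324)
-/

set_option autoImplicit false
set_option linter.unusedSectionVars false
open Subgroup

namespace Cfsg.Agent.H339.Co

variable {G F : Type*} [Group G] [Field F]

namespace Hyp2

variable {K : Co G F} (H : K.Hyp2)

/-- The permutation representation of the quotient. -/
noncomputable def perm' [K.M.Normal] (H : K.Hyp2) : G ⧸ K.M →* Equiv.Perm K.Pts :=
  QuotientGroup.lift K.M K.perm H.M_le_ker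

variable [Finite G] [Finite F]

include H

theorem exists_dat [K.M.Normal] : ∃ n : G,
    Sharp.Dat H.perm' (fun s => (K.a s : G ⧸ K.M)) (fun r => (K.h r : G ⧸ K.M)) (n : G ⧸ K.M)
      (⟨K.Z, isPt_Z⟩ : K.Pts) (⟨K.X, H.isPt_X⟩ : K.Pts) ∧ cj n K.Z = K.X ∧ cj n K.X = K.Z := by
  obtain ⟨n, hn1, hn2⟩ := H.exists_swap
  have hperm : ∀ (g : G) (S : K.Pts), (H.perm' (g : G ⧸ K.M) S).1 = cj g S.1 := fun _ _ => rfl
  refine ⟨n, ?_, hn1, hn2⟩
  exact
  { ne := fun e => H.X_mem.2.1 (congrArg Subtype.val e).symm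
    a_add := fun s t => by rw [K.a_add, QuotientGroup.mk_mul]
    h_mul := fun s t => by rw [K.h_mul, QuotientGroup.mk_mul]
    a_i := fun s => Subtype.ext (H.cj_a_Z s)
    h_i := fun s => Subtype.ext (H.cj_h_Z s)
    h_z := fun s => Subtype.ext (K.cj_h_X s)
    ex := by
      rintro ⟨S, hS⟩ hne
      rcases H.pt_cases hS with h | ⟨s, hs⟩
      · exact absurd (Subtype.ext h) hne
      · exact ⟨s, Subtype.ext hs.symm⟩
    inj := fun s hs => H.cj_a_X (congrArg Subtype.val hs)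
    ha := fun r s => by
      rw [← QuotientGroup.mk_mul, K.ha, QuotientGroup.mk_mul]
    nrm := by
      intro k
      obtain ⟨k, rfl⟩ := QuotientGroup.mk_surjective k
      intro hk s
      have hZ : cj k K.Z = K.Z := congrArg Subtype.val hk
      obtain ⟨t, u, v, s', e⟩ := H.conj_a hZ s
      refine ⟨s', ?_⟩
      have e2 : k * K.a s = K.m t u v * K.a s' * k := by rw [← e]; group
      rw [← QuotientGroup.mk_mul, e2, mul_assoc, QuotientGroup.mk_mul,
        (QuotientGroup.eq_one_iff _).mpr (K.m_mem t u v), one_mul, QuotientGroup.mk_mul]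
    com := by
      intro k
      obtain ⟨k, rfl⟩ := QuotientGroup.mk_surjective k
      intro h1 h2 r
      have hZ : cj k K.Z = K.Z := congrArg Subtype.val h1
      have hX : cj k K.X = K.X := congrArg Subtype.val h2
      have h3 := H.comm_h hZ hX r
      rw [← QuotientGroup.eq_one_iff] at h3
      rw [← QuotientGroup.mk_mul, ← QuotientGroup.mk_mul]
      have e2 : k * K.h r = (k * K.h r * k⁻¹ * (K.h r)⁻¹) * (K.h r * k) := by group
      rw [e2, QuotientGroup.mk_mul, h3, one_mul]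
    n_i := Subtype.ext hn1
    n_z := Subtype.ext hn2 }

/-- The relation `k` acts on `X` as multiplication by `x`. -/
def Rel (K : Co G F) (k : G) (x : Fˣ) : Prop := ∀ t, k * K.b t = K.b ((x : F) * t) * k

omit H [Finite G] [Finite F] in
theorem Rel.unique {k : G} {x y : Fˣ} (hx : Rel K k x) (hy : Rel K k y) : x = y := by
  have h1 := hx 1
  rw [hy 1] at h1
  have h2 := K.b_inj (mul_right_cancel h1)
  rw [mul_one, mul_one] at h2
  exact Units.ext h2.symm

omit H [Finite G] [Finite F] in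
theorem Rel.mul {k l : G} {x y : Fˣ} (hx : Rel K k x) (hy : Rel K l y) : Rel K (k * l) (x * y) := by
  intro t
  rw [mul_assoc, hy, ← mul_assoc, hx, mul_assoc, Units.val_mul, mul_assoc]

omit H [Finite G] [Finite F] in
theorem Rel.of_mem {k : G} (hk : k ∈ K.M) : Rel K k 1 := by
  intro t
  obtain ⟨t', u, v, rfl⟩ := hk
  rw [K.b_eq, Units.val_one, one_mul, K.b_eq, K.m_comm]

omit H [Finite G] [Finite F] in
theorem Rel.h (r : Fˣ) : Rel K (K.h r) (r * r) := by
  intro t
  rw [K.hb, Units.val_mul]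

theorem exists_rel {k : G} (hX : cj k K.X = K.X) : ∃ r : Fˣ, Rel K k (r * r) := by
  obtain ⟨r, hr⟩ := H.fusion_X hX
  refine ⟨r, fun t => ?_⟩
  rw [Units.val_mul, ← hr t]
  group

theorem ker_rel [K.M.Normal] (k : H.perm'.ker) : ∃ x : Fˣ, x ∈ Sq F ∧ ∀ g : G,
    (g : G ⧸ K.M) = k → Rel K g x := by
  obtain ⟨k, hk⟩ := k
  obtain ⟨g, rfl⟩ := QuotientGroup.mk_surjective k
  have hX : cj g K.X = K.X := by
    have h1 := congrArg (fun f => f (⟨K.X, H.isPt_X⟩ : K.Pts)) ((MonoidHom.mem_ker).mp hk)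
    exact congrArg Subtype.val h1
  obtain ⟨r, hr⟩ := H.exists_rel hX
  refine ⟨r * r, ⟨r, by rw [powMonoidHom_apply, sq]⟩, ?_⟩
  intro g' hg'
  have h1 : g⁻¹ * g' ∈ K.M := (QuotientGroup.eq).mp hg'.symm
  have h2 := hr.mul (Rel.of_mem h1)
  rw [mul_one, mul_inv_cancel_left] at h2
  exact h2

/-- The kernel is cyclic of order `(q-1)/2`. -/
theorem ker_cyclic [K.M.Normal] : IsCyclic H.perm'.ker ∧ Nat.card H.perm'.ker = Nat.card (Sq F) := by
  obtain ⟨n, D, hn1, hn2⟩ := H.exists_dat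
  choose f hf1 hf2 using H.ker_rel
  let φ : H.perm'.ker →* Fˣ := MonoidHom.mk' f (by
    intro k l
    obtain ⟨k, hk⟩ := k
    obtain ⟨l, hl⟩ := l
    obtain ⟨k, rfl⟩ := QuotientGroup.mk_surjective k
    obtain ⟨l, rfl⟩ := QuotientGroup.mk_surjective l
    have h1 := hf2 ⟨_, hk⟩ k rfl
    have h2 := hf2 ⟨_, hl⟩ l rfl
    have h3 := hf2 (⟨_, hk⟩ * ⟨_, hl⟩) (k * l) rfl
    exact h3.unique (h1.mul h2))
  have hinj : Function.Injective φ := by
    rw [injective_iff_map_eq_one]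
    rintro ⟨k, hk⟩ e
    obtain ⟨k, rfl⟩ := QuotientGroup.mk_surjective k
    have h1 : Rel K k 1 := by
      have h2 := hf2 ⟨_, hk⟩ k rfl
      have e' : f ⟨(k : G ⧸ K.M), hk⟩ = 1 := e
      rwa [e'] at h2
    -- conjugate by `n`
    have h2 : ((n⁻¹ * k * n : G) : G ⧸ K.M) ∈ H.perm'.ker := by
      have := (MonoidHom.normal_ker H.perm').conj_mem _ hk ((n⁻¹ : G) : G ⧸ K.M)
      rw [← QuotientGroup.mk_inv, ← QuotientGroup.mk_mul, ← QuotientGroup.mk_mul, inv_inv] at this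
      exact this
    have hX : cj (n⁻¹ * k * n) K.X = K.X := by
      have h3 := congrArg (fun f => f (⟨K.X, H.isPt_X⟩ : K.Pts)) ((MonoidHom.mem_ker).mp h2)
      exact congrArg Subtype.val h3
    have hd : (n⁻¹ * k * n) * K.d 1 = K.d 1 * (n⁻¹ * k * n) := by
      have h4 : n * K.d 1 * n⁻¹ ∈ K.X := by
        rw [← hn1]; exact conj_mem_cj ⟨1, rfl⟩
      obtain ⟨t, ht⟩ := h4
      have h5 : K.d 1 = n⁻¹ * K.b t * n := by rw [← ht]; group
      have h6 := h1 t
      rw [Units.val_one, one_mul] at h6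
      rw [h5]
      calc n⁻¹ * k * n * (n⁻¹ * K.b t * n) = n⁻¹ * (k * K.b t) * n := by group
        _ = n⁻¹ * (K.b t * k) * n := by rw [h6]
        _ = _ := by group
    obtain ⟨t, u, v, r, e2⟩ := H.eq_of_fix hX hd
    have h7 : ((K.h r : G) : G ⧸ K.M) ∈ H.perm'.ker := by
      rw [e2, QuotientGroup.mk_mul, (QuotientGroup.eq_one_iff _).mpr (K.m_mem t u v), one_mul] at h2
      exact h2
    have h8 : r = 1 := D.h_ker h7
    rw [h8, K.h_one, mul_one] at e2
    have h9 : n⁻¹ * k * n ∈ K.M := by rw [e2]; exact K.m_mem t u v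
    have h10 := H.nrm n _ h9
    have e3 : n * (n⁻¹ * k * n) * n⁻¹ = k := by group
    rw [e3] at h10
    apply Subtype.ext
    exact (QuotientGroup.eq_one_iff _).mpr h10
  have hrange : φ.range = Sq F := by
    apply le_antisymm
    · rintro _ ⟨k, rfl⟩
      exact hf1 k
    · rintro x ⟨ρ, hρ⟩
      have hx : x = ρ * ρ := by rw [← hρ, powMonoidHom_apply, sq]
      have hn1' : cj n⁻¹ K.X = K.Z := by rw [← hn1, cj_inv_cj]
      have hn2' : cj n⁻¹ K.Z = K.X := by rw [← hn2, cj_inv_cj]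
      obtain ⟨r, hr⟩ := D.exists_h (k := ((n⁻¹ * K.h ρ * n : G) : G ⧸ K.M))
        (Subtype.ext (by
          change cj (n⁻¹ * K.h ρ * n) K.Z = K.Z
          rw [cj_mul, cj_mul, hn1, K.cj_h_X, hn1']))
        (Subtype.ext (by
          change cj (n⁻¹ * K.h ρ * n) K.X = K.X
          rw [cj_mul, cj_mul, hn2, H.cj_h_Z, hn2']))
      have h2 : ((n * (n⁻¹ * K.h ρ * n * K.h r) * n⁻¹ : G) : G ⧸ K.M) ∈ H.perm'.ker := by
        have := (MonoidHom.normal_ker H.perm').conj_mem _ hr ((n : G) : G ⧸ K.M)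
        rw [← QuotientGroup.mk_inv, ← QuotientGroup.mk_mul, ← QuotientGroup.mk_mul,
          ← QuotientGroup.mk_mul] at this
        exact this
      refine ⟨⟨_, h2⟩, ?_⟩
      have h3 := hf2 ⟨_, h2⟩ _ rfl
      have h4 : Rel K (n * K.h r * n⁻¹) 1 := by
        intro t
        have h5 : n⁻¹ * K.b t * n ∈ K.Z := by
          have := conj_mem_cj (g := n⁻¹) (S := K.X) (x := K.b t) ⟨t, rfl⟩
          rwa [hn1', inv_inv] at this
        obtain ⟨v, hv⟩ := h5
        have h6 : K.b t = n * K.d v * n⁻¹ := by rw [← hv]; group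
        rw [Units.val_one, one_mul, h6]
        calc n * K.h r * n⁻¹ * (n * K.d v * n⁻¹) = n * (K.h r * K.d v) * n⁻¹ := by group
          _ = n * (K.d v * K.h r) * n⁻¹ := by rw [K.hd]
          _ = _ := by group
      have h5 : Rel K (n * (n⁻¹ * K.h ρ * n * K.h r) * n⁻¹) (ρ * ρ * 1) := by
        have e : n * (n⁻¹ * K.h ρ * n * K.h r) * n⁻¹ = K.h ρ * (n * K.h r * n⁻¹) := by group
        rw [e]
        exact (Rel.h ρ).mul h4
      rw [mul_one] at h5
      rw [hx]
      exact h3.unique h5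
  constructor
  · exact isCyclic_of_injective φ hinj
  · rw [← hrange]
    exact Nat.card_congr (MonoidHom.ofInjective hinj).toEquiv

end Hyp2

/-- **The structure of `N_G(M)/M`.** -/
theorem Hyp.main {K : Co G F} (H : K.Hyp) [Finite G] [Fintype F] {p n : ℕ} (hp : p.Prime)
    (hp2 : p ≠ 2) (hn : 1 ≤ n) (hF : Fintype.card F = p ^ n) (h4 : p ^ n % 4 = 3) [K.M.Normal] :
    Nonempty (G ⧸ K.M ≃* Matrix.ProjGenLinGroup (Fin 2) F ×
      Multiplicative (ZMod ((p ^ n - 1) / 2))) := by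
  have hF' : Nat.card F = p ^ n := by rw [Nat.card_eq_fintype_card, hF]
  have hm1 : ¬ IsSquare (-1 : F) := by
    rw [FiniteField.isSquare_neg_one_iff, hF]
    exact fun h => h h4
  have hE := H.card_E hp hp2 hn hF' h4 hm1
  obtain ⟨K', hM, H'⟩ := H.exists_hyp2 hE hm1
  haveI : K'.M.Normal := H'.M_normal
  obtain ⟨x, D, -, -⟩ := H'.exists_dat
  have hodd : Odd n := by
    rcases Nat.even_or_odd n with ⟨m, hm⟩ | h
    · exfalso
      have h5 : p ^ n = (p ^ m) ^ 2 := by rw [hm, ← pow_mul]; ring_nf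
      rw [h5] at h4
      have h6 : (p ^ m) % 4 = 0 ∨ (p ^ m) % 4 = 1 ∨ (p ^ m) % 4 = 2 ∨ (p ^ m) % 4 = 3 := by omega
      rcases h6 with h | h | h | h <;> simp [Nat.pow_mod, h] at h4
    · exact h
  have hcard : Nat.card (Sq F) = (p ^ n - 1) / 2 := by
    have := card_Sq H.two
    rw [hF'] at this
    omega
  obtain ⟨e⟩ := D.main hp hp2 hodd hF h4 H'.ker_cyclic.1 (H'.ker_cyclic.2.trans hcard)
  exact ⟨(QuotientGroup.quotientMulEquivOfEq hM.symm).trans e⟩

end Cfsg.Agent.H339.Co
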