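import Cfsg.Agent.H339.CoMap
import Cfsg.Agent.H339.SpIso
import Cfsg.Agent.H339.Quot
import Cfsg.Agent.S0051

/-!
# Assembly of S3324 (helper339)
-/

set_option autoImplicit false
set_option linter.unusedSectionVars false
set_option linter.unusedVariables false
open Subgroup

namespace Cfsg.Agent.H339

theorem mem_nrm {G : Type*} [Group G] [Finite G] {M : Subgroup G} {x : G}
    (h : ∀ y ∈ M, x * y * x⁻¹ ∈ M) : x ∈ Subgroup.normalizer (M : Set G) := by
  have h1 : cj x M ≤ M := by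
    intro z hz
    rw [mem_cj] at hz
    have := h _ hz
    have e : x * (x⁻¹ * z * x) * x⁻¹ = z := by group
    rwa [e] at this
  have h2 : cj x M = M := Subgroup.eq_of_le_of_card_ge h1 (by rw [card_cj])
  rw [Subgroup.mem_normalizer_iff]
  intro y
  constructor
  · exact h y
  · intro hy
    change x * y * x⁻¹ ∈ M at hy
    rw [← h2, mem_cj] at hy
    have e : x⁻¹ * (x * y * x⁻¹) * x = y := by group
    rwa [e] at hy

/-- Abstract form of the last step: coordinates in `G` with `P = K.P` Sylow, `M = K.M`. -/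
theorem final {G F : Type*} [Group G] [Finite G] [Field F] [Fintype F] {p n : ℕ}
    [Fact p.Prime] (hp2 : p ≠ 2) (hn : 1 ≤ n) (h4 : p ^ n % 4 = 3) (hF : Fintype.card F = p ^ n)
    (h2 : (2 : F) ≠ 0) (K : Co G F)
    (cent : ∀ v, v ≠ 0 → ∀ g, (∀ y ∈ K.M, g * y * g⁻¹ ∈ K.M) → g * K.d v = K.d v * g →
      ∃ t u v' s r, g = K.m t u v' * K.a s * K.h r)
    (hc : ∃ (u v : G) (Pu Pv : Sylow p G), orderOf u = p ∧ orderOf v = p ∧
      u ∈ (Pu : Subgroup G) ∧ (∀ y ∈ (Pu : Subgroup G), y * u = u * y) ∧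
      v ∈ (Pv : Subgroup G) ∧ (∀ y ∈ (Pv : Subgroup G), y * v = v * y) ∧ ∀ g : G, g * u * g⁻¹ ≠ v)
    (P : Sylow p G) (hP : K.P = P)
    (hnc : ∃ Q R : Sylow p ↥(Subgroup.normalizer (K.M : Set G)), Q ≠ R) :
    ∃ J : Subgroup G, J ≤ Subgroup.normalizer (K.M : Set G) ∧
      K.M ⊔ J = Subgroup.normalizer (K.M : Set G) ∧ K.M ⊓ J = ⊥ ∧
      Nonempty (↥J ≃* (Matrix.ProjGenLinGroup (Fin 2) F ×
        Multiplicative (ZMod ((p ^ n - 1) / 2)))) := by
  classical
  have hp : p.Prime := Fact.out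
  set N := Subgroup.normalizer (K.M : Set G) with hN
  have hPN : ∀ x ∈ K.P, x ∈ N := fun x hx => mem_nrm (K.M_normal_P x hx)
  have ha : ∀ s, K.a s ∈ N := fun s => hPN _ (K.A_le_P ⟨s, rfl⟩)
  have hb : ∀ s, K.b s ∈ N := fun s => hPN _ (K.M_le_P ⟨s, 0, 0, K.b_eq s⟩)
  have hc' : ∀ s, K.c s ∈ N := fun s => hPN _ (K.M_le_P ⟨0, s, 0, K.c_eq s⟩)
  have hd : ∀ s, K.d s ∈ N := fun s => hPN _ (K.M_le_P ⟨0, 0, s, K.d_eq s⟩)
  have hh : ∀ r, K.h r ∈ N := by
    intro r
    apply mem_nrm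
    rintro _ ⟨t, u, v, rfl⟩
    rw [K.h_m, mul_inv_cancel_right]
    exact K.m_mem _ _ _
  let L : Co N F := K.res N ha hb hc' hd hh
  have hPleN : (P : Subgroup G) ≤ N := by rw [← hP]; exact hPN
  have hLP : L.P = (P : Subgroup G).subgroupOf N := by
    ext x
    rw [Subgroup.mem_subgroupOf, ← hP]
    exact Co.mem_res_P
  have hNM : ∀ g : N, ∀ y ∈ K.M, (g : G) * y * (g : G)⁻¹ ∈ K.M := by
    intro g y hy
    exact (Subgroup.mem_normalizer_iff.mp g.2 y).mp hy
  have hcentL : ∀ v, v ≠ 0 → ∀ g : N, g * L.d v = L.d v * g →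
      ∃ t u v' s r, g = L.m t u v' * L.a s * L.h r := by
    intro v hv g hg
    obtain ⟨t, u, v', s, r, e⟩ := cent v hv g (hNM g) (congrArg Subtype.val hg)
    exact ⟨t, u, v', s, r, Subtype.ext e⟩
  have hnrm : ∀ g : N, ∀ x ∈ L.M, g * x * g⁻¹ ∈ L.M := by
    intro g x hx
    rw [Co.mem_res_M] at hx ⊢
    exact hNM g _ hx
  -- `p`-central elements
  have hcen : ∀ (u : G) (Q : Sylow p G), orderOf u = p → u ∈ (Q : Subgroup G) →
      (∀ y ∈ (Q : Subgroup G), y * u = u * y) → ∃ g : G, ∃ w, w ≠ 0 ∧ g * u * g⁻¹ = K.d w := by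
    intro u Q hu huQ huc
    obtain ⟨g, hg⟩ := MulAction.exists_smul_eq G Q P
    have hg' : ∀ y, y ∈ (P : Subgroup G) → g⁻¹ * y * g ∈ (Q : Subgroup G) := by
      intro y hy
      rw [← hg] at hy
      have hy' : y ∈ cj g (Q : Subgroup G) := hy
      rwa [mem_cj] at hy'
    have h1 : g * u * g⁻¹ ∈ K.P := by
      rw [hP, ← hg]
      change _ ∈ cj g (Q : Subgroup G)
      exact conj_mem_cj huQ
    have h3 : g * u * g⁻¹ ∈ K.Z := by
      apply K.mem_Z_of_comm_P h2 h1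
      intro y hy
      rw [hP] at hy
      have h4 := huc _ (hg' y hy)
      calc y * (g * u * g⁻¹) = g * (g⁻¹ * y * g * u) * g⁻¹ := by group
        _ = g * (u * (g⁻¹ * y * g)) * g⁻¹ := by rw [h4]
        _ = _ := by group
    obtain ⟨w, hw⟩ := h3
    refine ⟨g, w, ?_, hw⟩
    rintro rfl
    rw [K.d_zero] at hw
    have : u = 1 := by
      have e : u = g⁻¹ * (g * u * g⁻¹) * g := by group
      rw [e, hw]; group
    rw [this, orderOf_one] at hu
    exact hp.one_lt.ne hu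
  have H : L.Hyp := by
    refine ⟨hcentL, hnrm, ?_, h2, ?_⟩
    · by_contra hcon
      push Not at hcon
      obtain ⟨u, v, Pu, Pv, hu, hv, huP, huc, hvP, hvc, huv⟩ := hc
      obtain ⟨g1, w1, hw1, e1⟩ := hcen u Pu hu huP huc
      obtain ⟨g2, w2, hw2, e2⟩ := hcen v Pv hv hvP hvc
      obtain ⟨k1, hk1⟩ := hcon w1 hw1
      obtain ⟨k2, hk2⟩ := hcon w2 hw2
      have f1 : (k1 : G) * K.d 1 * (k1 : G)⁻¹ = K.d w1 := congrArg Subtype.val hk1
      have f2 : (k2 : G) * K.d 1 * (k2 : G)⁻¹ = K.d w2 := congrArg Subtype.val hk2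
      apply huv (g2⁻¹ * k2 * (k1 : G)⁻¹ * g1)
      have e3 : g2⁻¹ * k2 * (k1 : G)⁻¹ * g1 * u * (g2⁻¹ * k2 * (k1 : G)⁻¹ * g1)⁻¹ =
          g2⁻¹ * (k2 * ((k1 : G)⁻¹ * (g1 * u * g1⁻¹) * k1) * (k2 : G)⁻¹) * g2 := by group
      have e4 : (k1 : G)⁻¹ * (g1 * u * g1⁻¹) * k1 = K.d 1 := by
        rw [e1, ← f1]; group
      rw [e3, e4, f2, ← e2]
      group
    · by_contra hcon
      push Not at hcon
      have hnorm : L.P.Normal := by
        constructor
        rintro _ ⟨t, u, v, s, rfl⟩ g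
        obtain ⟨t', u', v', s', e⟩ := L.conj_a' hcentL (hcon g) s
        have e1 : g * (L.m t u v * L.a s) * g⁻¹ = (g * L.m t u v * g⁻¹) * (g * L.a s * g⁻¹) := by
          group
        rw [e1, e]
        exact L.P.mul_mem (L.M_le_P (hnrm g _ (L.m_mem _ _ _))) ⟨_, _, _, _, rfl⟩
      obtain ⟨Q, R, hQR⟩ := hnc
      have hPs : IsPGroup p L.P := by
        rw [hLP]
        exact P.isPGroup'.comap_subtype
      have hLS : ∀ Q : Sylow p N, (Q : Subgroup N) = L.P := by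
        -- `L.P` is Sylow
        have hidx : ¬ p ∣ L.P.index := by
          rw [hLP]
          intro h
          have h5 := Subgroup.relIndex_mul_index hPleN
          have h6 : ¬ p ∣ (P : Subgroup G).index := P.not_dvd_index
          apply h6
          rw [← h5]
          exact dvd_mul_of_dvd_left h _
        let S : Sylow p N := hPs.toSylow hidx
        intro Q
        haveI : (S : Subgroup N).Normal := hnorm
        obtain ⟨g, hg⟩ := MulAction.exists_smul_eq N S Q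
        rw [← hg, Sylow.smul_eq_of_normal]
        rfl
      apply hQR
      apply Sylow.ext
      rw [hLS Q, hLS R]
  haveI : L.M.Normal := ⟨fun x hx g => hnrm g x hx⟩
  obtain ⟨e⟩ := H.main hp hp2 hn hF h4
  haveI : IsMulCommutative L.M := by
    constructor
    constructor
    rintro ⟨_, t, u, v, rfl⟩ ⟨_, t', u', v', rfl⟩
    exact Subtype.ext (L.m_comm _ _ _ _ _ _)
  obtain ⟨J, hJ⟩ := Cfsg.Agent.S0051.result L.M L.P L.M_le_P (by
    rw [L.card_M, Nat.card_eq_fintype_card, hF, ← pow_mul]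
    apply Nat.Coprime.pow_left
    rw [Nat.Prime.coprime_iff_not_dvd hp, hLP]
    intro h
    have h5 := Subgroup.relIndex_mul_index hPleN
    have h6 : ¬ p ∣ (P : Subgroup G).index := P.not_dvd_index
    apply h6
    rw [← h5]
    exact dvd_mul_of_dvd_left h _) L.A L.A_le_P (L.A_inf_M h2) L.M_sup_A
  have hMmap : L.M.map N.subtype = K.M := by
    ext x
    constructor
    · rintro ⟨y, hy, rfl⟩
      exact Co.mem_res_M.mp hy
    · intro hx
      exact ⟨⟨x, hPN x (K.M_le_P hx)⟩, Co.mem_res_M.mpr hx, rfl⟩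
  have hJ' := hJ.sup_eq_top
  have hJ'' := hJ.disjoint.eq_bot
  refine ⟨J.map N.subtype, ?_, ?_, ?_, ?_⟩
  · rintro _ ⟨x, -, rfl⟩
    exact x.2
  · rw [← hMmap, ← Subgroup.map_sup, hJ', ← MonoidHom.range_eq_map, Subgroup.range_subtype]
  · rw [← hMmap, ← Subgroup.map_inf _ _ _ N.subtype_injective, hJ'', Subgroup.map_bot]
  · exact ⟨(J.equivMapOfInjective _ N.subtype_injective).symm.trans
      (hJ.symm.QuotientMulEquiv.symm.trans e)⟩

end Cfsg.Agent.H339
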