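import Mathlib

/-!
# Coordinates for the local structure of `PSp₄(q)` in a group (helper339, S3324)

`Co G F` : root elements `a s`, `b t`, `c u`, `d v` (`d` the highest root) and a torus `h r`,
with the relations of the maximal parabolic subgroups of `Sp₄(F)`.
-/

set_option autoImplicit false
open Subgroup

namespace Cfsg.Agent.H339

/-- Coordinates. -/
structure Co (G F : Type*) [Group G] [Field F] where
  a : F → G
  b : F → G
  c : F → G
  d : F → G
  h : Fˣ → G
  a_add : ∀ s t, a (s + t) = a s * a t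
  b_add : ∀ s t, b (s + t) = b s * b t
  c_add : ∀ s t, c (s + t) = c s * c t
  d_add : ∀ s t, d (s + t) = d s * d t
  h_mul : ∀ r r', h (r * r') = h r * h r'
  cb : ∀ t u, c u * b t = b t * c u
  db : ∀ t v, d v * b t = b t * d v
  dc : ∀ u v, d v * c u = c u * d v
  ad : ∀ s v, a s * d v = d v * a s
  ab : ∀ s t, a s * b t = b t * c (s * t) * d (s * s * t) * a s
  ac : ∀ s u, a s * c u = c u * d (2 * s * u) * a s
  ha : ∀ (r : Fˣ) s, h r * a s = a ((↑r⁻¹ : F) * s) * h r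
  hb : ∀ (r : Fˣ) t, h r * b t = b ((r : F) * r * t) * h r
  hc : ∀ (r : Fˣ) u, h r * c u = c ((r : F) * u) * h r
  hd : ∀ (r : Fˣ) v, h r * d v = d v * h r
  inj : ∀ t u v, b t * c u * d v = 1 → t = 0 ∧ u = 0 ∧ v = 0

namespace Co

variable {G F : Type*} [Group G] [Field F] (K : Co G F)

theorem hom_zero {f : F → G} (hf : ∀ s t, f (s + t) = f s * f t) : f 0 = 1 := by
  have := hf 0 0
  rw [add_zero] at this
  exact (mul_eq_left.mp this.symm)

theorem a_zero : K.a 0 = 1 := hom_zero K.a_add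
theorem b_zero : K.b 0 = 1 := hom_zero K.b_add
theorem c_zero : K.c 0 = 1 := hom_zero K.c_add
theorem d_zero : K.d 0 = 1 := hom_zero K.d_add

theorem h_one : K.h 1 = 1 := by
  have := K.h_mul 1 1
  rw [mul_one] at this
  exact (mul_eq_left.mp this.symm)

theorem h_inv (r : Fˣ) : K.h r⁻¹ = (K.h r)⁻¹ := by
  rw [eq_inv_iff_mul_eq_one, ← K.h_mul, inv_mul_cancel, K.h_one]

theorem a_neg (s : F) : K.a (-s) = (K.a s)⁻¹ := by
  rw [eq_inv_iff_mul_eq_one, ← K.a_add, neg_add_cancel, K.a_zero]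

theorem a_comm (s t : F) : K.a s * K.a t = K.a t * K.a s := by
  rw [← K.a_add, ← K.a_add, add_comm]

/-- The elements of `M`. -/
def m (t u v : F) : G := K.b t * K.c u * K.d v

theorem m_mul (t u v t' u' v' : F) :
    K.m t u v * K.m t' u' v' = K.m (t + t') (u + u') (v + v') := by
  unfold m
  rw [K.b_add, K.c_add, K.d_add]
  calc K.b t * K.c u * K.d v * (K.b t' * K.c u' * K.d v')
      = K.b t * K.c u * (K.d v * K.b t') * (K.c u' * K.d v') := by group
    _ = K.b t * (K.c u * K.b t') * (K.d v * K.c u') * K.d v' := by rw [K.db]; group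
    _ = K.b t * K.b t' * (K.c u * K.c u') * (K.d v * K.d v') := by rw [K.cb, K.dc]; group

theorem m_zero : K.m 0 0 0 = 1 := by
  unfold m; rw [K.b_zero, K.c_zero, K.d_zero]; simp

theorem m_inv (t u v : F) : (K.m t u v)⁻¹ = K.m (-t) (-u) (-v) := by
  rw [inv_eq_iff_mul_eq_one, K.m_mul]
  simp [K.m_zero]

theorem m_comm (t u v t' u' v' : F) :
    K.m t u v * K.m t' u' v' = K.m t' u' v' * K.m t u v := by
  rw [K.m_mul, K.m_mul, add_comm t, add_comm u, add_comm v]

theorem m_eq_one {t u v : F} (e : K.m t u v = 1) : t = 0 ∧ u = 0 ∧ v = 0 := K.inj t u v e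

theorem m_inj {t u v t' u' v' : F} (e : K.m t u v = K.m t' u' v') : t = t' ∧ u = u' ∧ v = v' := by
  have h1 : K.m (t + -t') (u + -u') (v + -v') = 1 := by
    rw [← K.m_mul, ← K.m_inv, e, mul_inv_cancel]
  obtain ⟨h2, h3, h4⟩ := K.m_eq_one h1
  exact ⟨by linear_combination h2, by linear_combination h3, by linear_combination h4⟩

theorem b_eq (t : F) : K.b t = K.m t 0 0 := by unfold m; rw [K.c_zero, K.d_zero]; simp
theorem c_eq (u : F) : K.c u = K.m 0 u 0 := by unfold m; rw [K.b_zero, K.d_zero]; simp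
theorem d_eq (v : F) : K.d v = K.m 0 0 v := by unfold m; rw [K.b_zero, K.c_zero]; simp

theorem d_inj {v v' : F} (e : K.d v = K.d v') : v = v' := by
  rw [K.d_eq, K.d_eq] at e
  exact (K.m_inj e).2.2

theorem d_ne_one {v : F} (hv : v ≠ 0) : K.d v ≠ 1 := by
  intro e
  rw [← K.d_zero] at e
  exact hv (K.d_inj e)

theorem a_m (s t u v : F) :
    K.a s * K.m t u v = K.m t (u + s * t) (v + 2 * s * u + s * s * t) * K.a s := by
  have e1 : K.a s * K.m t u v = K.m t (s * t) (s * s * t) * (K.m 0 u (2 * s * u)) * K.m 0 0 v *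
      K.a s := by
    unfold m
    rw [K.b_zero, K.c_zero]
    calc K.a s * (K.b t * K.c u * K.d v) = (K.a s * K.b t) * K.c u * K.d v := by group
      _ = K.b t * K.c (s * t) * K.d (s * s * t) * (K.a s * K.c u) * K.d v := by rw [K.ab]; group
      _ = K.b t * K.c (s * t) * K.d (s * s * t) * (K.c u * K.d (2 * s * u)) *
          (K.a s * K.d v) := by rw [K.ac]; group
      _ = _ := by rw [K.ad]; group
  rw [e1, K.m_mul, K.m_mul]
  congr 2 <;> ring

theorem h_m (r : Fˣ) (t u v : F) :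
    K.h r * K.m t u v = K.m ((r : F) * r * t) ((r : F) * u) v * K.h r := by
  unfold m
  calc K.h r * (K.b t * K.c u * K.d v) = (K.h r * K.b t) * K.c u * K.d v := by group
    _ = K.b ((r : F) * r * t) * (K.h r * K.c u) * K.d v := by rw [K.hb]; group
    _ = K.b ((r : F) * r * t) * K.c ((r : F) * u) * (K.h r * K.d v) := by rw [K.hc]; group
    _ = _ := by rw [K.hd]; group

/-- The general element of `B = M ⋊ (a(F) ⋊ h(Fˣ))` acts on `M`. -/
theorem e_m (t u v s : F) (r : Fˣ) (t' u' v' : F) :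
    K.m t u v * K.a s * K.h r * K.m t' u' v' =
      K.m ((r : F) * r * t') ((r : F) * u' + s * ((r : F) * r * t'))
        (v' + 2 * s * ((r : F) * u') + s * s * ((r : F) * r * t')) * (K.m t u v * K.a s * K.h r) := by
  rw [mul_assoc _ (K.h r), K.h_m, ← mul_assoc, mul_assoc _ (K.a s), K.a_m, ← mul_assoc, K.m_comm]
  group

/-- The subgroup `M`. -/
def M : Subgroup G where
  carrier := {x | ∃ t u v, x = K.m t u v}
  mul_mem' := by
    rintro _ _ ⟨t, u, v, rfl⟩ ⟨t', u', v', rfl⟩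
    exact ⟨_, _, _, K.m_mul _ _ _ _ _ _⟩
  one_mem' := ⟨0, 0, 0, K.m_zero.symm⟩
  inv_mem' := by
    rintro _ ⟨t, u, v, rfl⟩
    exact ⟨_, _, _, K.m_inv _ _ _⟩

theorem mem_M {x : G} : x ∈ K.M ↔ ∃ t u v, x = K.m t u v := Iff.rfl

theorem m_mem (t u v : F) : K.m t u v ∈ K.M := ⟨t, u, v, rfl⟩

/-- The subgroup `Z = d(F)`. -/
def Z : Subgroup G where
  carrier := {x | ∃ v, x = K.d v}
  mul_mem' := by
    rintro _ _ ⟨v, rfl⟩ ⟨v', rfl⟩
    exact ⟨_, (K.d_add _ _).symm⟩
  one_mem' := ⟨0, K.d_zero.symm⟩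
  inv_mem' := by
    rintro _ ⟨v, rfl⟩
    refine ⟨-v, ?_⟩
    rw [K.d_eq, K.d_eq, K.m_inv, neg_zero]

theorem mem_Z {x : G} : x ∈ K.Z ↔ ∃ v, x = K.d v := Iff.rfl

/-- The subgroup `D = b(F) d(F)`. -/
def D : Subgroup G where
  carrier := {x | ∃ t v, x = K.m t 0 v}
  mul_mem' := by
    rintro _ _ ⟨t, v, rfl⟩ ⟨t', v', rfl⟩
    exact ⟨_, _, by rw [K.m_mul, add_zero]⟩
  one_mem' := ⟨0, 0, K.m_zero.symm⟩
  inv_mem' := by
    rintro _ ⟨t, v, rfl⟩
    exact ⟨_, _, by rw [K.m_inv, neg_zero]⟩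

theorem mem_D {x : G} : x ∈ K.D ↔ ∃ t v, x = K.m t 0 v := Iff.rfl

/-- The subgroup `P = a(F) M`. -/
def P : Subgroup G where
  carrier := {x | ∃ t u v s, x = K.m t u v * K.a s}
  mul_mem' := by
    rintro _ _ ⟨t, u, v, s, rfl⟩ ⟨t', u', v', s', rfl⟩
    refine ⟨t + t', u + (u' + s * t'), v + (v' + 2 * s * u' + s * s * t'), s + s', ?_⟩
    rw [K.a_add, ← K.m_mul]
    calc K.m t u v * K.a s * (K.m t' u' v' * K.a s')
        = K.m t u v * (K.a s * K.m t' u' v') * K.a s' := by group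
      _ = _ := by rw [K.a_m]; group
  one_mem' := ⟨0, 0, 0, 0, by rw [K.m_zero, K.a_zero, mul_one]⟩
  inv_mem' := by
    rintro _ ⟨t, u, v, s, rfl⟩
    refine ⟨-t, -u + (-s) * (-t), -v + 2 * (-s) * (-u) + (-s) * (-s) * (-t), -s, ?_⟩
    rw [mul_inv_rev, K.m_inv, ← K.a_neg, K.a_m]

theorem mem_P {x : G} : x ∈ K.P ↔ ∃ t u v s, x = K.m t u v * K.a s := Iff.rfl

theorem card_M : Nat.card K.M = Nat.card F ^ 3 := by
  have e : (F × F × F) ≃ K.M := Equiv.ofBijective
    (fun x => ⟨K.m x.1 x.2.1 x.2.2, K.m_mem _ _ _⟩) ⟨by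
      rintro ⟨t, u, v⟩ ⟨t', u', v'⟩ e
      obtain ⟨h1, h2, h3⟩ := K.m_inj (congrArg Subtype.val e)
      simp_all, by
      rintro ⟨_, t, u, v, rfl⟩
      exact ⟨(t, u, v), rfl⟩⟩
  rw [← Nat.card_congr e, Nat.card_prod, Nat.card_prod]
  ring

theorem card_Z : Nat.card K.Z = Nat.card F := by
  have e : F ≃ K.Z := Equiv.ofBijective
    (fun x => ⟨K.d x, ⟨x, rfl⟩⟩) ⟨by
      intro v v' e
      exact K.d_inj (congrArg Subtype.val e), by
      rintro ⟨_, v, rfl⟩
      exact ⟨v, rfl⟩⟩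
  rw [← Nat.card_congr e]

theorem card_D : Nat.card K.D = Nat.card F ^ 2 := by
  have e : (F × F) ≃ K.D := Equiv.ofBijective
    (fun x => ⟨K.m x.1 0 x.2, ⟨x.1, x.2, rfl⟩⟩) ⟨by
      rintro ⟨t, v⟩ ⟨t', v'⟩ e
      obtain ⟨h1, h2, h3⟩ := K.m_inj (congrArg Subtype.val e)
      simp_all, by
      rintro ⟨_, t, v, rfl⟩
      exact ⟨(t, v), rfl⟩⟩
  rw [← Nat.card_congr e, Nat.card_prod]
  ring

/-- Uniqueness of the coordinates in `B`. -/
theorem e_eq_m (h2 : (2 : F) ≠ 0) {t u v s : F} {r : Fˣ} {t' u' v' : F}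
    (e : K.m t u v * K.a s * K.h r = K.m t' u' v') : s = 0 ∧ r = 1 := by
  have e1 := K.e_m t u v s r 0 1 0
  rw [e, K.m_comm] at e1
  have e3 := mul_right_cancel e1
  simp only [mul_zero, mul_one, add_zero, zero_add] at e3
  obtain ⟨-, h4, h5⟩ := K.m_inj e3
  have hr : r = 1 := Units.ext h4.symm
  subst hr
  simp only [Units.val_one, mul_one] at h5
  rcases mul_eq_zero.mp h5.symm with h6 | h6
  · exact absurd h6 h2
  · exact ⟨h6, rfl⟩

/-- Twisting the coordinates by an additive map `φ` with `φ (r² t) = φ t`. -/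
def twist (φ : F →+ F) (hφ : ∀ (r : Fˣ) (t : F), φ ((r : F) * r * t) = φ t) : Co G F where
  a := K.a
  b := fun t => K.b t * K.d (φ t)
  c := K.c
  d := K.d
  h := K.h
  a_add := K.a_add
  b_add := by
    intro s t
    rw [K.b_add, map_add, K.d_add]
    calc K.b s * K.b t * (K.d (φ s) * K.d (φ t)) = K.b s * (K.b t * K.d (φ s)) * K.d (φ t) := by group
      _ = _ := by rw [← K.db]; group
  c_add := K.c_add
  d_add := K.d_add
  h_mul := K.h_mul
  cb := by
    intro t u
    rw [← mul_assoc, K.cb, mul_assoc, mul_assoc, ← K.dc]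
  db := by
    intro t v
    rw [← mul_assoc, K.db, mul_assoc, mul_assoc, ← K.d_add, ← K.d_add, add_comm]
  dc := K.dc
  ad := K.ad
  ab := by
    intro s t
    calc K.a s * (K.b t * K.d (φ t)) = (K.a s * K.b t) * K.d (φ t) := by group
      _ = K.b t * K.c (s * t) * K.d (s * s * t) * (K.a s * K.d (φ t)) := by rw [K.ab]; group
      _ = K.b t * (K.c (s * t) * (K.d (s * s * t) * K.d (φ t))) * K.a s := by rw [K.ad]; group
      _ = K.b t * ((K.c (s * t) * K.d (φ t)) * K.d (s * s * t)) * K.a s := by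
        rw [← K.d_add, add_comm, K.d_add]; group
      _ = _ := by rw [← K.dc]; group
  ac := K.ac
  ha := K.ha
  hb := by
    intro r t
    rw [hφ]
    calc K.h r * (K.b t * K.d (φ t)) = (K.h r * K.b t) * K.d (φ t) := by group
      _ = K.b ((r : F) * r * t) * (K.h r * K.d (φ t)) := by rw [K.hb]; group
      _ = _ := by rw [K.hd]; group
  hc := K.hc
  hd := K.hd
  inj := by
    intro t u v e
    have e1 : K.m t u (v + φ t) = 1 := by
      rw [← e]
      unfold m
      calc K.b t * K.c u * K.d (v + φ t) = K.b t * (K.c u * K.d (φ t)) * K.d v := by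
            rw [add_comm, K.d_add]; group
        _ = _ := by rw [← K.dc]; group
    obtain ⟨h1, h2, h3⟩ := K.m_eq_one e1
    subst h1
    refine ⟨rfl, h2, ?_⟩
    rwa [map_zero, add_zero] at h3

theorem twist_m (φ : F →+ F) (hφ : ∀ (r : Fˣ) (t : F), φ ((r : F) * r * t) = φ t) (t u v : F) :
    (K.twist φ hφ).m t u v = K.m t u (v + φ t) := by
  unfold m
  change K.b t * K.d (φ t) * K.c u * K.d v = _
  calc K.b t * K.d (φ t) * K.c u * K.d v = K.b t * (K.d (φ t) * K.c u) * K.d v := by group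
    _ = K.b t * K.c u * (K.d (φ t) * K.d v) := by rw [K.dc]; group
    _ = _ := by rw [← K.d_add, add_comm]

end Co

/-- Conjugate of a subgroup. -/
def cj {G : Type*} [Group G] (g : G) (S : Subgroup G) : Subgroup G :=
  S.map (MulAut.conj g).toMonoidHom

section cj

variable {G : Type*} [Group G]

theorem mem_cj {g x : G} {S : Subgroup G} : x ∈ cj g S ↔ g⁻¹ * x * g ∈ S := by
  unfold cj
  rw [Subgroup.mem_map]
  constructor
  · rintro ⟨y, hy, rfl⟩
    have : g⁻¹ * (MulAut.conj g).toMonoidHom y * g = y := by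
      simp [MulAut.conj_apply, mul_assoc]
    rwa [this]
  · intro hx
    refine ⟨_, hx, ?_⟩
    simp [MulAut.conj_apply, mul_assoc]

theorem conj_mem_cj {g x : G} {S : Subgroup G} (hx : x ∈ S) : g * x * g⁻¹ ∈ cj g S := by
  rw [mem_cj]
  have : g⁻¹ * (g * x * g⁻¹) * g = x := by group
  rwa [this]

theorem cj_mul (g g' : G) (S : Subgroup G) : cj (g * g') S = cj g (cj g' S) := by
  ext x
  rw [mem_cj, mem_cj, mem_cj, mul_inv_rev]
  simp only [mul_assoc]

theorem cj_one (S : Subgroup G) : cj 1 S = S := by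
  ext x
  rw [mem_cj]
  simp

theorem cj_inv_cj (g : G) (S : Subgroup G) : cj g⁻¹ (cj g S) = S := by
  rw [← cj_mul, inv_mul_cancel, cj_one]

theorem cj_cj_inv (g : G) (S : Subgroup G) : cj g (cj g⁻¹ S) = S := by
  rw [← cj_mul, mul_inv_cancel, cj_one]

theorem cj_inj {g : G} {S T : Subgroup G} (e : cj g S = cj g T) : S = T := by
  rw [← cj_inv_cj g S, e, cj_inv_cj]

theorem cj_mono {g : G} {S T : Subgroup G} (e : S ≤ T) : cj g S ≤ cj g T :=
  Subgroup.map_mono e

theorem card_cj (g : G) (S : Subgroup G) : Nat.card (cj g S) = Nat.card S :=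
  Nat.card_congr (S.equivMapOfInjective _ (MulAut.conj g).injective).toEquiv.symm

/-- A subgroup of an abelian normal `M` is fixed by conjugation with elements of `M`. -/
theorem cj_eq_of_comm {g : G} {S : Subgroup G} (hg : ∀ x ∈ S, g * x = x * g) : cj g S = S := by
  ext x
  rw [mem_cj]
  constructor
  · intro hx
    have := hg _ hx
    have e : x = g⁻¹ * x * g := by
      have h1 : g * (g⁻¹ * x * g) = x * g := by group
      rw [h1] at this
      exact mul_right_cancel this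
    rw [e]; exact hx
  · intro hx
    have e : g⁻¹ * x * g = x := by rw [mul_assoc, ← hg x hx]; group
    rwa [e]

end cj

end Cfsg.Agent.H339
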