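import Cfsg.Agent.H339.Co

/-!
# Transport of coordinates (helper339, S3324)
-/

set_option autoImplicit false
set_option linter.unusedSectionVars false
open Subgroup

namespace Cfsg.Agent.H339.Co

variable {G H F : Type*} [Group G] [Group H] [Field F] (K : Co G F)

/-- Transport along an injective homomorphism. -/
def map (f : G →* H) (hf : Function.Injective f) : Co H F where
  a := fun s => f (K.a s)
  b := fun s => f (K.b s)
  c := fun s => f (K.c s)
  d := fun s => f (K.d s)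
  h := fun s => f (K.h s)
  a_add := by intro s t; rw [K.a_add, map_mul]
  b_add := by intro s t; rw [K.b_add, map_mul]
  c_add := by intro s t; rw [K.c_add, map_mul]
  d_add := by intro s t; rw [K.d_add, map_mul]
  h_mul := by intro s t; rw [K.h_mul, map_mul]
  cb := by intro s t; rw [← map_mul, ← map_mul, K.cb]
  db := by intro s t; rw [← map_mul, ← map_mul, K.db]
  dc := by intro s t; rw [← map_mul, ← map_mul, K.dc]
  ad := by intro s t; rw [← map_mul, ← map_mul, K.ad]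
  ab := by intro s t; simp only [← map_mul]; rw [K.ab]
  ac := by intro s t; simp only [← map_mul]; rw [K.ac]
  ha := by intro s t; simp only [← map_mul]; rw [K.ha]
  hb := by intro s t; simp only [← map_mul]; rw [K.hb]
  hc := by intro s t; simp only [← map_mul]; rw [K.hc]
  hd := by intro s t; simp only [← map_mul]; rw [K.hd]
  inj := by
    intro t u v e
    simp only [← map_mul] at e
    apply K.inj
    apply hf
    rw [e, map_one]

theorem map_m (f : G →* H) (hf : Function.Injective f) (t u v : F) :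
    (K.map f hf).m t u v = f (K.m t u v) := by
  unfold m
  simp only [map_mul]
  rfl

theorem map_P (f : G →* H) (hf : Function.Injective f) : (K.map f hf).P = K.P.map f := by
  ext x
  constructor
  · rintro ⟨t, u, v, s, rfl⟩
    exact ⟨_, ⟨t, u, v, s, rfl⟩, by rw [map_m, map_mul]; rfl⟩
  · rintro ⟨_, ⟨t, u, v, s, rfl⟩, rfl⟩
    exact ⟨t, u, v, s, by rw [map_m, map_mul]; rfl⟩

/-- Restriction to a subgroup. -/
def res (S : Subgroup G) (ha : ∀ s, K.a s ∈ S) (hb : ∀ s, K.b s ∈ S) (hc : ∀ s, K.c s ∈ S)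
    (hd : ∀ s, K.d s ∈ S) (hh : ∀ s, K.h s ∈ S) : Co S F where
  a := fun s => ⟨K.a s, ha s⟩
  b := fun s => ⟨K.b s, hb s⟩
  c := fun s => ⟨K.c s, hc s⟩
  d := fun s => ⟨K.d s, hd s⟩
  h := fun s => ⟨K.h s, hh s⟩
  a_add := fun s t => Subtype.ext (K.a_add s t)
  b_add := fun s t => Subtype.ext (K.b_add s t)
  c_add := fun s t => Subtype.ext (K.c_add s t)
  d_add := fun s t => Subtype.ext (K.d_add s t)
  h_mul := fun s t => Subtype.ext (K.h_mul s t)
  cb := fun s t => Subtype.ext (K.cb s t)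
  db := fun s t => Subtype.ext (K.db s t)
  dc := fun s t => Subtype.ext (K.dc s t)
  ad := fun s t => Subtype.ext (K.ad s t)
  ab := fun s t => Subtype.ext (K.ab s t)
  ac := fun s t => Subtype.ext (K.ac s t)
  ha := fun s t => Subtype.ext (K.ha s t)
  hb := fun s t => Subtype.ext (K.hb s t)
  hc := fun s t => Subtype.ext (K.hc s t)
  hd := fun s t => Subtype.ext (K.hd s t)
  inj := fun t u v e => K.inj t u v (congrArg Subtype.val e)

section res

variable {K} {S : Subgroup G} {ha : ∀ s, K.a s ∈ S} {hb : ∀ s, K.b s ∈ S} {hc : ∀ s, K.c s ∈ S}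
    {hd : ∀ s, K.d s ∈ S} {hh : ∀ s, K.h s ∈ S}

theorem coe_res_m (t u v : F) : (((K.res S ha hb hc hd hh).m t u v : S) : G) = K.m t u v := rfl

theorem mem_res_M {x : S} : x ∈ (K.res S ha hb hc hd hh).M ↔ (x : G) ∈ K.M := by
  constructor
  · rintro ⟨t, u, v, rfl⟩
    exact ⟨t, u, v, rfl⟩
  · rintro ⟨t, u, v, e⟩
    exact ⟨t, u, v, Subtype.ext e⟩

theorem mem_res_Z {x : S} : x ∈ (K.res S ha hb hc hd hh).Z ↔ (x : G) ∈ K.Z := by
  constructor
  · rintro ⟨v, rfl⟩
    exact ⟨v, rfl⟩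
  · rintro ⟨v, e⟩
    exact ⟨v, Subtype.ext e⟩

theorem mem_res_P {x : S} : x ∈ (K.res S ha hb hc hd hh).P ↔ (x : G) ∈ K.P := by
  constructor
  · rintro ⟨t, u, v, s, rfl⟩
    exact ⟨t, u, v, s, rfl⟩
  · rintro ⟨t, u, v, s, e⟩
    exact ⟨t, u, v, s, Subtype.ext e⟩

end res

/-- The subgroup `a(F)`. -/
def A : Subgroup G where
  carrier := {x | ∃ s, x = K.a s}
  mul_mem' := by
    rintro _ _ ⟨t, rfl⟩ ⟨t', rfl⟩
    exact ⟨_, by rw [← K.a_add]⟩
  one_mem' := ⟨0, K.a_zero.symm⟩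
  inv_mem' := by
    rintro _ ⟨t, rfl⟩
    exact ⟨_, by rw [← K.a_neg]⟩

theorem M_le_P : K.M ≤ K.P := by
  rintro _ ⟨t, u, v, rfl⟩
  exact ⟨t, u, v, 0, by rw [K.a_zero, mul_one]⟩

theorem Z_le_M : K.Z ≤ K.M := by
  rintro _ ⟨v, rfl⟩
  exact ⟨0, 0, v, K.d_eq v⟩

theorem A_le_P : K.A ≤ K.P := by
  rintro _ ⟨s, rfl⟩
  exact ⟨0, 0, 0, s, by rw [K.m_zero, one_mul]⟩

theorem a_mem_M' (h2 : (2 : F) ≠ 0) {s : F} (h : K.a s ∈ K.M) : s = 0 := by
  obtain ⟨t, u, v, e⟩ := h
  have e1 : K.m 0 0 0 * K.a s * K.h 1 = K.m t u v := by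
    rw [K.m_zero, K.h_one, one_mul, mul_one, e]
  exact (K.e_eq_m h2 e1).1

theorem A_inf_M (h2 : (2 : F) ≠ 0) : K.A ⊓ K.M = ⊥ := by
  rw [eq_bot_iff]
  rintro x ⟨⟨s, rfl⟩, hx⟩
  rw [K.a_mem_M' h2 hx, K.a_zero]
  exact Subgroup.one_mem _

theorem M_sup_A : K.M ⊔ K.A = K.P := by
  apply le_antisymm
  · exact sup_le K.M_le_P K.A_le_P
  · rintro _ ⟨t, u, v, s, rfl⟩
    exact Subgroup.mul_mem_sup ⟨t, u, v, rfl⟩ ⟨s, rfl⟩

theorem M_normal_P : ∀ x ∈ K.P, ∀ y ∈ K.M, x * y * x⁻¹ ∈ K.M := by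
  rintro _ ⟨t, u, v, s, rfl⟩ _ ⟨t', u', v', rfl⟩
  have hr : K.m t u v * K.a s = K.m t u v * K.a s * K.h 1 := by rw [K.h_one, mul_one]
  rw [hr, K.e_m, mul_inv_cancel_right]
  exact K.m_mem _ _ _

/-- The index of `M` in `P`. -/
theorem relIndex_M_P [Finite F] (h2 : (2 : F) ≠ 0) [Finite G] :
    K.M.relIndex K.P = Nat.card F := by
  have h1 : Nat.card K.P = Nat.card F ^ 4 := by
    have e : (F × F × F × F) ≃ K.P := Equiv.ofBijective
      (fun x => ⟨K.m x.1 x.2.1 x.2.2.1 * K.a x.2.2.2, ⟨_, _, _, _, rfl⟩⟩) ⟨by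
        rintro ⟨t, u, v, s⟩ ⟨t', u', v', s'⟩ e
        have e1 : K.m t u v * K.a s = K.m t' u' v' * K.a s' := congrArg Subtype.val e
        have e2 : K.a (s + -s') = (K.m t u v)⁻¹ * K.m t' u' v' := by
          rw [K.a_add, K.a_neg, eq_inv_mul_iff_mul_eq, ← mul_assoc, e1, mul_inv_cancel_right]
        have e3 : K.a (s + -s') ∈ K.M := by
          rw [e2]
          exact K.M.mul_mem (K.M.inv_mem ⟨t, u, v, rfl⟩) ⟨t', u', v', rfl⟩
        have e4 := K.a_mem_M' h2 e3
        have e5 : s = s' := by linear_combination e4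
        subst e5
        obtain ⟨rfl, rfl, rfl⟩ := K.m_inj (mul_right_cancel e1)
        rfl, by
        rintro ⟨_, t, u, v, s, rfl⟩
        exact ⟨(t, u, v, s), rfl⟩⟩
    rw [← Nat.card_congr e, Nat.card_prod, Nat.card_prod, Nat.card_prod]
    ring
  have h3 := Subgroup.relIndex_mul_relIndex ⊥ K.M K.P bot_le K.M_le_P
  rw [Subgroup.relIndex_bot_left, Subgroup.relIndex_bot_left, h1, K.card_M, pow_succ] at h3
  exact Nat.eq_of_mul_eq_mul_left (by have := Nat.card_pos (α := F); positivity) h3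

/-- The uniqueness of `M` in `P`. -/
theorem eq_M [Finite F] [Finite G] (h2 : (2 : F) ≠ 0) {M : Subgroup G} (hMP : M ≤ K.P)
    (hMc : ∀ x ∈ M, ∀ y ∈ M, x * y = y * x) (hcard : Nat.card M = Nat.card F ^ 3) : M = K.M := by
  have hF : 1 < Nat.card F := Finite.one_lt_card
  suffices h : M ≤ K.M by
    apply Subgroup.eq_of_le_of_card_ge h
    rw [hcard, K.card_M]
  intro y hy
  by_contra hyM
  obtain ⟨t, u, v, s, rfl⟩ := hMP hy
  have hs : s ≠ 0 := by
    rintro rfl
    apply hyM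
    rw [K.a_zero, mul_one]
    exact K.m_mem _ _ _
  have h1 : K.M ⊓ M ≤ K.Z := by
    rintro _ ⟨⟨t', u', v', rfl⟩, hx⟩
    have h3 := hMc _ hy _ hx
    have hr : K.m t u v * K.a s = K.m t u v * K.a s * K.h 1 := by rw [K.h_one, mul_one]
    rw [hr, K.e_m] at h3
    obtain ⟨-, h4, h5⟩ := K.m_inj (mul_right_cancel h3)
    simp only [Units.val_one, one_mul] at h4 h5
    have ht : t' = 0 := by
      have : s * t' = 0 := by linear_combination h4
      rcases mul_eq_zero.mp this with h | h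
      · exact absurd h hs
      · exact h
    subst ht
    have hu : u' = 0 := by
      have : 2 * s * u' = 0 := by linear_combination h5
      rcases mul_eq_zero.mp this with h | h
      · rcases mul_eq_zero.mp h with h | h
        · exact absurd h h2
        · exact absurd h hs
      · exact h
    subst hu
    exact ⟨v', (K.d_eq v').symm⟩
  have h2' : Nat.card ↥(K.M ⊓ M) ≤ Nat.card F := by
    rw [← K.card_Z]
    exact Subgroup.card_le_of_le h1
  have h3 : K.M.relIndex M ≤ Nat.card F := by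
    rw [← K.relIndex_M_P h2]
    apply Subgroup.relIndex_le_of_le_right hMP
    rw [K.relIndex_M_P h2]
    omega
  have h4 := Subgroup.relIndex_mul_relIndex ⊥ (K.M ⊓ M) M bot_le inf_le_right
  rw [Subgroup.relIndex_bot_left, Subgroup.relIndex_bot_left, Subgroup.inf_relIndex_right,
    hcard] at h4
  have h5 : Nat.card ↥(K.M ⊓ M) * K.M.relIndex M ≤ Nat.card F * Nat.card F :=
    Nat.mul_le_mul h2' h3
  rw [h4] at h5
  have h6 : Nat.card F ^ 3 = Nat.card F * Nat.card F * Nat.card F := by ring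
  rw [h6] at h5
  have h7 : Nat.card F * Nat.card F * 1 < Nat.card F * Nat.card F * Nat.card F :=
    Nat.mul_lt_mul_of_pos_left hF (by positivity)
  omega

/-- Conjugates of elements centralising `Z` centralise `Z`. -/
theorem conj_comm' {k y : G} (hZ : cj k K.Z = K.Z) (hy : ∀ v, y * K.d v = K.d v * y) (v : F) :
    (k * y * k⁻¹) * K.d v = K.d v * (k * y * k⁻¹) := by
  have h1 : K.d v ∈ cj k K.Z := by rw [hZ]; exact ⟨v, rfl⟩
  rw [mem_cj] at h1
  obtain ⟨v', hv'⟩ := h1
  have e : K.d v = k * K.d v' * k⁻¹ := by rw [← hv']; group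
  rw [e]
  calc k * y * k⁻¹ * (k * K.d v' * k⁻¹) = k * (y * K.d v') * k⁻¹ := by group
    _ = k * (K.d v' * y) * k⁻¹ := by rw [hy]
    _ = _ := by group

/-- Elements fixing `Z` normalise `P = a(F) M`. -/
theorem conj_a' [Finite F] (cent : ∀ v, v ≠ 0 → ∀ g, g * K.d v = K.d v * g →
      ∃ t u v' s r, g = K.m t u v' * K.a s * K.h r) {k : G} (hZ : cj k K.Z = K.Z) (s : F) :
    ∃ t u v s', k * K.a s * k⁻¹ = K.m t u v * K.a s' := by
  have hc := K.conj_comm' hZ (y := K.a s) (K.ad s) 1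
  obtain ⟨t, u, v, s', r, e⟩ := cent 1 one_ne_zero _ hc
  refine ⟨t, u, v, s', ?_⟩
  suffices hr : r = 1 by rw [e, hr, K.h_one, mul_one]
  set y := k * K.a s * k⁻¹ with hy
  -- the action of powers of `y`
  have key : ∀ N : ℕ, ∀ u v : F, ∃ v', y ^ N * K.m 0 u v = K.m 0 ((r : F) ^ N * u) v' * y ^ N := by
    intro N
    induction N with
    | zero => intro u v; exact ⟨v, by simp⟩
    | succ N ih =>
      intro u1 v1
      have h1 : ∃ v', y * K.m 0 u1 v1 = K.m 0 ((r : F) * u1) v' * y := by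
        have h2 := K.e_m t u v s' r 0 u1 v1
        rw [← e] at h2
        simp only [mul_zero, add_zero] at h2
        exact ⟨_, h2⟩
      obtain ⟨v2, hv2⟩ := h1
      obtain ⟨v3, hv3⟩ := ih ((r : F) * u1) v2
      refine ⟨v3, ?_⟩
      rw [pow_succ, mul_assoc, hv2, ← mul_assoc, hv3, mul_assoc]
      congr 2
      ring
  have hpow : y ^ Nat.card F = 1 := by
    have h1 : ∀ N : ℕ, K.a s ^ N = K.a (N • s) := by
      intro N
      induction N with
      | zero => simp [K.a_zero]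
      | succ N ih => rw [pow_succ, ih, ← K.a_add, succ_nsmul]
    have h2 : K.a s ^ Nat.card F = 1 := by
      rw [h1, card_nsmul_eq_zero', K.a_zero]
    rw [hy, conj_pow, h2]
    group
  obtain ⟨v', hv'⟩ := key (Nat.card F) 1 0
  rw [hpow, one_mul, mul_one, mul_one] at hv'
  have h3 := (K.m_inj hv').2.1
  have h4 : r ^ Nat.card F = r := by
    have h5 : r ^ Nat.card Fˣ = 1 := pow_card_eq_one'
    rw [Nat.card_units] at h5
    have h6 : Nat.card F = (Nat.card F - 1) + 1 := by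
      have := Finite.one_lt_card (α := F)
      omega
    rw [h6, pow_succ, h5, one_mul]
  rw [← h4]
  apply Units.ext
  rw [Units.val_pow_eq_pow_val, ← h3, Units.val_one]

end Cfsg.Agent.H339.Co
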