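import Cfsg.Agent.H46.Rest
import Cfsg.Agent.H46.CompOrth
import Cfsg.Agent.H46.CompCo1
import Cfsg.Agent.H46.CompFi22
import Cfsg.Agent.H46.CompFi23
import Cfsg.Agent.H46.CompFi24
import Cfsg.Agent.H46.CompB
import Cfsg.Agent.H46.CompM
import Cfsg.Agent.NotCT.Orders
import Cfsg.Agent.EvenType.CTwoCard
import Cfsg.Agent.S0280

/-!
# The known simple groups of characteristic 2 type with `2 ^ 21 ∣ |G|` (helper339)

`chev_or_j4` : they are of Lie type in characteristic 2, or `J₄`.
-/

set_option autoImplicit false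
set_option maxRecDepth 10000

namespace Cfsg.Agent.H339.ElimOrd

open Subgroup Cfsg Cfsg.Agent.SevenCases Cfsg.Agent.SigTab Cfsg.Agent.H46

universe u

theorem no_card {G : Type*} [Group G] {N : ℕ} (h : Nat.card G = N) (hN : ¬ 2 ^ 21 ∣ N) : ¬ 2 ^ 21 ∣ Nat.card G := by
  rw [h]; exact hN

theorem no_card_iso {G H : Type*} [Group G] [Group H] {N : ℕ} (e : G ≃* H) (h : Nat.card H = N) (hN : ¬ 2 ^ 21 ∣ N) :
    ¬ 2 ^ 21 ∣ Nat.card G := by
  rw [Nat.card_congr e.toEquiv, h]; exact hN

theorem card_a12 : Nat.card (alternatingGroup (Fin 12)) = 239500800 := by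
  have h1 : 2 * Nat.card (alternatingGroup (Fin 12)) = (12 : ℕ).factorial := by
    have h := two_mul_nat_card_alternatingGroup (α := Fin 12)
    rwa [Nat.card_perm, Nat.card_fin] at h
  have h3 : (12 : ℕ).factorial = 479001600 := by decide +kernel
  rw [h3] at h1
  omega

theorem no_alt {G : Type u} [Group G] (h : Alt (fun n => n = 12) G) : ¬ 2 ^ 21 ∣ Nat.card G := by
  obtain ⟨n, rfl, ⟨e⟩⟩ := h
  exact no_card_iso e card_a12 (by norm_num)

theorem no_l43 {G : Type u} [Group G] (h : PslOdd (fun n q => n = 4 ∧ q = 3) G) : ¬ 2 ^ 21 ∣ Nat.card G := by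
  obtain ⟨F, _, _, n, -, ⟨rfl, hF⟩, ⟨e⟩⟩ := h
  exact no_card_iso e (EvenType.CTwoCard.psl4 hF) (by norm_num)

theorem no_u43 {G : Type u} [Group G] (h : PsuOdd (fun n q => n = 4 ∧ q = 3) G) : ¬ 2 ^ 21 ∣ Nat.card G := by
  obtain ⟨F, _, _, n, q, -, hF, ⟨rfl, rfl⟩, ⟨e⟩⟩ := h
  have hF9 : Fintype.card F = 9 := by rw [hF]; norm_num
  exact no_card_iso e (EvenType.CTwoCard.u4 hF9) (by norm_num)

theorem no_g23 {G : Type u} [Group G] (h : GTwoOdd (fun q => q = 3) G) : ¬ 2 ^ 21 ∣ Nat.card G := by
  obtain ⟨F, _, _, -, hF, ⟨e⟩⟩ := h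
  exact no_card_iso e (EvenType.CTwoCard.g2 hF) (by norm_num)

theorem chev_or_j4 (hkn : ∀ (X : Type u) [Group X] [Finite X] [IsSimpleGroup X], IsKnownSimple' X)
    {G : Type u} [Group G] [Finite G] [IsSimpleGroup G] (hna : ¬ IsMulCommutative G)
    (hc : IsCharacteristicTwoType G) (h21 : 2 ^ 21 ∣ Nat.card G) (h2 : ¬ PRankLE 2 2 G) :
    IsChevSimple 2 G ∨ Spor.IsoJ4 G := by
  have nc : ¬ HasComp G := fun h => h.not_charTwo hc
  rcases rest_of_charTwo hkn hna hc h2 with h | h | h | h | h | h | h | h | h | h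
  · exact Or.inl h
  · exact Or.inl (chev_of_alt_eight h)
  · exact absurd h21 (no_alt h)
  · exact absurd h21 (no_l43 h)
  · exact absurd h21 (no_u43 h)
  · exact absurd h21 (no_g23 h)
  · exact absurd (hasComp_o73 h) nc
  · exact absurd (hasComp_o8p3 h) nc
  · exact absurd (hasComp_o8m3 h) nc
  · rcases h with h | h | h | h | h | h | h | h | h | h | h | h | h | h | h | h | h | h | h | h
    · exact absurd h21 (no_card (NotCT.Orders.m22 h) (by norm_num))
    · exact absurd h21 (no_card (NotCT.Orders.m23 h) (by norm_num))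
    · exact absurd h21 (no_card (NotCT.Orders.m24 h) (by norm_num))
    · exact absurd h21 (no_card (NotCT.Orders.j2 h) (by norm_num))
    · exact absurd h21 (no_card (NotCT.Orders.j3 h) (by norm_num))
    · exact Or.inr h
    · exact absurd h21 (no_card (NotCT.Orders.hs h) (by norm_num))
    · exact absurd h21 (no_card (NotCT.Orders.he h) (by norm_num))
    · exact absurd h21 (no_card (NotCT.Orders.ru h) (by norm_num))
    · exact absurd h21 (no_card (NotCT.Orders.suz h) (by norm_num))
    · exact absurd (hasComp_co1 h) nc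
    · exact absurd h21 (no_card (NotCT.Orders.co2 h) (by norm_num))
    · exact absurd h21 (no_card (NotCT.Orders.co3 h) (by norm_num))
    · exact absurd (hasComp_fi22 h) nc
    · exact absurd (hasComp_fi23 h) nc
    · exact absurd (hasComp_fi24 h) nc
    · exact absurd h21 (no_card (NotCT.Orders.hn h) (by norm_num))
    · exact absurd h21 (no_card (NotCT.Orders.th h) (by norm_num))
    · exact absurd (hasComp_b h) nc
    · exact absurd (hasComp_m h) nc

/-- the characteristic 2 families that are left: the order kills the exceptions of `IsChevSimple 2` -/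
theorem lie_or_j4 (hkn : ∀ (X : Type u) [Group X] [Finite X] [IsSimpleGroup X], IsKnownSimple' X)
    {G : Type u} [Group G] [Finite G] [IsSimpleGroup G] (hna : ¬ IsMulCommutative G)
    (hc : IsCharacteristicTwoType G) (h21 : 2 ^ 21 ∣ Nat.card G) (h2 : ¬ PRankLE 2 2 G) :
    IsLieTypeChar 2 G ∨ Spor.IsoJ4 G := by
  rcases chev_or_j4 hkn hna hc h21 h2 with (h | ⟨-, h | h | h⟩ | ⟨h, -⟩) | h
  · exact Or.inl h
  · obtain ⟨e⟩ := h
    have h1 : 2 * Nat.card (alternatingGroup (Fin 6)) = (6 : ℕ).factorial := by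
      have h := two_mul_nat_card_alternatingGroup (α := Fin 6)
      rwa [Nat.card_perm, Nat.card_fin] at h
    have h3 : (6 : ℕ).factorial = 720 := by decide +kernel
    rw [h3] at h1
    exact absurd h21 (no_card_iso e (N := 360) (by omega) (by norm_num))
  · obtain ⟨F, _, _, hF, ⟨e⟩⟩ := h
    have h1 := Cfsg.Agent.S0280.result (F := F) (q := 3) (by rw [hF]; norm_num) 3 (by norm_num)
    have h2 : Nat.gcd 3 (3 + 1) = 1 := by decide
    rw [h2] at h1
    simp only [Finset.prod_range_succ, Finset.prod_range_zero] at h1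
    have e0 : Even 0 := by decide
    have e1 : ¬ Even 1 := by decide
    have e2 : Even 2 := by decide
    rw [if_pos e0, if_neg e1, if_pos e2] at h1
    norm_num at h1
    exact absurd h21 (no_card_iso e (N := 6048) (by omega) (by norm_num))
  · exact absurd h21 (no_card (NotCT.Orders.tits h) (by norm_num))
  · exact absurd h (by norm_num)
  · exact Or.inr h

end Cfsg.Agent.H339.ElimOrd
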