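import Mathlib
import Cfsg.Agent.S0730
import Cfsg.Agent.S0051

/-!
# A group acting 2-transitively with central kernel: `PGL₂(q) × C_{(q-1)/2}` (helper339, S3324)
-/

set_option autoImplicit false
open Subgroup

namespace Cfsg.Agent.H339.Sharp

/-- A ring isomorphism induces an isomorphism of the groups `PGL₂`. -/
theorem nonempty_pgl_congr {K L : Type*} [Field K] [Field L] (e : K ≃+* L) :
    Nonempty (Matrix.ProjGenLinGroup (Fin 2) K ≃* Matrix.ProjGenLinGroup (Fin 2) L) := by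
  let E : Matrix.GeneralLinearGroup (Fin 2) K ≃* Matrix.GeneralLinearGroup (Fin 2) L :=
    Units.mapEquiv (RingEquiv.toMulEquiv (RingEquiv.mapMatrix e))
  refine ⟨QuotientGroup.congr _ _ E ?_⟩
  ext x
  constructor
  · rintro ⟨y, hy, rfl⟩
    rw [SetLike.mem_coe, Subgroup.mem_center_iff] at hy
    rw [Subgroup.mem_center_iff]
    intro g
    obtain ⟨g', rfl⟩ := E.surjective g
    have := congrArg E (hy g')
    simpa using this
  · intro hx
    rw [Subgroup.mem_center_iff] at hx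
    refine ⟨E.symm x, ?_, by simp⟩
    rw [SetLike.mem_coe, Subgroup.mem_center_iff]
    intro g
    have := congrArg E.symm (hx (E g))
    simpa using this

theorem inv_app {Ω : Type*} (e : Equiv.Perm Ω) (x : Ω) : e⁻¹ (e x) = x := e.symm_apply_apply x

theorem app_inv {Ω : Type*} (e : Equiv.Perm Ω) (x : Ω) : e (e⁻¹ x) = x := e.apply_symm_apply x

variable {Q Ω F : Type*} [Group Q] [Field F]

/-- The situation: `Φ` a permutation representation, `i = ∞`, `z = 0`. -/
structure Dat (Φ : Q →* Equiv.Perm Ω) (a : F → Q) (h : Fˣ → Q) (n : Q) (i z : Ω) : Prop where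
  ne : i ≠ z
  a_add : ∀ s t, a (s + t) = a s * a t
  h_mul : ∀ r r', h (r * r') = h r * h r'
  a_i : ∀ s, Φ (a s) i = i
  h_i : ∀ r, Φ (h r) i = i
  h_z : ∀ r, Φ (h r) z = z
  ex : ∀ ω, ω ≠ i → ∃ s, Φ (a s) z = ω
  inj : ∀ s, Φ (a s) z = z → s = 0
  ha : ∀ (r : Fˣ) (s : F), h r * a s = a ((↑r⁻¹ : F) * s) * h r
  nrm : ∀ k, Φ k i = i → ∀ s, ∃ s', k * a s = a s' * k
  com : ∀ k, Φ k i = i → Φ k z = z → ∀ r, k * h r = h r * k
  n_i : Φ n i = z
  n_z : Φ n z = i

namespace Dat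

variable {Φ : Q →* Equiv.Perm Ω} {a : F → Q} {h : Fˣ → Q} {n : Q} {i z : Ω}
  (D : Dat Φ a h n i z)

include D

theorem a_zero : a 0 = 1 := by
  have := D.a_add 0 0
  rw [add_zero] at this
  exact (mul_eq_left.mp this.symm)

theorem a_neg (s : F) : a (-s) = (a s)⁻¹ := by
  rw [eq_inv_iff_mul_eq_one, ← D.a_add, neg_add_cancel, D.a_zero]

theorem h_one : h 1 = 1 := by
  have := D.h_mul 1 1
  rw [mul_one] at this
  exact (mul_eq_left.mp this.symm)

theorem h_inv (r : Fˣ) : h r⁻¹ = (h r)⁻¹ := by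
  rw [eq_inv_iff_mul_eq_one, ← D.h_mul, inv_mul_cancel, D.h_one]

theorem a_inj {s t : F} (e : Φ (a s) z = Φ (a t) z) : s = t := by
  have : Φ (a (-t + s)) z = z := by
    rw [D.a_add, map_mul, Equiv.Perm.mul_apply, e, D.a_neg, map_inv, inv_app]
  have := D.inj _ this
  linear_combination this

/-- `K₀` acts linearly. -/
theorem lin {k : Q} (hi : Φ k i = i) (hz : Φ k z = z) :
    ∃ μ : Fˣ, ∀ s, k * a s = a ((μ : F) * s) * k := by
  obtain ⟨μ, hμ⟩ := D.nrm k hi 1
  have hμ0 : μ ≠ 0 := by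
    rintro rfl
    rw [D.a_zero, one_mul] at hμ
    have h1 : a 1 = 1 := (mul_eq_left.mp hμ)
    have := D.inj 1 (by rw [h1, map_one, Equiv.Perm.one_apply])
    exact one_ne_zero this
  refine ⟨Units.mk0 μ hμ0, fun s => ?_⟩
  by_cases hs : s = 0
  · subst hs; simp [D.a_zero]
  · have e1 := D.ha (Units.mk0 s hs)⁻¹ 1
    rw [inv_inv, Units.val_mk0, mul_one] at e1
    have e2 := D.ha (Units.mk0 s hs)⁻¹ μ
    rw [inv_inv, Units.val_mk0] at e2
    have e3 := D.com k hi hz (Units.mk0 s hs)⁻¹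
    set H := h (Units.mk0 s hs)⁻¹ with hH
    have e4 : k * (a s * H) = a (μ * s) * k * H := by
      rw [← e1, ← mul_assoc, e3, mul_assoc, hμ, ← mul_assoc, e2, mul_assoc, mul_assoc, e3, mul_comm s μ]
    rw [← mul_assoc] at e4
    simpa using mul_right_cancel e4

theorem eq_one_of_fix {k : Q} (hi : Φ k i = i) (hz : Φ k z = z)
    (h1 : Φ k (Φ (a 1) z) = Φ (a 1) z) : Φ k = 1 := by
  obtain ⟨μ, hμ⟩ := D.lin hi hz
  have h2 : Φ k (Φ (a 1) z) = Φ (a μ) z := by
    rw [← Equiv.Perm.mul_apply, ← map_mul, hμ, mul_one, map_mul, Equiv.Perm.mul_apply, hz]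
  have h3 : (μ : F) = 1 := D.a_inj (h2.symm.trans h1)
  ext ω
  rw [Equiv.Perm.one_apply]
  by_cases hω : ω = i
  · rw [hω, hi]
  · obtain ⟨s, rfl⟩ := D.ex ω hω
    rw [← Equiv.Perm.mul_apply, ← map_mul, hμ, h3, one_mul, map_mul, Equiv.Perm.mul_apply, hz]

theorem exists_base (x y w : Ω) (hxy : x ≠ y) (hxw : x ≠ w) (hyw : y ≠ w) :
    ∃ g, Φ g i = x ∧ Φ g z = y ∧ Φ g (Φ (a 1) z) = w := by
  obtain ⟨g0, h0⟩ : ∃ g0, Φ g0 i = x := by
    by_cases hx : x = i
    · exact ⟨1, by simp [hx]⟩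
    · obtain ⟨s, rfl⟩ := D.ex x hx
      exact ⟨a s * n, by rw [map_mul, Equiv.Perm.mul_apply, D.n_i]⟩
  have hne : (Φ g0)⁻¹ y ≠ i := by
    intro e
    apply hxy
    rw [← h0, ← e, app_inv]
  obtain ⟨s, hs⟩ := D.ex _ hne
  have h1i : Φ (g0 * a s) i = x := by rw [map_mul, Equiv.Perm.mul_apply, D.a_i, h0]
  have h1z : Φ (g0 * a s) z = y := by
    rw [map_mul, Equiv.Perm.mul_apply, hs, app_inv]
  set g1 := g0 * a s
  have hne2 : (Φ g1)⁻¹ w ≠ i := by
    intro e
    apply hxw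
    rw [← h1i, ← e, app_inv]
  obtain ⟨t, ht⟩ := D.ex _ hne2
  have ht0 : t ≠ 0 := by
    rintro rfl
    apply hyw
    rw [D.a_zero, map_one, Equiv.Perm.one_apply] at ht
    rw [← h1z, ht, app_inv]
  refine ⟨g1 * h (Units.mk0 t ht0)⁻¹, ?_, ?_, ?_⟩
  · rw [map_mul, Equiv.Perm.mul_apply, D.h_i, h1i]
  · rw [map_mul, Equiv.Perm.mul_apply, D.h_z, h1z]
  · have e1 := D.ha (Units.mk0 t ht0)⁻¹ 1
    rw [inv_inv, Units.val_mk0, mul_one] at e1
    rw [← Equiv.Perm.mul_apply, ← map_mul, mul_assoc, e1, ← mul_assoc, map_mul,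
      Equiv.Perm.mul_apply, D.h_z, map_mul, Equiv.Perm.mul_apply, ht, app_inv]

theorem eq_one_of_fix' {k : Q} (x y w : Ω) (hxy : x ≠ y) (hxw : x ≠ w) (hyw : y ≠ w)
    (hx : Φ k x = x) (hy : Φ k y = y) (hw : Φ k w = w) : Φ k = 1 := by
  obtain ⟨g, h1, h2, h3⟩ := D.exists_base x y w hxy hxw hyw
  have key : ∀ u v, Φ g u = v → Φ k v = v → Φ (g⁻¹ * k * g) u = u := by
    intro u v e1 e2
    rw [map_mul, map_mul, Equiv.Perm.mul_apply, Equiv.Perm.mul_apply, e1, e2, ← e1, map_inv,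
      inv_app]
  have := D.eq_one_of_fix (key _ _ h1 hx) (key _ _ h2 hy) (key _ _ h3 hw)
  rw [map_mul, map_mul, map_inv] at this
  have h5 : Φ k = Φ g * ((Φ g)⁻¹ * Φ k * Φ g) * (Φ g)⁻¹ := by group
  rw [h5, this]; group

theorem a_z_ne (s : F) : Φ (a s) z ≠ i := by
  intro e
  exact D.ne ((Φ (a s)).injective (e.trans (D.a_i s).symm)).symm

/-- The number of points. -/
theorem card_eq [Finite F] : Nat.card Ω = Nat.card F + 1 := by
  classical
  rw [← Finite.card_option]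
  refine Nat.card_congr (Equiv.ofBijective
    (fun o : Option F => o.elim i (fun s => Φ (a s) z)) ⟨?_, ?_⟩).symm
  · rintro (_ | s) (_ | t) e
    · rfl
    · exact absurd e.symm (D.a_z_ne t)
    · exact absurd e (D.a_z_ne s)
    · exact congrArg some (D.a_inj e)
  · intro ω
    by_cases hω : ω = i
    · exact ⟨none, hω.symm⟩
    · obtain ⟨s, hs⟩ := D.ex ω hω
      exact ⟨some s, hs⟩

theorem finite_Ω [Finite F] : Finite Ω := by
  apply Nat.finite_of_card_ne_zero
  rw [D.card_eq]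
  omega

theorem range_sharp :
    MulAction.IsMultiplyPretransitive Φ.range Ω 3 ∧
      ∀ x : Fin 3 ↪ Ω, MulAction.stabilizer Φ.range x = ⊥ := by
  constructor
  · constructor
    intro x y
    obtain ⟨g, h1, h2, h3⟩ := D.exists_base (x 0) (x 1) (x 2) (by simp) (by simp) (by simp)
    obtain ⟨g', h1', h2', h3'⟩ := D.exists_base (y 0) (y 1) (y 2) (by simp) (by simp) (by simp)
    refine ⟨⟨Φ g' * (Φ g)⁻¹, ⟨g' * g⁻¹, by simp⟩⟩, ?_⟩
    ext j
    change Φ g' ((Φ g)⁻¹ (x j)) = y j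
    fin_cases j
    · rw [Fin.zero_eta, ← h1, inv_app, h1']
    · rw [Fin.mk_one, ← h2, inv_app, h2']
    · change Φ g' ((Φ g)⁻¹ (x 2)) = y 2
      rw [← h3, inv_app, h3']
  · intro x
    rw [eq_bot_iff]
    rintro ⟨_, ⟨g, rfl⟩⟩ hg
    rw [MulAction.mem_stabilizer_iff] at hg
    have key : ∀ j, Φ g (x j) = x j := fun j => by
      have := congrArg (fun f : Fin 3 ↪ Ω => f j) hg
      exact this
    rw [Subgroup.mem_bot]
    apply Subtype.ext
    exact D.eq_one_of_fix' (x 0) (x 1) (x 2) (by simp) (by simp) (by simp) (key 0) (key 1) (key 2)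

/-- The stabiliser of the two points. -/
def K0 (Φ : Q →* Equiv.Perm Ω) (i z : Ω) : Subgroup Q where
  carrier := {k | Φ k i = i ∧ Φ k z = z}
  mul_mem' := by
    rintro x y ⟨h1, h2⟩ ⟨h3, h4⟩
    simp only [Set.mem_ofPred_eq, map_mul, Equiv.Perm.mul_apply, h1, h2, h3, h4, and_self]
  one_mem' := by simp
  inv_mem' := by
    rintro x ⟨h1, h2⟩
    constructor
    · conv_lhs => rw [← h1]
      rw [map_inv, inv_app]
    · conv_lhs => rw [← h2]
      rw [map_inv, inv_app]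

omit D in
theorem mem_K0 {k : Q} : k ∈ K0 Φ i z ↔ Φ k i = i ∧ Φ k z = z := Iff.rfl

/-- The cyclic complement `T₀`. -/
def T0 : Subgroup Q where
  carrier := {k | ∃ r, k = h r}
  mul_mem' := by
    rintro _ _ ⟨r, rfl⟩ ⟨r', rfl⟩
    exact ⟨r * r', (D.h_mul r r').symm⟩
  one_mem' := ⟨1, D.h_one.symm⟩
  inv_mem' := by
    rintro _ ⟨r, rfl⟩
    exact ⟨r⁻¹, (D.h_inv r).symm⟩

theorem h_ker {r : Fˣ} (e : Φ (h r) = 1) : r = 1 := by
  have e1 := D.ha r 1
  have e2 : Φ (a ((↑r⁻¹ : F) * 1)) z = Φ (a 1) z := by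
    have := congrArg (fun g => Φ g z) e1
    simp only [map_mul, Equiv.Perm.mul_apply, e, Equiv.Perm.one_apply] at this
    exact this.symm
  have := D.a_inj e2
  rw [mul_one] at this
  have h2 : r⁻¹ = 1 := Units.ext this
  exact inv_eq_one.mp h2

/-- `K₀ = A T₀`. -/
theorem exists_h {k : Q} (hi : Φ k i = i) (hz : Φ k z = z) : ∃ r, k * h r ∈ Φ.ker := by
  obtain ⟨μ, hμ⟩ := D.lin hi hz
  refine ⟨μ, ?_⟩
  rw [MonoidHom.mem_ker]
  apply D.eq_one_of_fix
  · rw [map_mul, Equiv.Perm.mul_apply, D.h_i, hi]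
  · rw [map_mul, Equiv.Perm.mul_apply, D.h_z, hz]
  · rw [← Equiv.Perm.mul_apply, ← map_mul, mul_assoc, D.ha, ← mul_assoc, hμ, ← mul_assoc,
      Units.mul_inv, one_mul, mul_assoc, map_mul, Equiv.Perm.mul_apply, map_mul,
      Equiv.Perm.mul_apply, D.h_z, hz]

theorem ker_comm_a {k : Q} (hk : k ∈ Φ.ker) (s : F) : k * a s = a s * k := by
  rw [MonoidHom.mem_ker] at hk
  obtain ⟨μ, hμ⟩ := D.lin (k := k) (by rw [hk]; rfl) (by rw [hk]; rfl)
  have h2 : Φ (a 1) z = Φ (a μ) z := by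
    have : Φ (k * a 1) z = Φ (a μ * k) z := by rw [hμ, mul_one]
    rw [map_mul, map_mul, hk, one_mul, mul_one] at this
    exact this
  have h3 := D.a_inj h2
  rw [hμ, ← h3, one_mul]

theorem ker_central [hc : IsCyclic Φ.ker] {k : Q} (hk : k ∈ Φ.ker) (g : Q) : k * g = g * k := by
  -- the centraliser of the kernel
  let C : Subgroup Q := Subgroup.centralizer (Φ.ker : Set Q)
  have hCn : C.Normal := inferInstance
  have ha : ∀ s, a s ∈ C := fun s => by
    rw [Subgroup.mem_centralizer_iff]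
    intro x hx
    exact D.ker_comm_a hx s
  have hh : ∀ r, h r ∈ C := fun r => by
    rw [Subgroup.mem_centralizer_iff]
    intro x hx
    have hx' : Φ x = 1 := hx
    exact D.com x (by rw [hx']; rfl) (by rw [hx']; rfl) r
  have hA : Φ.ker ≤ C := by
    intro y hy
    rw [Subgroup.mem_centralizer_iff]
    intro x hx
    letI := hc.commGroup
    have := mul_comm (⟨x, hx⟩ : Φ.ker) ⟨y, hy⟩
    exact congrArg Subtype.val this
  have hK : ∀ g, Φ g i = i → Φ g z = z → g ∈ C := by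
    intro g h1 h2
    obtain ⟨r, hr⟩ := D.exists_h h1 h2
    have := C.mul_mem (hA hr) (C.inv_mem (hh r))
    simpa using this
  have hN : ∀ g, Φ g i = i → g ∈ C := by
    intro g h1
    have hne : Φ g z ≠ i := by
      intro e
      exact D.ne ((Φ g).injective (h1.trans e.symm))
    obtain ⟨s, hs⟩ := D.ex _ hne
    have h3 : (a s)⁻¹ * g ∈ C := by
      apply hK
      · rw [map_mul, Equiv.Perm.mul_apply, h1, map_inv]
        conv_lhs => rw [← D.a_i s]
        rw [inv_app]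
      · rw [map_mul, Equiv.Perm.mul_apply, ← hs, map_inv, inv_app]
    have := C.mul_mem (ha s) h3
    simpa using this
  have hT : ∀ g, Φ g i ≠ z → g ∈ C := by
    intro g h1
    have hne : Φ n⁻¹ (Φ g i) ≠ i := by
      intro e
      apply h1
      rw [map_inv] at e
      rw [← app_inv (Φ n) (Φ g i), e, D.n_i]
    obtain ⟨s, hs⟩ := D.ex _ hne
    -- `n a s n⁻¹` takes `∞` to `g ∞`
    have h3 : (n * a s * n⁻¹)⁻¹ * g ∈ C := by
      apply hN
      rw [map_mul, Equiv.Perm.mul_apply]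
      have h4 : Φ (n * a s * n⁻¹) i = Φ g i := by
        have h5 : Φ n⁻¹ i = z := by
          rw [map_inv]
          conv_lhs => rw [← D.n_z]
          rw [inv_app]
        rw [map_mul, map_mul, Equiv.Perm.mul_apply, Equiv.Perm.mul_apply, h5, hs, map_inv, app_inv]
      rw [← h4, map_inv, inv_app]
    have h6 : n * a s * n⁻¹ ∈ C := hCn.conj_mem _ (ha s) n
    have := C.mul_mem h6 h3
    rwa [mul_inv_cancel_left] at this
  have hall : g ∈ C := by
    by_cases h1 : Φ g i = z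
    · have h2 : a 1 * g ∈ C := by
        apply hT
        rw [map_mul, Equiv.Perm.mul_apply, h1]
        intro e
        exact one_ne_zero (D.inj 1 e)
      have := C.mul_mem (C.inv_mem (ha 1)) h2
      simpa using this
    · exact hT g h1
  rw [Subgroup.mem_centralizer_iff] at hall
  exact hall k hk

theorem index_K0 [Finite F] : (K0 Φ i z).index = (Nat.card F + 1) * Nat.card F := by
  classical
  have hΩ := D.finite_Ω
  letI : MulAction Q Ω := MulAction.compHom Ω Φ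
  have e1 : K0 Φ i z = MulAction.stabilizer Q ((i, z) : Ω × Ω) := by
    ext k
    rw [mem_K0, MulAction.mem_stabilizer_iff, Prod.ext_iff]
    rfl
  rw [e1, MulAction.index_stabilizer]
  have e2 : MulAction.orbit Q ((i, z) : Ω × Ω) = {p | p.1 ≠ p.2} := by
    ext ⟨x, y⟩
    constructor
    · rintro ⟨g, hg⟩
      have h1 : Φ g i = x := congrArg Prod.fst hg
      have h2 : Φ g z = y := congrArg Prod.snd hg
      change x ≠ y
      rw [← h1, ← h2]
      exact fun e => D.ne ((Φ g).injective e)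
    · intro hxy
      change x ≠ y at hxy
      -- take any third point
      obtain ⟨g0, h0⟩ : ∃ g0, Φ g0 i = x := by
        by_cases hx : x = i
        · exact ⟨1, by simp [hx]⟩
        · obtain ⟨s, rfl⟩ := D.ex x hx
          exact ⟨a s * n, by rw [map_mul, Equiv.Perm.mul_apply, D.n_i]⟩
      have hne : (Φ g0)⁻¹ y ≠ i := by
        intro e
        apply hxy
        rw [← h0, ← e, app_inv]
      obtain ⟨s, hs⟩ := D.ex _ hne
      refine ⟨g0 * a s, ?_⟩
      change (Φ (g0 * a s) i, Φ (g0 * a s) z) = (x, y)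
      rw [map_mul, Equiv.Perm.mul_apply, Equiv.Perm.mul_apply, D.a_i, h0, hs, app_inv]
  rw [e2]
  letI := Fintype.ofFinite Ω
  have e3 : ({p | p.1 ≠ p.2} : Set (Ω × Ω)) = ((Finset.univ : Finset Ω).offDiag : Set (Ω × Ω)) := by
    ext p
    simp
  rw [e3, Set.ncard_coe_finset, Finset.offDiag_card, Finset.card_univ, ← Nat.card_eq_fintype_card,
    D.card_eq]
  generalize Nat.card F = q
  have : (q + 1) * (q + 1) = (q + 1) * q + (q + 1) := by ring
  omega

end Dat

/-- **Main result.** -/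
theorem Dat.main [Finite Q] [Fintype F] {Φ : Q →* Equiv.Perm Ω} {a : F → Q} {h : Fˣ → Q} {n : Q}
    {i z : Ω} (D : Dat Φ a h n i z) {p f : ℕ} (hp : p.Prime) (hp2 : p ≠ 2) (hf : Odd f)
    (hF : Fintype.card F = p ^ f) (h4 : p ^ f % 4 = 3)
    (hc : IsCyclic Φ.ker) (hcard : Nat.card Φ.ker = (p ^ f - 1) / 2) :
    Nonempty (Q ≃* Matrix.ProjGenLinGroup (Fin 2) F × Multiplicative (ZMod ((p ^ f - 1) / 2))) := by
  classical
  have hΩ := D.finite_Ω
  letI := Fintype.ofFinite Ω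
  have hcardF : Nat.card F = p ^ f := by rw [Nat.card_eq_fintype_card, hF]
  -- the quotient by the kernel
  have hΩc : Fintype.card Ω = p ^ f + 1 := by
    rw [← Nat.card_eq_fintype_card, D.card_eq, hcardF]
  obtain ⟨F', _, _, hF', ⟨e1⟩⟩ := Cfsg.Agent.S0730.result hp hp2 hf hΩc Φ.range
    D.range_sharp.1 D.range_sharp.2
  obtain ⟨e2⟩ := nonempty_pgl_congr (FiniteField.ringEquivOfCardEq (K := F') (K' := F)
    (by rw [hF', hF]))
  -- the complement
  haveI : IsMulCommutative Φ.ker := ⟨⟨fun x y => by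
    letI := hc.commGroup
    exact mul_comm x y⟩⟩
  have hcop : (Nat.card Φ.ker).Coprime (Dat.K0 Φ i z).index := by
    rw [hcard, D.index_K0, hcardF]
    generalize hq : p ^ f = q at h4
    obtain ⟨j, rfl⟩ : ∃ j, q = 4 * j + 3 := ⟨q / 4, by omega⟩
    have e5 : (4 * j + 3 - 1) / 2 = 2 * j + 1 := by omega
    rw [e5]
    apply Nat.Coprime.mul_right
    · have : 4 * j + 3 + 1 = (2 * j + 1) * 2 + 2 := by ring
      rw [this, Nat.coprime_mul_left_add_right]
      rw [Nat.coprime_two_right]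
      exact ⟨j, rfl⟩
    · have : 4 * j + 3 = (2 * j + 1) * 2 + 1 := by ring
      rw [this, Nat.coprime_mul_left_add_right]
      exact Nat.coprime_one_right _
  obtain ⟨H, hH⟩ := Cfsg.Agent.S0051.result Φ.ker (Dat.K0 Φ i z)
    (by
      intro k hk
      have hk' : Φ k = 1 := hk
      exact ⟨by rw [hk']; rfl, by rw [hk']; rfl⟩)
    hcop D.T0
    (by
      rintro _ ⟨r, rfl⟩
      exact ⟨D.h_i r, D.h_z r⟩)
    (by
      rw [eq_bot_iff]
      rintro x ⟨⟨r, rfl⟩, hx⟩
      have := D.h_ker (r := r) hx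
      rw [this, D.h_one]
      exact Subgroup.one_mem _)
    (by
      apply le_antisymm
      · apply sup_le
        · intro k hk
          have hk' : Φ k = 1 := hk
          exact ⟨by rw [hk']; rfl, by rw [hk']; rfl⟩
        · rintro _ ⟨r, rfl⟩
          exact ⟨D.h_i r, D.h_z r⟩
      · rintro k ⟨h1, h2⟩
        obtain ⟨r, hr⟩ := D.exists_h h1 h2
        have h3 : k = (k * h r) * h r⁻¹ := by rw [D.h_inv]; group
        rw [h3]
        exact Subgroup.mul_mem_sup hr ⟨_, rfl⟩)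
  -- the direct product
  have e3 : Q ⧸ Φ.ker ≃* H := hH.symm.QuotientMulEquiv
  have e4 : Q ⧸ Φ.ker ≃* Φ.range := QuotientGroup.quotientKerEquivRange Φ
  have e5 : H ≃* Matrix.ProjGenLinGroup (Fin 2) F := e3.symm.trans (e4.trans (e1.trans e2))
  have e6 : Φ.ker ≃* Multiplicative (ZMod ((p ^ f - 1) / 2)) := by
    rw [← hcard]
    exact (zmodCyclicMulEquiv hc).symm
  let ψ : H × Φ.ker →* Q :=
    { toFun := fun x => (x.1 : Q) * x.2
      map_one' := by simp
      map_mul' := by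
        rintro ⟨x, k⟩ ⟨y, l⟩
        have := D.ker_central k.2 (y : Q)
        simp only [Prod.mk_mul_mk, Subgroup.coe_mul]
        rw [mul_assoc, mul_assoc, ← mul_assoc (k : Q), this, mul_assoc] }
  have hψ : Function.Bijective ψ := by
    have := hH.symm
    exact this
  exact ⟨(MulEquiv.ofBijective ψ hψ).symm.trans (MulEquiv.prodCongr e5 e6)⟩

end Cfsg.Agent.H339.Sharp
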