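import Cfsg.Agent.H339.Count
import Cfsg.Agent.H339.Sharp

/-!
# The quotient `N_G(M)/M` (helper339, S3324)
-/

set_option autoImplicit false
set_option linter.unusedSectionVars false
open Subgroup

namespace Cfsg.Agent.H339

theorem card_Sq_index {F : Type*} [Field F] [Finite F] (h2 : (2 : F) ≠ 0) : (Sq F).index = 2 := by
  have h1 := Subgroup.card_mul_index (Sq F)
  rw [Nat.card_units, ← card_Sq h2] at h1
  have h3 : 0 < Nat.card (Sq F) := Nat.card_pos
  exact Nat.eq_of_mul_eq_mul_left h3 h1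

theorem sq_or_neg {F : Type*} [Field F] [Finite F] (h2 : (2 : F) ≠ 0)
    (hm1 : ¬ IsSquare (-1 : F)) (x : Fˣ) : (∃ r : Fˣ, x = r * r) ∨ (∃ r : Fˣ, -x = r * r) := by
  have key : ∀ y : Fˣ, y ∈ Sq F ↔ ∃ r : Fˣ, y = r * r := by
    intro y
    constructor
    · rintro ⟨r, hr⟩
      exact ⟨r, by rw [← hr, powMonoidHom_apply, sq]⟩
    · rintro ⟨r, hr⟩
      exact ⟨r, by rw [hr, powMonoidHom_apply, sq]⟩
  by_cases hx : x ∈ Sq F
  · exact Or.inl ((key x).mp hx)
  · right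
    rw [← key]
    have h3 : (-1 : Fˣ) ∉ Sq F := by
      rw [key]
      rintro ⟨r, hr⟩
      apply hm1
      refine ⟨r, ?_⟩
      have := congrArg (fun x : Fˣ => (x : F)) hr
      simpa using this
    have h4 := Subgroup.mul_mem_iff_of_index_two (card_Sq_index h2) (a := -1) (b := x)
    rw [neg_one_mul] at h4
    rw [h4]
    exact ⟨fun h => absurd h h3, fun h => absurd h hx⟩

namespace Co

variable {G F : Type*} [Group G] [Field F]

/-- The hypotheses, after the choice of coordinates. -/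
structure Hyp2 (K : Co G F) : Prop extends K.Hyp where
  E_eq : ∀ S ∈ K.E, S = K.X
  X_mem : K.X ∈ K.E
  m1 : ¬ IsSquare (-1 : F)

theorem Hyp.exists_hyp2 {K : Co G F} (H : K.Hyp) [Finite G] [Finite F]
    (hE : Nat.card K.E = 1) (hm1 : ¬ IsSquare (-1 : F)) :
    ∃ K' : Co G F, K'.M = K.M ∧ K'.Hyp2 := by
  classical
  obtain ⟨S₁, hS₁⟩ := H.E_nonempty
  have huniq : ∀ S ∈ K.E, S = S₁ := by
    intro S hS
    rw [Nat.card_eq_one_iff_unique] at hE
    have := hE.1.elim (⟨S, hS⟩ : K.E) ⟨S₁, hS₁⟩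
    exact congrArg Subtype.val this
  choose f hf using fun t => H.exists_coord hS₁.1 hS₁.2.1 hS₁.2.2 t
  have hfu : ∀ {t v}, K.m t 0 v ∈ S₁ → v = f t := fun h =>
    (H.coord_unique hS₁.1 hS₁.2.1 h (hf _)).2
  let φ : F →+ F := AddMonoidHom.mk' f (by
    intro s t
    symm
    apply hfu
    have := S₁.mul_mem (hf s) (hf t)
    rwa [K.m_mul, add_zero] at this)
  have hφ : ∀ (r : Fˣ) (t : F), φ ((r : F) * r * t) = φ t := by
    intro r t
    change f _ = f t
    symm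
    apply hfu
    have h1 := conj_mem_cj (g := K.h r) (hf t)
    rw [huniq _ (H.E_cj_h hS₁ r), K.h_m, mul_inv_cancel_right, mul_zero] at h1
    exact h1
  have hm : ∀ t u v, (K.twist φ hφ).m t u v = K.m t u (v + f t) := K.twist_m φ hφ
  have hmsymm : ∀ t u v, K.m t u v = (K.twist φ hφ).m t u (v - f t) := by
    intro t u v
    rw [hm, sub_add_cancel]
  have hM : (K.twist φ hφ).M = K.M := by
    ext x
    rw [mem_M, mem_M]
    constructor
    · rintro ⟨t, u, v, rfl⟩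
      exact ⟨_, _, _, hm t u v⟩
    · rintro ⟨t, u, v, rfl⟩
      exact ⟨_, _, _, hmsymm t u v⟩
  have hZ : (K.twist φ hφ).Z = K.Z := rfl
  have hD : (K.twist φ hφ).D = K.D := by
    ext x
    rw [mem_D, mem_D]
    constructor
    · rintro ⟨t, v, rfl⟩
      exact ⟨_, _, hm t 0 v⟩
    · rintro ⟨t, v, rfl⟩
      exact ⟨_, _, hmsymm t 0 v⟩
  have hX : (K.twist φ hφ).X = S₁ := by
    apply Subgroup.eq_of_le_of_card_ge
    · rintro _ ⟨t, rfl⟩
      have h1 : (K.twist φ hφ).b t = K.m t 0 (f t) := by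
        rw [Co.b_eq, hm, zero_add]
      rw [h1]
      exact hf t
    · rw [card_X, hS₁.1.card]
  have hE' : (K.twist φ hφ).E = K.E := by
    unfold E IsPt
    rw [hZ, hD]
  refine ⟨K.twist φ hφ, hM, ⟨⟨?_, ?_, ?_, H.two, ?_⟩, ?_, ?_, hm1⟩⟩
  · intro v hv g hg
    obtain ⟨t, u, v', s, r, e⟩ := H.cent v hv g hg
    exact ⟨t, u, v' - f t, s, r, by rw [← hmsymm]; exact e⟩
  · rw [hM]
    exact H.nrm
  · exact H.nc
  · exact H.np
  · rw [hE', hX]
    exact huniq
  · rw [hE', hX]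
    exact hS₁

namespace Hyp2

variable {K : Co G F} (H : K.Hyp2) [Finite G] [Finite F]

include H

theorem pt_cases {S : Subgroup G} (hS : K.IsPt S) : S = K.Z ∨ ∃ s, S = cj (K.a s) K.X := by
  by_cases hZ : S = K.Z
  · exact Or.inl hZ
  · right
    obtain ⟨s, hs⟩ := H.exists_le_D hS hZ
    have h1 : cj (K.a s) S = K.X := by
      apply H.E_eq
      exact ⟨hS.cj _, fun e => hZ (H.eq_Z_of_cj_a e), hs⟩
    refine ⟨-s, ?_⟩
    rw [← h1, K.a_neg, cj_inv_cj]

theorem isPt_X : K.IsPt K.X := H.X_mem.1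

theorem cj_a_X {s : F} (e : cj (K.a s) K.X = K.X) : s = 0 := by
  apply H.eq_zero_of_le_D H.X_mem.1 H.X_mem.2.1 H.X_mem.2.2
  rw [e]
  exact H.X_mem.2.2

omit H [Finite G] [Finite F] in
theorem h_conj_b (r : Fˣ) (t : F) : K.h r * K.b t * (K.h r)⁻¹ = K.b ((r : F) * r * t) := by
  rw [K.hb, mul_inv_cancel_right]

/-- The fusion in `X`. -/
theorem fusion_X {g : G} (hg : cj g K.X = K.X) :
    ∃ r : Fˣ, ∀ t, g * K.b t * g⁻¹ = K.b ((r : F) * r * t) := by
  have h1 : g * K.b 1 * g⁻¹ ∈ K.X := by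
    have := conj_mem_cj (g := g) (S := K.X) ⟨1, rfl⟩
    rwa [hg] at this
  obtain ⟨t0, ht0⟩ := h1
  have ht0' : t0 ≠ 0 := by
    rintro rfl
    rw [K.b_zero] at ht0
    have : K.b 1 = g⁻¹ * (g * K.b 1 * g⁻¹) * g := by group
    rw [ht0] at this
    rw [mul_one, inv_mul_cancel, ← K.b_zero] at this
    exact one_ne_zero (K.b_inj this)
  rcases sq_or_neg H.two H.m1 (Units.mk0 t0 ht0') with ⟨r, hr⟩ | ⟨r0, hr0⟩
  · have hr' : t0 = (r : F) * r := by
      have := congrArg (fun x : Fˣ => (x : F)) hr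
      simpa using this
    refine ⟨r, fun t => ?_⟩
    -- `(h r)⁻¹ g` centralises `b 1`
    have h2 : ((K.h r)⁻¹ * g) * K.b 1 = K.b 1 * ((K.h r)⁻¹ * g) := by
      have e1 : g * K.b 1 = K.b t0 * g := by rw [← ht0]; group
      have e2 : K.h r * K.b 1 = K.b t0 * K.h r := by rw [K.hb, mul_one, hr']
      rw [mul_assoc, e1, ← mul_assoc, ← mul_assoc]
      congr 1
      rw [inv_mul_eq_iff_eq_mul, ← mul_assoc, e2]
      group
    have h3 := H.comm_pt H.isPt_X (x := K.b 1) ⟨1, rfl⟩ (by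
      intro e
      rw [← K.b_zero] at e
      exact one_ne_zero (K.b_inj e)) h2 (K.b t) ⟨t, rfl⟩
    rw [← h_conj_b]
    have e4 : g * K.b t * g⁻¹ = K.h r * (((K.h r)⁻¹ * g) * K.b t) * g⁻¹ := by group
    rw [e4, h3]
    group
  · exfalso
    have hr' : t0 = -((r0 : F) * r0) := by
      have := congrArg (fun x : Fˣ => (x : F)) hr0
      simp only [Units.val_neg, Units.val_mk0, Units.val_mul] at this
      linear_combination -this
    -- all the elements of `X` are conjugate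
    have hall : ∀ t : F, t ≠ 0 → ∃ k, k * K.b 1 * k⁻¹ = K.b t := by
      intro t ht
      rcases sq_or_neg H.two H.m1 (Units.mk0 t ht) with ⟨r, hr⟩ | ⟨r, hr⟩
      · have hr'' : t = (r : F) * r := by
          have := congrArg (fun x : Fˣ => (x : F)) hr
          simpa using this
        exact ⟨K.h r, by rw [h_conj_b, mul_one, hr'']⟩
      · have hr'' : t = -((r : F) * r) := by
          have := congrArg (fun x : Fˣ => (x : F)) hr
          simp only [Units.val_neg, Units.val_mk0, Units.val_mul] at this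
          linear_combination -this
        refine ⟨K.h (r * r0⁻¹) * g, ?_⟩
        have e1 : K.h (r * r0⁻¹) * g * K.b 1 * (K.h (r * r0⁻¹) * g)⁻¹ =
            K.h (r * r0⁻¹) * (g * K.b 1 * g⁻¹) * (K.h (r * r0⁻¹))⁻¹ := by group
        rw [e1, ht0, h_conj_b, hr', hr'']
        congr 1
        have := r0.ne_zero
        simp only [Units.val_mul, Units.val_inv_eq_inv_val]
        field_simp
    obtain ⟨g0, hg0⟩ := H.isPt_X
    obtain ⟨v, hv, hnc⟩ := H.nc
    have h1 : g0 * K.d 1 * g0⁻¹ ∈ K.X := by rw [hg0]; exact conj_mem_cj ⟨1, rfl⟩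
    have h2 : g0 * K.d v * g0⁻¹ ∈ K.X := by rw [hg0]; exact conj_mem_cj ⟨v, rfl⟩
    obtain ⟨t1, ht1⟩ := h1
    obtain ⟨t2, ht2⟩ := h2
    have e1 : K.d 1 = g0⁻¹ * K.b t1 * g0 := by rw [← ht1]; group
    have e2 : K.d v = g0⁻¹ * K.b t2 * g0 := by rw [← ht2]; group
    have ht1' : t1 ≠ 0 := by
      rintro rfl
      apply K.d_ne_one (one_ne_zero)
      rw [e1, K.b_zero]; group
    have ht2' : t2 ≠ 0 := by
      rintro rfl
      apply K.d_ne_one hv
      rw [e2, K.b_zero]; group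
    obtain ⟨k1, hk1⟩ := hall t1 ht1'
    obtain ⟨k2, hk2⟩ := hall t2 ht2'
    apply hnc (g0⁻¹ * k2 * k1⁻¹ * g0)
    rw [e1, e2, ← hk1, ← hk2]
    group

/-- Elements fixing `Z` and `X` and centralising `Z`. -/
theorem eq_of_fix {k : G} (hX : cj k K.X = K.X) (hc : k * K.d 1 = K.d 1 * k) :
    ∃ t u v r, k = K.m t u v * K.h r := by
  obtain ⟨t, u, v, s, r, e⟩ := H.cent 1 one_ne_zero k hc
  have h1 : k * K.b 1 * k⁻¹ ∈ K.X := by
    have := conj_mem_cj (g := k) (S := K.X) ⟨1, rfl⟩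
    rwa [hX] at this
  obtain ⟨t', ht'⟩ := h1
  rw [K.b_eq, K.b_eq, mul_inv_eq_iff_eq_mul] at ht'
  have h2 := K.e_m t u v s r 1 0 0
  rw [← e, ht'] at h2
  have h3 := (K.m_inj (mul_right_cancel h2)).2.1
  simp only [mul_zero, mul_one, zero_add] at h3
  have hs : s = 0 := by
    rcases mul_eq_zero.mp h3.symm with h | h
    · exact h
    · exact absurd h (mul_ne_zero r.ne_zero r.ne_zero)
  subst hs
  rw [K.a_zero, mul_one] at e
  exact ⟨t, u, v, r, e⟩

omit [Finite G] [Finite F] in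
theorem M_normal : K.M.Normal := ⟨fun x hx g => H.nrm g x hx⟩

theorem h_mem_M {r : Fˣ} (h : K.h r ∈ K.M) : r = 1 := by
  obtain ⟨t, u, v, e⟩ := h
  have e1 : K.m 0 0 0 * K.a 0 * K.h r = K.m t u v := by
    rw [K.m_zero, K.a_zero, one_mul, one_mul, e]
  exact (K.e_eq_m H.two e1).2

theorem a_mem_M {s : F} (h : K.a s ∈ K.M) : s = 0 := by
  obtain ⟨t, u, v, e⟩ := h
  have e1 : K.m 0 0 0 * K.a s * K.h 1 = K.m t u v := by
    rw [K.m_zero, K.h_one, one_mul, mul_one, e]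
  exact (K.e_eq_m H.two e1).1

omit [Finite G] [Finite F] in
theorem conj_d_mem {k : G} (hZ : cj k K.Z = K.Z) (v : F) : ∃ v', k⁻¹ * K.d v * k = K.d v' := by
  have h1 : K.d v ∈ cj k K.Z := by rw [hZ]; exact ⟨v, rfl⟩
  rw [mem_cj] at h1
  exact h1

/-- Conjugates of elements centralising `Z` centralise `Z`. -/
theorem conj_comm {k y : G} (hZ : cj k K.Z = K.Z) (hy : ∀ v, y * K.d v = K.d v * y) (v : F) :
    (k * y * k⁻¹) * K.d v = K.d v * (k * y * k⁻¹) := by
  obtain ⟨v', hv'⟩ := H.conj_d_mem hZ v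
  have e : K.d v = k * K.d v' * k⁻¹ := by rw [← hv']; group
  rw [e]
  calc k * y * k⁻¹ * (k * K.d v' * k⁻¹) = k * (y * K.d v') * k⁻¹ := by group
    _ = k * (K.d v' * y) * k⁻¹ := by rw [hy]
    _ = _ := by group

/-- `h r` commutes modulo `M` with the elements fixing `Z` and `X`. -/
theorem comm_h {k : G} (hZ : cj k K.Z = K.Z) (hX : cj k K.X = K.X) (r : Fˣ) :
    (k * K.h r * k⁻¹) * (K.h r)⁻¹ ∈ K.M := by
  haveI := H.M_normal
  -- first step: up to sign
  have step : ∀ r : Fˣ, ∃ ρ : Fˣ, (ρ = r ∨ ρ = -r) ∧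
      (QuotientGroup.mk (k * K.h r * k⁻¹) : G ⧸ K.M) = QuotientGroup.mk (K.h ρ) := by
    intro r
    have hc := H.conj_comm hZ (y := K.h r) (K.hd r) 1
    have hkX : cj (k * K.h r * k⁻¹) K.X = K.X := by
      have e : cj k⁻¹ K.X = K.X := by
        conv_lhs => rw [← hX]
        rw [cj_inv_cj]
      rw [cj_mul, cj_mul, e, K.cj_h_X, hX]
    obtain ⟨t, u, v, ρ, e⟩ := H.eq_of_fix hkX hc
    obtain ⟨x, hx⟩ := H.fusion_X hX
    refine ⟨ρ, ?_, ?_⟩
    · -- compare the actions on `b 1`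
      have h1 : (k * K.h r * k⁻¹) * K.b 1 * (k * K.h r * k⁻¹)⁻¹ = K.b ((r : F) * r) := by
        have hx' := hx ((x : F)⁻¹ * (x : F)⁻¹)
        have e3 : (x : F) * x * ((x : F)⁻¹ * (x : F)⁻¹) = 1 := by
          have := x.ne_zero
          field_simp
        rw [e3] at hx'
        have e4 : k⁻¹ * K.b 1 * k = K.b ((x : F)⁻¹ * (x : F)⁻¹) := by
          rw [← hx']; group
        have e5 : (k * K.h r * k⁻¹) * K.b 1 * (k * K.h r * k⁻¹)⁻¹ =
            k * (K.h r * (k⁻¹ * K.b 1 * k) * (K.h r)⁻¹) * k⁻¹ := by group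
        rw [e5, e4, h_conj_b, hx]
        congr 1
        have := x.ne_zero
        field_simp
      have h2 : (K.m t u v * K.h ρ) * K.b 1 * (K.m t u v * K.h ρ)⁻¹ = K.b ((ρ : F) * ρ) := by
        have e5 : (K.m t u v * K.h ρ) * K.b 1 * (K.m t u v * K.h ρ)⁻¹ =
            K.m t u v * (K.h ρ * K.b 1 * (K.h ρ)⁻¹) * (K.m t u v)⁻¹ := by group
        rw [e5, h_conj_b, mul_one, K.b_eq, K.m_comm, mul_inv_cancel_right]
      rw [e, h2] at h1
      have h3 := K.b_inj h1
      rcases mul_self_eq_mul_self_iff.mp h3 with h | h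
      · left; exact Units.ext h
      · right; apply Units.ext; rw [h, Units.val_neg]
    · rw [e, QuotientGroup.mk_mul, (QuotientGroup.eq_one_iff _).mpr (K.m_mem t u v), one_mul]
  -- the map is multiplicative
  have hmul : ∀ x y : Fˣ, (QuotientGroup.mk (k * K.h (x * y) * k⁻¹) : G ⧸ K.M) =
      QuotientGroup.mk (k * K.h x * k⁻¹) * QuotientGroup.mk (k * K.h y * k⁻¹) := by
    intro x y
    rw [← QuotientGroup.mk_mul, K.h_mul]
    congr 1
    group
  have hsq : ∀ x : Fˣ, (QuotientGroup.mk (k * K.h (x * x) * k⁻¹) : G ⧸ K.M) =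
      QuotientGroup.mk (K.h (x * x)) := by
    intro x
    obtain ⟨ρ, h1, h2⟩ := step x
    rw [hmul, h2, ← QuotientGroup.mk_mul, ← K.h_mul]
    rcases h1 with rfl | rfl
    · rfl
    · rw [neg_mul_neg]
  have hneg : (QuotientGroup.mk (k * K.h (-1) * k⁻¹) : G ⧸ K.M) = QuotientGroup.mk (K.h (-1)) := by
    obtain ⟨ρ, h1, h2⟩ := step (-1)
    rcases h1 with rfl | rfl
    · exact h2
    · exfalso
      rw [neg_neg, K.h_one, QuotientGroup.mk_one, QuotientGroup.eq_one_iff] at h2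
      have h3 := H.nrm k⁻¹ _ h2
      have e : k⁻¹ * (k * K.h (-1) * k⁻¹) * k⁻¹⁻¹ = K.h (-1) := by group
      rw [e] at h3
      have h4 := H.h_mem_M h3
      apply H.two
      have := congrArg (fun x : Fˣ => (x : F)) h4
      simp only [Units.val_neg, Units.val_one] at this
      linear_combination -this
  have hall : (QuotientGroup.mk (k * K.h r * k⁻¹) : G ⧸ K.M) = QuotientGroup.mk (K.h r) := by
    rcases sq_or_neg H.two H.m1 r with ⟨x, hx⟩ | ⟨x, hx⟩
    · rw [hx]; exact hsq x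
    · have hx' : r = (-1) * (x * x) := by rw [← hx]; simp
      rw [hx', hmul, hneg, hsq, ← QuotientGroup.mk_mul, ← K.h_mul]
  rw [← QuotientGroup.eq_one_iff, QuotientGroup.mk_mul, hall, ← QuotientGroup.mk_mul,
    mul_inv_cancel, QuotientGroup.mk_one]

/-- Elements fixing `Z` normalise `P = a(F) M`. -/
theorem conj_a {k : G} (hZ : cj k K.Z = K.Z) (s : F) :
    ∃ t u v s', k * K.a s * k⁻¹ = K.m t u v * K.a s' := by
  have hc := H.conj_comm hZ (y := K.a s) (K.ad s) 1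
  obtain ⟨t, u, v, s', r, e⟩ := H.cent 1 one_ne_zero _ hc
  refine ⟨t, u, v, s', ?_⟩
  suffices hr : r = 1 by rw [e, hr, K.h_one, mul_one]
  set y := k * K.a s * k⁻¹ with hy
  -- the action of powers of `y`
  have key : ∀ N : ℕ, ∀ u v : F, ∃ v', y ^ N * K.m 0 u v = K.m 0 ((r : F) ^ N * u) v' * y ^ N := by
    intro N
    induction N with
    | zero => intro u v; exact ⟨v, by simp⟩
    | succ N ih =>
      intro u1 v1
      have h1 : ∃ v', y * K.m 0 u1 v1 = K.m 0 ((r : F) * u1) v' * y := by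
        have h2 := K.e_m t u v s' r 0 u1 v1
        rw [← e] at h2
        simp only [mul_zero, add_zero] at h2
        exact ⟨_, h2⟩
      obtain ⟨v2, hv2⟩ := h1
      obtain ⟨v3, hv3⟩ := ih ((r : F) * u1) v2
      refine ⟨v3, ?_⟩
      rw [pow_succ, mul_assoc, hv2, ← mul_assoc, hv3, mul_assoc]
      congr 2
      ring
  have hpow : y ^ Nat.card F = 1 := by
    have h1 : ∀ N : ℕ, K.a s ^ N = K.a (N • s) := by
      intro N
      induction N with
      | zero => simp [K.a_zero]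
      | succ N ih => rw [pow_succ, ih, ← K.a_add, succ_nsmul]
    have h2 : K.a s ^ Nat.card F = 1 := by
      rw [h1, card_nsmul_eq_zero', K.a_zero]
    rw [hy, conj_pow, h2]
    group
  obtain ⟨v', hv'⟩ := key (Nat.card F) 1 0
  rw [hpow, one_mul, mul_one, mul_one] at hv'
  have h3 := (K.m_inj hv').2.1
  have h4 : r ^ Nat.card F = r := by
    have h5 : r ^ Nat.card Fˣ = 1 := pow_card_eq_one'
    rw [Nat.card_units] at h5
    have h6 : Nat.card F = (Nat.card F - 1) + 1 := by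
      have := Finite.one_lt_card (α := F)
      omega
    rw [h6, pow_succ, h5, one_mul]
  rw [← h4]
  apply Units.ext
  rw [Units.val_pow_eq_pow_val, ← h3, Units.val_one]

/-- The swap. -/
theorem exists_swap : ∃ n, cj n K.Z = K.X ∧ cj n K.X = K.Z := by
  obtain ⟨g, hg⟩ := H.isPt_X
  have h1 : cj g⁻¹ K.Z ≠ K.Z := by
    intro e
    apply H.X_mem.2.1
    rw [hg]
    conv_lhs => rw [← e]
    rw [cj_cj_inv]
  rcases H.pt_cases (isPt_Z.cj g⁻¹) with h2 | ⟨s, hs⟩
  · exact absurd h2 h1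
  · refine ⟨g * K.a s, ?_, ?_⟩
    · rw [cj_mul, H.cj_a_Z, hg]
    · rw [cj_mul, ← hs, cj_cj_inv]

end Hyp2

/-- The permutation representation on the points. -/
def perm (K : Co G F) : G →* Equiv.Perm K.Pts where
  toFun g :=
    { toFun := fun S => ⟨cj g S, IsPt.cj S.2 g⟩
      invFun := fun S => ⟨cj g⁻¹ S, IsPt.cj S.2 g⁻¹⟩
      left_inv := fun S => Subtype.ext (cj_inv_cj _ _)
      right_inv := fun S => Subtype.ext (cj_cj_inv _ _) }
  map_one' := by
    ext S : 2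
    exact cj_one _
  map_mul' g g' := by
    ext S : 2
    exact cj_mul _ _ _

namespace Hyp2

variable {K : Co G F} (H : K.Hyp2) [Finite G] [Finite F]

include H

omit [Finite G] [Finite F] in
theorem M_le_ker : K.M ≤ K.perm.ker := by
  intro x hx
  rw [MonoidHom.mem_ker]
  ext S : 2
  apply cj_eq_of_comm
  intro y hy
  obtain ⟨t, u, v, rfl⟩ := hx
  obtain ⟨t', u', v', rfl⟩ := H.pt_le S.2 hy
  exact K.m_comm _ _ _ _ _ _

end Hyp2

end Co

end Cfsg.Agent.H339
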