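import Mathlib

/-!
# Classes of maximal subgroups (helper339, S5907)

`Cj A B` : `B` is a conjugate of `A`.  `NCl n G P` : there are `n` pairwise non-conjugate maximal subgroups with `P`.
-/

set_option autoImplicit false

namespace Cfsg.Agent.H339.MaxCl

open Subgroup

/-- `B` is a conjugate of `A` -/
def Cj {G : Type*} [Group G] (A B : Subgroup G) : Prop := ∃ g : G, A.map (MulAut.conj g).toMonoidHom = B

section basic

variable {G : Type*} [Group G]

theorem mem_map_conj {A : Subgroup G} {g x : G} : x ∈ A.map (MulAut.conj g).toMonoidHom ↔ g⁻¹ * x * g ∈ A := by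
  constructor
  · rintro ⟨y, hy, rfl⟩
    have e : g⁻¹ * (MulAut.conj g y) * g = y := by rw [MulAut.conj_apply]; group
    show g⁻¹ * (MulAut.conj g y) * g ∈ A
    rw [e]; exact hy
  · intro h
    refine ⟨g⁻¹ * x * g, h, ?_⟩
    show MulAut.conj g (g⁻¹ * x * g) = x
    rw [MulAut.conj_apply]; group

theorem map_conj_mul (A : Subgroup G) (g h : G) :
    (A.map (MulAut.conj h).toMonoidHom).map (MulAut.conj g).toMonoidHom = A.map (MulAut.conj (g * h)).toMonoidHom := by
  ext x
  rw [mem_map_conj, mem_map_conj, mem_map_conj]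
  have e : h⁻¹ * (g⁻¹ * x * g) * h = (g * h)⁻¹ * x * (g * h) := by group
  rw [e]

theorem map_conj_one (A : Subgroup G) : A.map (MulAut.conj (1 : G)).toMonoidHom = A := by
  ext x
  rw [mem_map_conj]
  simp

theorem Cj.refl (A : Subgroup G) : Cj A A := ⟨1, map_conj_one A⟩

theorem Cj.symm {A B : Subgroup G} (h : Cj A B) : Cj B A := by
  obtain ⟨g, rfl⟩ := h
  exact ⟨g⁻¹, by rw [map_conj_mul, inv_mul_cancel, map_conj_one]⟩

theorem Cj.trans {A B C : Subgroup G} (h : Cj A B) (h' : Cj B C) : Cj A C := by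
  obtain ⟨g, rfl⟩ := h
  obtain ⟨g', rfl⟩ := h'
  exact ⟨g' * g, by rw [map_conj_mul]⟩

/-- conjugates of `A` lying in `B` -/
theorem map_conj_mono {A B : Subgroup G} (h : A ≤ B) (g : G) :
    A.map (MulAut.conj g).toMonoidHom ≤ B.map (MulAut.conj g).toMonoidHom := Subgroup.map_mono h

theorem card_map_conj (A : Subgroup G) (g : G) : Nat.card (A.map (MulAut.conj g).toMonoidHom) = Nat.card A :=
  Subgroup.card_map_of_injective (MulAut.conj g).injective

theorem Cj.card_eq {A B : Subgroup G} (h : Cj A B) : Nat.card A = Nat.card B := by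
  obtain ⟨g, rfl⟩ := h
  exact (card_map_conj A g).symm

theorem Cj.isCoatom {A B : Subgroup G} (h : Cj A B) (hA : IsCoatom A) : IsCoatom B := by
  obtain ⟨g, rfl⟩ := h
  exact (OrderIso.isCoatom_iff (MulAut.conj g).mapSubgroup A).2 hA

/-- a normal subgroup is contained in `A` iff in its conjugates -/
theorem Cj.le_iff {A B N : Subgroup G} [N.Normal] (h : Cj A B) : N ≤ A ↔ N ≤ B := by
  have key : ∀ {A B : Subgroup G}, Cj A B → N ≤ A → N ≤ B := by
    rintro A _ ⟨g, rfl⟩ h x hx
    rw [mem_map_conj]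
    have := h ((inferInstance : N.Normal).conj_mem x hx g⁻¹)
    rwa [inv_inv] at this
  exact ⟨key h, key h.symm⟩

end basic

/-- there are `n` pairwise non-conjugate maximal subgroups with the property `P` -/
def NCl (n : ℕ) (G : Type*) [Group G] (P : Subgroup G → Prop) : Prop :=
  ∃ M : Fin n → Subgroup G, (∀ i, IsCoatom (M i) ∧ P (M i)) ∧ ∀ i j, Cj (M i) (M j) → i = j

/-- there are at least `n` classes of maximal subgroups -/
def AtLeast (n : ℕ) (G : Type*) [Group G] : Prop := NCl n G fun _ => True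

section ncl

variable {G : Type*} [Group G]

theorem NCl.mono {n : ℕ} {P Q : Subgroup G → Prop} (h : NCl n G P) (hPQ : ∀ M, IsCoatom M → P M → Q M) : NCl n G Q := by
  obtain ⟨M, hM, hc⟩ := h
  exact ⟨M, fun i => ⟨(hM i).1, hPQ _ (hM i).1 (hM i).2⟩, hc⟩

theorem NCl.atLeast {n : ℕ} {P : Subgroup G → Prop} (h : NCl n G P) : AtLeast n G := h.mono fun _ _ _ => trivial

theorem NCl.le {n m : ℕ} {P : Subgroup G → Prop} (h : NCl n G P) (hm : m ≤ n) : NCl m G P := by
  obtain ⟨M, hM, hc⟩ := h
  exact ⟨fun i => M (Fin.castLE hm i), fun i => hM _, fun i j hij => Fin.castLE_injective hm (hc _ _ hij)⟩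

/-- disjoint invariant properties add -/
theorem NCl.add {n m : ℕ} {P Q R : Subgroup G → Prop} (h : NCl n G P) (h' : NCl m G Q)
    (hPQ : ∀ A B, P A → Q B → ¬ Cj A B) (hP : ∀ A, P A → R A) (hQ : ∀ A, Q A → R A) : NCl (n + m) G R := by
  obtain ⟨M, hM, hc⟩ := h
  obtain ⟨M', hM', hc'⟩ := h'
  let N : Fin (n + m) → Subgroup G := fun i => Fin.addCases (motive := fun _ => Subgroup G) M M' i
  have hl : ∀ i : Fin n, N (Fin.castAdd m i) = M i := fun i => Fin.addCases_left i
  have hr : ∀ i : Fin m, N (Fin.natAdd n i) = M' i := fun i => Fin.addCases_right i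
  refine ⟨N, ?_, ?_⟩
  · intro i
    refine Fin.addCases (fun i => ?_) (fun i => ?_) i
    · rw [hl]; exact ⟨(hM i).1, hP _ (hM i).2⟩
    · rw [hr]; exact ⟨(hM' i).1, hQ _ (hM' i).2⟩
  · intro i j
    refine Fin.addCases (fun i => ?_) (fun i => ?_) i <;> refine Fin.addCases (fun j => ?_) (fun j => ?_) j
    · rw [hl, hl]
      intro h; rw [hc _ _ h]
    · rw [hl, hr]
      intro h; exact absurd h (hPQ _ _ (hM i).2 (hM' j).2)
    · rw [hl, hr]
      intro h; exact absurd h.symm (hPQ _ _ (hM j).2 (hM' i).2)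
    · rw [hr, hr]
      intro h; rw [hc' _ _ h]

/-- covering by `n` classes bounds the number of classes -/
theorem NCl.le_of_cov {n m : ℕ} {P : Subgroup G → Prop} (h : NCl n G P) (N : Fin m → Subgroup G)
    (hN : ∀ K, IsCoatom K → P K → ∃ i, Cj (N i) K) : n ≤ m := by
  obtain ⟨M, hM, hc⟩ := h
  choose f hf using fun i => hN (M i) (hM i).1 (hM i).2
  have hinj : Function.Injective f := fun i j hij => hc i j ((hf i).symm.trans (hij ▸ hf j))
  simpa using Fintype.card_le_of_injective f hinj

end ncl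

section transfer

variable {G H : Type*} [Group G] [Group H]

theorem comap_conj (f : G →* H) (hf : Function.Surjective f) (A : Subgroup H) (g : G) :
    (A.comap f).map (MulAut.conj g).toMonoidHom = (A.map (MulAut.conj (f g)).toMonoidHom).comap f := by
  ext x
  rw [mem_map_conj, mem_comap, mem_comap, mem_map_conj]
  simp

theorem isCoatom_comap_iff (f : G →* H) (hf : Function.Surjective f) (A : Subgroup H) :
    IsCoatom (A.comap f) ↔ IsCoatom A := by
  constructor
  · intro h
    refine ⟨fun e => h.1 (by rw [e, comap_top]), fun B hB => ?_⟩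
    have h1 : A.comap f < B.comap f := by
      rw [Subgroup.comap_lt_comap_of_surjective hf]; exact hB
    have h2 := h.2 _ h1
    rw [← comap_top f] at h2
    exact Subgroup.comap_injective hf h2
  · intro h
    refine ⟨fun e => h.1 ?_, fun B hB => ?_⟩
    · rw [← comap_top f] at e
      exact Subgroup.comap_injective hf e
    · have hk : f.ker ≤ B := (Subgroup.ker_le_comap f A).trans hB.le
      have h1 : B = (B.map f).comap f := by
        rw [Subgroup.comap_map_eq, sup_eq_left.2 hk]
      have h2 : A < B.map f := by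
        rw [h1, Subgroup.comap_lt_comap_of_surjective hf] at hB
        exact hB
      rw [h1, h.2 _ h2, comap_top]

/-- classes of a quotient lift -/
theorem NCl.comap {n : ℕ} {P : Subgroup H → Prop} (h : NCl n H P) (f : G →* H) (hf : Function.Surjective f) :
    NCl n G (fun M => f.ker ≤ M ∧ P (M.map f)) := by
  obtain ⟨M, hM, hc⟩ := h
  refine ⟨fun i => (M i).comap f, fun i => ⟨(isCoatom_comap_iff f hf _).2 (hM i).1, Subgroup.ker_le_comap f _, ?_⟩, ?_⟩
  · rw [Subgroup.map_comap_eq_self_of_surjective hf]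
    exact (hM i).2
  · rintro i j ⟨g, hg⟩
    rw [comap_conj f hf] at hg
    exact hc i j ⟨f g, Subgroup.comap_injective hf hg⟩

theorem AtLeast.comap {n : ℕ} (h : AtLeast n H) (f : G →* H) (hf : Function.Surjective f) :
    NCl n G (fun M => f.ker ≤ M) := (NCl.comap h f hf).mono fun _ _ hM => hM.1

theorem AtLeast.of_surjective {n : ℕ} (h : AtLeast n H) (f : G →* H) (hf : Function.Surjective f) : AtLeast n G :=
  (h.comap f hf).atLeast

theorem AtLeast.congr {n : ℕ} (e : G ≃* H) : AtLeast n G ↔ AtLeast n H :=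
  ⟨fun h => h.of_surjective e.symm.toMonoidHom e.symm.surjective, fun h => h.of_surjective e.toMonoidHom e.surjective⟩

/-- classes of maximal subgroups containing a normal subgroup come from the quotient -/
theorem atLeast_quotient {n : ℕ} (f : G →* H) (hf : Function.Surjective f) (h : NCl n G fun M => f.ker ≤ M) :
    AtLeast n H := by
  obtain ⟨M, hM, hc⟩ := h
  have key : ∀ i, ((M i).map f).comap f = M i := fun i => by
    rw [Subgroup.comap_map_eq, sup_eq_left.2 (hM i).2]
  refine ⟨fun i => (M i).map f, fun i => ⟨?_, trivial⟩, ?_⟩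
  · rw [← isCoatom_comap_iff f hf, key]
    exact (hM i).1
  · rintro i j ⟨g, hg⟩
    obtain ⟨g, rfl⟩ := hf g
    apply hc i j
    refine ⟨g, ?_⟩
    rw [← key i, comap_conj f hf, hg, key]

end transfer

end Cfsg.Agent.H339.MaxCl
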