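import Cfsg.Agent.H339.MaxTwo
import Cfsg.Agent.OrdDiv.Core

/-!
# Two coprime indices: the numerical check (helper339, S5907)

`check l b a` : with `l` the factorization of `n` (the prime `2` excluded, exponent `a`), there are no divisors `d, e ≥ b` of `n` such that
each prime divisor `r` of `n` has `d ≡ 1` or `e ≡ 1` mod `r`.
-/

set_option autoImplicit false

namespace Cfsg.Agent.H339.MaxNum

open Cfsg.Agent.OrdDiv Cfsg.Agent.H339.MaxCl

universe u v

def powAll (p : ℕ) (Q : ℕ → Bool) : ℕ → ℕ → Bool
  | 0, m => Q m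
  | e + 1, m => bif Q m then powAll p Q e (Nat.mul m p) else false

def allD (Q : ℕ → Bool) : List (ℕ × ℕ) → ℕ → Bool
  | [], m => Q m
  | x :: l, m => powAll x.1 (allD Q l) x.2 m

def anyNe (e : ℕ) : List ℕ → Bool
  | [] => false
  | p :: l => bif Nat.beq (Nat.mod e p) 1 then anyNe e l else true

def splitD (d : ℕ) (k : List ℕ → List (ℕ × ℕ) → Bool) : List (ℕ × ℕ) → List ℕ → List (ℕ × ℕ) → Bool
  | [], bs, gs => k bs gs
  | x :: l, bs, gs => bif Nat.beq (Nat.mod d x.1) 1 then splitD d k l bs (x :: gs) else splitD d k l (x.1 :: bs) gs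

/-- membership -/
def memB (e : ℕ) : List ℕ → Bool
  | [] => false
  | p :: l => bif Nat.beq e p then true else memB e l

def inner (l : List (ℕ × ℕ)) (b : ℕ) (dead : List ℕ) (d : ℕ) : Bool :=
  bif Nat.blt d b then true else bif memB d dead then true else
    splitD d (fun bs gs => allD (fun e => bif Nat.blt e b then true else bif anyNe e bs then true else memB e dead) gs 1)
      l [] []

def check (l : List (ℕ × ℕ)) (b a : ℕ) (dead : List ℕ) : Bool := allD (inner ((2, a) :: l) b dead) l 1

section sound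

theorem powAll_sound {p : ℕ} {Q : ℕ → Bool} : ∀ {e m : ℕ}, powAll p Q e m = true → ∀ k, k ≤ e → Q (m * p ^ k) = true := by
  intro e
  induction e with
  | zero =>
    intro m h k hk
    have : k = 0 := by omega
    rw [this, pow_zero, mul_one]
    exact h
  | succ e ih =>
    intro m h k hk
    unfold powAll at h
    cases hQ : Q m with
    | false => rw [hQ, cond_false] at h; exact absurd h Bool.false_ne_true
    | true =>
      rw [hQ, cond_true] at h
      cases k with
      | zero => rw [pow_zero, mul_one]; exact hQ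
      | succ k =>
        have h1 := ih h k (by omega)
        have e1 : m * p ^ (k + 1) = Nat.mul m p * p ^ k := by
          show m * p ^ (k + 1) = m * p * p ^ k
          ring
        rw [e1]
        exact h1

theorem allD_sound {Q : ℕ → Bool} : ∀ {l : List (ℕ × ℕ)} {m : ℕ}, allD Q l m = true → (∀ x ∈ l, (x.1).Prime) →
    ∀ d, d ∣ prodl l → Q (m * d) = true := by
  intro l
  induction l with
  | nil =>
    intro m h _ d hd
    have : d = 1 := Nat.dvd_one.1 hd
    rw [this, mul_one]
    exact h
  | cons x l ih =>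
    intro m h hp d hd
    have h1 : prodl (x :: l) = x.1 ^ x.2 * prodl l := by
      unfold prodl
      rw [List.map_cons, List.prod_cons]
    rw [h1] at hd
    obtain ⟨a, b, ha, hb, rfl⟩ := (Nat.dvd_mul).1 hd
    obtain ⟨k, hk, rfl⟩ := (Nat.dvd_prime_pow (hp x List.mem_cons_self)).1 ha
    have h2 := powAll_sound h k hk
    have h3 := ih h2 (fun y hy => hp y (List.mem_cons_of_mem _ hy)) b hb
    rw [← mul_assoc]
    exact h3

theorem anyNe_sound {e : ℕ} : ∀ {l : List ℕ}, anyNe e l = true → ∃ p ∈ l, e % p ≠ 1 := by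
  intro l
  induction l with
  | nil => intro h; exact absurd h Bool.false_ne_true
  | cons p l ih =>
    intro h
    unfold anyNe at h
    cases hb : Nat.beq (Nat.mod e p) 1 with
    | false =>
      refine ⟨p, List.mem_cons_self, fun h1 => ?_⟩
      have h2 : Nat.mod e p = 1 := h1
      rw [h2] at hb
      exact absurd hb (by decide)
    | true =>
      rw [hb, cond_true] at h
      obtain ⟨q, hq, hq'⟩ := ih h
      exact ⟨q, List.mem_cons_of_mem _ hq, hq'⟩

theorem memB_sound {e : ℕ} : ∀ {l : List ℕ}, memB e l = true → e ∈ l := by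
  intro l
  induction l with
  | nil => intro h; exact absurd h Bool.false_ne_true
  | cons p l ih =>
    intro h
    unfold memB at h
    cases hb : Nat.beq e p with
    | true =>
      rw [Nat.eq_of_beq_eq_true hb]
      exact List.mem_cons_self
    | false =>
      rw [hb, cond_false] at h
      exact List.mem_cons_of_mem _ (ih h)

theorem splitD_sound {d : ℕ} {k : List ℕ → List (ℕ × ℕ) → Bool} : ∀ {l : List (ℕ × ℕ)} {bs : List ℕ} {gs : List (ℕ × ℕ)},
    splitD d k l bs gs = true → ∃ (bs' : List ℕ) (gs' : List (ℕ × ℕ)), k bs' gs' = true ∧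
      (∀ p ∈ bs', p ∈ bs ∨ ∃ x ∈ l, x.1 = p ∧ d % p ≠ 1) ∧ (∀ x ∈ gs', x ∈ gs ∨ x ∈ l) ∧
      ∀ e, e ∣ prodl l * prodl gs → (∀ x ∈ l, d % x.1 ≠ 1 → Nat.Coprime e x.1) → e ∣ prodl gs' := by
  intro l
  induction l with
  | nil =>
    intro bs gs h
    refine ⟨bs, gs, h, fun p hp => Or.inl hp, fun x hx => Or.inl hx, fun e he _ => ?_⟩
    simpa [prodl] using he
  | cons x l ih =>
    intro bs gs h
    unfold splitD at h
    have hx : prodl (x :: l) = x.1 ^ x.2 * prodl l := by
      unfold prodl
      rw [List.map_cons, List.prod_cons]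
    cases hb : Nat.beq (Nat.mod d x.1) 1 with
    | true =>
      rw [hb, cond_true] at h
      obtain ⟨bs', gs', h1, h2, h3, h4⟩ := ih h
      refine ⟨bs', gs', h1, ?_, ?_, ?_⟩
      · intro p hp
        rcases h2 p hp with h | ⟨y, hy, hy'⟩
        · exact Or.inl h
        · exact Or.inr ⟨y, List.mem_cons_of_mem _ hy, hy'⟩
      · intro y hy
        rcases h3 y hy with h | h
        · rcases List.mem_cons.1 h with h | h
          · exact Or.inr (by rw [h]; exact List.mem_cons_self)
          · exact Or.inl h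
        · exact Or.inr (List.mem_cons_of_mem _ h)
      · intro e he hc
        refine h4 e ?_ fun y hy => hc y (List.mem_cons_of_mem _ hy)
        have hg : prodl (x :: gs) = x.1 ^ x.2 * prodl gs := by
          unfold prodl
          rw [List.map_cons, List.prod_cons]
        rw [hg]
        rw [hx] at he
        have e1 : prodl l * (x.1 ^ x.2 * prodl gs) = x.1 ^ x.2 * prodl l * prodl gs := by ring
        rw [e1]
        exact he
    | false =>
      rw [hb, cond_false] at h
      have hd : d % x.1 ≠ 1 := by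
        intro h1
        have h2 : Nat.mod d x.1 = 1 := h1
        rw [h2] at hb
        exact absurd hb (by decide)
      obtain ⟨bs', gs', h1, h2, h3, h4⟩ := ih h
      refine ⟨bs', gs', h1, ?_, ?_, ?_⟩
      · intro p hp
        rcases h2 p hp with h | ⟨y, hy, hy'⟩
        · rcases List.mem_cons.1 h with h | h
          · exact Or.inr ⟨x, List.mem_cons_self, h.symm, by rw [h]; exact hd⟩
          · exact Or.inl h
        · exact Or.inr ⟨y, List.mem_cons_of_mem _ hy, hy'⟩
      · intro y hy
        rcases h3 y hy with h | h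
        · exact Or.inl h
        · exact Or.inr (List.mem_cons_of_mem _ h)
      · intro e he hc
        refine h4 e ?_ fun y hy => hc y (List.mem_cons_of_mem _ hy)
        rw [hx, mul_assoc] at he
        have h5 : Nat.Coprime e (x.1 ^ x.2) := Nat.Coprime.pow_right _ (hc x List.mem_cons_self hd)
        exact h5.dvd_of_dvd_mul_left he

theorem no_pair {l : List (ℕ × ℕ)} {n b a : ℕ} {dead : List ℕ} (hv : valid ((2, a) :: l) n = true)
    (hpos : ((2, a) :: l).all (fun x => Nat.blt 0 x.2) = true) (hb : ¬ n ∣ (b - 1).factorial) (hc : check l b a dead = true) {d e : ℕ} (hd1 : d ≠ 1)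
    (he1 : e ≠ 1) (hdd : d ∉ dead) (hde : e ∉ dead) (hd : d ∣ n) (he : e ∣ n) (hdf : n ∣ d.factorial) (hef : n ∣ e.factorial) :
    ∃ r : ℕ, r.Prime ∧ r ∣ n ∧ d % r ≠ 1 ∧ e % r ≠ 1 := by
  by_contra hcon
  push Not at hcon
  have hpr := valid_prime hv
  have hn : prodl ((2, a) :: l) = n := valid_prod hv
  have hx : prodl ((2, a) :: l) = 2 ^ a * prodl l := by
    unfold prodl
    rw [List.map_cons, List.prod_cons]
  have hpos' : ∀ x ∈ ((2, a) :: l : List (ℕ × ℕ)), x.2 ≠ 0 := by
    intro x hx
    have := (List.all_eq_true.1 hpos) x hx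
    rw [Nat.blt_eq] at this
    omega
  have ha : a ≠ 0 := hpos' (2, a) List.mem_cons_self
  have h2n : 2 ∣ n := by
    rw [← hn, hx]
    exact (dvd_pow_self 2 (by omega)).trans (dvd_mul_right _ _)
  have hge : ∀ c : ℕ, n ∣ c.factorial → b ≤ c := by
    intro c hcf
    by_contra hlt
    exact hb (hcf.trans (Nat.factorial_dvd_factorial (by omega)))
  have hdvd : ∀ x ∈ ((2, a) :: l : List (ℕ × ℕ)), x.2 ≠ 0 → x.1 ∣ n := by
    intro x hxl hx2
    rw [← hn]
    have h1 : x.1 ^ x.2 ∣ prodl ((2, a) :: l) := List.dvd_prod (List.mem_map_of_mem hxl)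
    exact (dvd_pow_self _ hx2).trans h1
  -- one direction
  have key : ∀ d e : ℕ, d ≠ 1 → e ≠ 1 → d ∉ dead → e ∉ dead → d ∣ n → e ∣ n → b ≤ d → b ≤ e → d % 2 = 1 →
      (∀ r : ℕ, r.Prime → r ∣ n → d % r ≠ 1 → e % r = 1) → False := by
    intro d e hd1 he1 hdd hde hd he hdb heb hd2 hr
    have hdl : d ∣ prodl l := by
      have h1 : Nat.Coprime d (2 ^ a) := by
        apply Nat.Coprime.pow_right
        rw [Nat.coprime_comm, Nat.Prime.coprime_iff_not_dvd Nat.prime_two]
        omega
      rw [← hn, hx] at hd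
      exact h1.dvd_of_dvd_mul_left hd
    have h1 := allD_sound hc (fun x hx => hpr x (List.mem_cons_of_mem _ hx)) d hdl
    rw [one_mul] at h1
    unfold inner at h1
    have hblt : Nat.blt d b = false := by
      rw [← Bool.not_eq_true, Nat.blt_eq]
      omega
    have hmd : memB d dead = false := by
      rw [← Bool.not_eq_true]
      exact fun h => hdd (memB_sound h)
    rw [hblt, cond_false, hmd, cond_false] at h1
    obtain ⟨bs, gs, h2, h3, h4, h5⟩ := splitD_sound h1
    have hebl : ∀ x ∈ ((2, a) :: l : List (ℕ × ℕ)), d % x.1 ≠ 1 → x.2 ≠ 0 → e % x.1 = 1 := fun x hxl hdx hx2 =>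
      hr x.1 (hpr x hxl) (hdvd x hxl hx2) hdx
    have hpos2 : ∀ x ∈ ((2, a) :: l : List (ℕ × ℕ)), x.2 = 0 → Nat.Coprime e x.1 := by
      intro x hxl hx2
      rw [Nat.coprime_comm, Nat.Prime.coprime_iff_not_dvd (hpr x hxl)]
      intro hxe
      have h6 := valid_exact hv x hxl
      rw [hx2, zero_add, pow_one] at h6
      exact h6 (hxe.trans he)
    have heg : e ∣ prodl gs := by
      refine h5 e ?_ ?_
      · rw [hn]
        exact he.trans (dvd_mul_right _ _)
      · intro x hxl hdx
        by_cases hx2 : x.2 = 0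
        · exact hpos2 x hxl hx2
        · rw [Nat.coprime_comm, Nat.Prime.coprime_iff_not_dvd (hpr x hxl)]
          intro hxe
          have h6 := hebl x hxl hdx hx2
          rw [Nat.mod_eq_zero_of_dvd hxe] at h6
          exact absurd h6 (by norm_num)
    have hgp : ∀ x ∈ gs, (x.1).Prime := by
      intro x hx
      rcases h4 x hx with h | h
      · exact absurd h List.not_mem_nil
      · exact hpr x h
    have h6 := allD_sound h2 hgp e heg
    rw [one_mul] at h6
    have hblt' : Nat.blt e b = false := by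
      rw [← Bool.not_eq_true, Nat.blt_eq]
      omega
    rw [hblt', cond_false] at h6
    have hany : anyNe e bs = true := by
      cases ha : anyNe e bs with
      | true => rfl
      | false =>
        rw [ha, cond_false] at h6
        exact absurd (memB_sound h6) hde
    obtain ⟨p, hp, hp'⟩ := anyNe_sound hany
    rcases h3 p hp with h | ⟨x, hxl, rfl, hdx⟩
    · exact absurd h List.not_mem_nil
    · exact hp' (hebl x hxl hdx (hpos' x hxl))
  have hr2 := hcon 2 Nat.prime_two h2n
  by_cases h2 : d % 2 = 1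
  · exact key d e hd1 he1 hdd hde hd he (hge d hdf) (hge e hef) h2 fun r hr hrn hdr => hcon r hr hrn hdr
  · refine key e d he1 hd1 hde hdd he hd (hge e hef) (hge d hdf) (hr2 h2) fun r hr hrn her => ?_
    by_contra h
    exact her (hcon r hr hrn h)

end sound

/-- **rows by arithmetic** -/
theorem supp_of_check {K : Type v} [Group K] [Finite K] (hsimp : IsSimpleGroup K) (hns : ¬ Group.IsSolvable K)
    {l : List (ℕ × ℕ)} {n b a : ℕ} (dead : List ℕ) (hn : Nat.card K = n) (hv : valid ((2, a) :: l) n = true)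
    (hpos : ((2, a) :: l).all (fun x => Nat.blt 0 x.2) = true) (hb : ¬ n ∣ (b - 1).factorial)
    (hc : check l b a dead = true) (hdead : ∀ H : Subgroup K, H.index ∉ dead) : Supp.{u} 3 K := by
  rintro X _ _ S _ ⟨f⟩ _ _ _ _
  have h1 : IsSimpleGroup ↥S := f.isSimpleGroup
  have h2 : ¬ Group.IsSolvable ↥S := fun h =>
    hns (Group.isSolvable_of_isSolvable_injective (f := f.symm.toMonoidHom) f.symm.injective)
  have hcard : Nat.card S = n := by rw [← hn]; exact Nat.card_congr f.toEquiv
  by_contra hcon
  obtain ⟨M, hM, -, hR⟩ := exists_indices h1 h2 (n := 2) (by norm_num) hcon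
  have hidx : ∀ i, (M i).index = ((M i).subgroupOf S).index := fun i =>
    index_eq (sup_eq_top_of_coatom (hM i).1 (hM i).2)
  have hnd : ∀ i, (M i).index ∉ dead := by
    intro i h
    rw [hidx i] at h
    refine hdead (((M i).subgroupOf S).map f.toMonoidHom) ?_
    rwa [Subgroup.index_map_of_bijective (f := f.toMonoidHom) f.bijective]
  have h3 : ∀ i, (M i).index ≠ 1 ∧ (M i).index ∣ n ∧ n ∣ ((M i).index).factorial := by
    intro i
    refine ⟨fun e => (hM i).1.1 (Subgroup.index_eq_one.1 e), ?_, ?_⟩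
    · rw [hidx i, ← hcard]
      exact Subgroup.index_dvd_card _
    · rw [hidx i, ← hcard]
      refine Cfsg.Agent.H940.MaxCls.card_dvd_factorial ?_
      rw [Ne, Subgroup.subgroupOf_eq_top]
      exact (hM i).2
  obtain ⟨r, hr1, hr2, hr3, hr4⟩ := no_pair hv hpos hb hc (h3 0).1 (h3 1).1 (hnd 0) (hnd 1) (h3 0).2.1 (h3 1).2.1
    (h3 0).2.2 (h3 1).2.2
  have := Fact.mk hr1
  obtain ⟨i, R, hRi⟩ := hR r (by rw [hcard]; exact hr2)
  have h4 := index_modEq (sup_eq_top_of_coatom (hM i).1 (hM i).2) R hRi
  have h5 : (M i).index % r = 1 := by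
    rw [h4]
    exact Nat.mod_eq_of_lt hr1.one_lt
  fin_cases i
  · exact hr3 h5
  · exact hr4 h5

end Cfsg.Agent.H339.MaxNum
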