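import Cfsg.Agent.H339.MaxTwo

/-!
# Rank one groups have three classes of supplements (helper339, S5907)

`supp_rank_one` : `K` simple, the normalizer of a Sylow `p`-subgroup `P` is maximal of index `|P| + 1`, and no `p ^ k > 1` dividing `|P|` is
`1` modulo all the primes `r ≠ p` dividing `|K|`.
-/

set_option autoImplicit false
set_option linter.unusedSectionVars false

namespace Cfsg.Agent.H339.MaxCl

open Subgroup

universe u v

theorem supp_rank_one' {K : Type v} [Group K] [Finite K] (hsimp : IsSimpleGroup K) (hns : ¬ Group.IsSolvable K)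
    {p : ℕ} [hp : Fact p.Prime] (hpK : p ∣ Nat.card K) (P : Sylow p K)
    (hco : IsCoatom (normalizer ((P : Subgroup K) : Set K)))
    (hidx : (normalizer ((P : Subgroup K) : Set K)).index = Nat.card P + 1)
    (hk : ∀ k : ℕ, 1 ≤ k → p ^ k ∣ Nat.card P → (∃ H : Subgroup K, H.index = p ^ k) →
      ∃ r : ℕ, r.Prime ∧ r ≠ p ∧ r ∣ Nat.card K ∧ p ^ k % r ≠ 1) :
    Supp.{u} 3 K := by
  rintro X _ _ S _ ⟨f⟩ _ _ _ _
  have h1 : IsSimpleGroup ↥S := f.isSimpleGroup
  have h2 : ¬ Group.IsSolvable ↥S := fun h =>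
    hns (Group.isSolvable_of_isSolvable_injective (f := f.symm.toMonoidHom) f.symm.injective)
  have hcard : Nat.card S = Nat.card K := Nat.card_congr f.toEquiv
  by_contra hcon
  obtain ⟨M, hM, -, hR⟩ := exists_indices h1 h2 (n := 2) (by norm_num) hcon
  have hMS : ∀ i, M i ⊔ S = ⊤ := fun i => sup_eq_top_of_coatom (hM i).1 (hM i).2
  have hidx' : ∀ i, (M i).index = ((M i).subgroupOf S).index := fun i => index_eq (hMS i)
  have hne1 : ∀ i, (M i).index ≠ 1 := fun i e => (hM i).1.1 (Subgroup.index_eq_one.1 e)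
  have hdvd : ∀ i, (M i).index ∣ Nat.card K := fun i => by
    rw [hidx' i, ← hcard]; exact Subgroup.index_dvd_card _
  -- the one containing `N(P)`
  obtain ⟨i, Q, hQ⟩ := hR p (by rw [hcard]; exact hpK)
  have hi : (M i).index = Nat.card P + 1 := by
    -- transport the Sylow subgroup
    let Q' : Sylow p K := Q.mapSurjective (f := f.toMonoidHom) f.surjective
    have hQ' : (Q' : Subgroup K) = (Q : Subgroup ↥S).map f.toMonoidHom := rfl
    obtain ⟨g, hg⟩ := MulAction.exists_smul_eq K P Q'
    have h3 : (Q' : Subgroup K) = (P : Subgroup K).map (MulAut.conj g).toMonoidHom := by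
      rw [← hg, Sylow.coe_subgroup_smul]
      rfl
    have h4 : Cj (normalizer ((P : Subgroup K) : Set K)) (normalizer ((Q' : Subgroup K) : Set K)) := by
      refine ⟨g, ?_⟩
      rw [h3]
      exact Subgroup.map_equiv_normalizer_eq (P : Subgroup K) (MulAut.conj g)
    have hcoQ : IsCoatom (normalizer ((Q' : Subgroup K) : Set K)) := h4.isCoatom hco
    have hle : normalizer ((Q' : Subgroup K) : Set K) ≤ ((M i).subgroupOf S).map f.toMonoidHom := by
      intro x hx
      refine ⟨f.symm x, ?_, f.apply_symm_apply x⟩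
      show ((f.symm x : ↥S) : X) ∈ M i
      apply hQ
      rw [mem_normalizer_iff] at hx ⊢
      have key : ∀ y : ↥S, y ∈ (Q : Subgroup ↥S) ↔ f.symm x * y * (f.symm x)⁻¹ ∈ (Q : Subgroup ↥S) := by
        intro y
        have h5 := hx (f y)
        have h6 : ∀ z : ↥S, f z ∈ (Q' : Subgroup K) ↔ z ∈ (Q : Subgroup ↥S) := by
          intro z
          rw [hQ']
          constructor
          · rintro ⟨w, hw, hwz⟩
            have : w = z := f.injective hwz
            rwa [← this]
          · intro hz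
            exact ⟨z, hz, rfl⟩
        rw [h6] at h5
        have h7 : x * f y * x⁻¹ = f (f.symm x * y * (f.symm x)⁻¹) := by simp
        rw [h7, h6] at h5
        exact h5
      intro y
      constructor
      · rintro ⟨z, hz, rfl⟩
        exact ⟨f.symm x * z * (f.symm x)⁻¹, (key z).1 hz, rfl⟩
      · rintro ⟨z, hz, hzy⟩
        have e : y = (((f.symm x)⁻¹ * z * f.symm x : ↥S) : X) := by
          show y = ((f.symm x : ↥S) : X)⁻¹ * (z : X) * ((f.symm x : ↥S) : X)
          have : (z : X) = ((f.symm x : ↥S) : X) * y * ((f.symm x : ↥S) : X)⁻¹ := hzy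
          rw [this]; group
        rw [e]
        refine ⟨(f.symm x)⁻¹ * z * f.symm x, (key _).2 ?_, rfl⟩
        have e2 : f.symm x * ((f.symm x)⁻¹ * z * f.symm x) * (f.symm x)⁻¹ = z := by group
        rw [e2]; exact hz
    have hmt : ((M i).subgroupOf S).map f.toMonoidHom ≠ ⊤ := by
      refine map_equiv_ne_top f ?_
      rw [Ne, subgroupOf_eq_top]
      exact (hM i).2
    have heq : normalizer ((Q' : Subgroup K) : Set K) = ((M i).subgroupOf S).map f.toMonoidHom := by
      by_contra hne
      exact hmt (hcoQ.2 _ (lt_of_le_of_ne hle hne))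
    have h8 : (normalizer ((Q' : Subgroup K) : Set K)).index = (normalizer ((P : Subgroup K) : Set K)).index := by
      have hc := h4.card_eq
      have h9 : Nat.card (normalizer ((P : Subgroup K) : Set K)) * (normalizer ((P : Subgroup K) : Set K)).index = Nat.card K :=
        Subgroup.card_mul_index _
      have h10 : Nat.card (normalizer ((Q' : Subgroup K) : Set K)) * (normalizer ((Q' : Subgroup K) : Set K)).index = Nat.card K :=
        Subgroup.card_mul_index _
      rw [← h9, hc] at h10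
      exact Nat.eq_of_mul_eq_mul_left Nat.card_pos h10
    rw [hidx' i, ← hidx, ← h8, heq]
    exact (Subgroup.index_map_of_bijective (f := f.toMonoidHom) f.bijective _).symm
  obtain ⟨k0, hk0⟩ := IsPGroup.iff_card.1 P.2
  -- the other one
  have hfin : ∀ r : ℕ, r.Prime → r ∣ Nat.card K → r ≠ p → ∃ j, j ≠ i ∧ (M j).index % r = 1 := by
    intro r hr hrK hrp
    have := Fact.mk hr
    obtain ⟨j, R, hRj⟩ := hR r (by rw [hcard]; exact hrK)
    have h4 := index_modEq (hMS j) R hRj
    have h5 : (M j).index % r = 1 := by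
      rw [h4]
      exact Nat.mod_eq_of_lt hr.one_lt
    refine ⟨j, ?_, h5⟩
    rintro rfl
    rw [hi] at h4
    have h6 : Nat.card P ≡ 0 [MOD r] := Nat.ModEq.add_right_cancel' 1 h4
    have h7 : r ∣ p ^ k0 := by rw [← hk0]; exact (Nat.modEq_zero_iff_dvd).1 h6
    exact hrp ((Nat.prime_dvd_prime_iff_eq hr hp.out).1 (hr.dvd_of_dvd_pow h7))
  obtain ⟨j, hj⟩ : ∃ j : Fin 2, ∀ j' : Fin 2, j' ≠ i → j' = j := by
    fin_cases i
    · exact ⟨1, by decide⟩
    · exact ⟨0, by decide⟩
  have hmod : ∀ r : ℕ, r.Prime → r ∣ Nat.card K → r ≠ p → (M j).index % r = 1 := by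
    intro r hr hrK hrp
    obtain ⟨j', hj', h⟩ := hfin r hr hrK hrp
    rwa [hj j' hj'] at h
  -- the index is a power of `p`
  have hpow : ∃ k : ℕ, (M j).index = p ^ k := by
    refine ⟨_, Nat.eq_prime_pow_of_unique_prime_dvd (Subgroup.index_ne_zero_of_finite) ?_⟩
    intro r hr hrM
    by_contra hrp
    have h9 := hmod r hr (hrM.trans (hdvd j)) hrp
    rw [Nat.mod_eq_zero_of_dvd hrM] at h9
    exact absurd h9 (by norm_num)
  obtain ⟨k, hkk⟩ := hpow
  have hk1 : 1 ≤ k := by
    rcases Nat.eq_zero_or_pos k with h | h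
    · rw [h, pow_zero] at hkk
      exact absurd hkk (hne1 j)
    · exact h
  have hkP : p ^ k ∣ Nat.card P := by
    rw [Sylow.card_eq_multiplicity]
    refine pow_dvd_pow p ?_
    have := hdvd j
    rw [hkk] at this
    exact (hp.out.pow_dvd_iff_le_factorization Nat.card_pos.ne').1 this
  obtain ⟨r, hr, hrp, hrK, hr1⟩ := hk k hk1 hkP ⟨((M j).subgroupOf S).map f.toMonoidHom, by
    rw [Subgroup.index_map_of_bijective (f := f.toMonoidHom) f.bijective, ← hidx' j, hkk]⟩
  apply hr1
  rw [← hkk]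
  exact hmod r hr hrK hrp

theorem supp_rank_one {K : Type v} [Group K] [Finite K] (hsimp : IsSimpleGroup K) (hns : ¬ Group.IsSolvable K)
    {p : ℕ} [hp : Fact p.Prime] (hpK : p ∣ Nat.card K) (P : Sylow p K)
    (hco : IsCoatom (normalizer ((P : Subgroup K) : Set K)))
    (hidx : (normalizer ((P : Subgroup K) : Set K)).index = Nat.card P + 1)
    (hk : ∀ k : ℕ, 1 ≤ k → p ^ k ∣ Nat.card P → ∃ r : ℕ, r.Prime ∧ r ≠ p ∧ r ∣ Nat.card K ∧ p ^ k % r ≠ 1) :
    Supp.{u} 3 K := supp_rank_one' hsimp hns hpK P hco hidx fun k h1 h2 _ => hk k h1 h2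

end Cfsg.Agent.H339.MaxCl
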