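import Cfsg.Agent.H339.MaxT
import Cfsg.Agent.S4387

/-!
# Reduction of S5907 to rows for simple groups (helper339)

`main_red` : a finite non-solvable group `G` has at least three classes of maximal subgroups; if it has at most three,
`G/Φ(G)` is simple.
-/

set_option autoImplicit false
set_option linter.unusedSectionVars false

namespace Cfsg.Agent.H339.MaxCl

open Subgroup

universe u

section prelim

variable {G : Type*} [Group G]

theorem mem_frattini_iff {x : G} : x ∈ frattini G ↔ ∀ K : Subgroup G, IsCoatom K → x ∈ K := by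
  constructor
  · intro h K hK
    exact frattini_le_coatom hK h
  · intro h
    show x ∈ (⨅ K ∈ {H : Subgroup G | IsCoatom H}, K)
    rw [Subgroup.mem_iInf]
    intro K
    rw [Subgroup.mem_iInf]
    intro hK
    exact h K hK

theorem frattini_quot : frattini (G ⧸ frattini G) = ⊥ := by
  rw [eq_bot_iff]
  intro x hx
  obtain ⟨g, rfl⟩ := QuotientGroup.mk_surjective x
  rw [mem_bot, QuotientGroup.eq_one_iff, mem_frattini_iff]
  intro K hK
  have h1 : ((K.map (QuotientGroup.mk' (frattini G))).comap (QuotientGroup.mk' (frattini G))) = K := by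
    rw [Subgroup.comap_map_eq, QuotientGroup.ker_mk', sup_eq_left.2 (frattini_le_coatom hK)]
  have h2 : IsCoatom (K.map (QuotientGroup.mk' (frattini G))) := by
    rw [← isCoatom_comap_iff (QuotientGroup.mk' (frattini G)) (QuotientGroup.mk'_surjective _), h1]
    exact hK
  rw [← h1, mem_comap]
  exact mem_frattini_iff.1 hx _ h2

theorem NCl.one {P : Subgroup G → Prop} {M : Subgroup G} (hM : IsCoatom M) (hP : P M) : NCl 1 G P :=
  ⟨fun _ => M, fun _ => ⟨hM, hP⟩, fun i j _ => Subsingleton.elim i j⟩

theorem NCl.two {P : Subgroup G → Prop} {M M' : Subgroup G} (hM : IsCoatom M) (hP : P M) (hM' : IsCoatom M') (hP' : P M')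
    (h : ¬ Cj M M') : NCl 2 G P := by
  refine ⟨![M, M'], ?_, ?_⟩
  · intro i
    fin_cases i
    · exact ⟨hM, hP⟩
    · exact ⟨hM', hP'⟩
  · intro i j
    fin_cases i <;> fin_cases j
    · intro _; rfl
    · intro h1; exact absurd h1 h
    · intro h1; exact absurd h1.symm h
    · intro _; rfl

/-- supplements and non-supplements of a normal subgroup -/
theorem NCl.add_normal {N : Subgroup G} [N.Normal] {n m : ℕ} (h : NCl n G fun M => ¬ N ≤ M) (h' : NCl m G fun M => N ≤ M) :
    AtLeast (n + m) G :=
  h.add h' (fun _ _ hA hB hc => hA (hc.le_iff.2 hB)) (fun _ _ => trivial) (fun _ _ => trivial)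

theorem exists_coatom_of_frattini [Finite G] (hF : frattini G = ⊥) {N : Subgroup G} (hN : N ≠ ⊥) :
    ∃ M : Subgroup G, IsCoatom M ∧ ¬ N ≤ M := by
  by_contra hcon
  push Not at hcon
  apply hN
  rw [eq_bot_iff, ← hF]
  intro x hx
  rw [mem_frattini_iff]
  intro K hK
  exact hcon K hK hx

/-- two classes of supplements of a non-solvable minimal normal subgroup -/
theorem two_supp [Finite G] {N : Subgroup G} [hN : N.Normal] (hF : frattini G = ⊥)
    (hmin : ∀ K : Subgroup G, K.Normal → K ≤ N → K = ⊥ ∨ K = N) (hns : ¬ Group.IsSolvable ↥N) :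
    NCl 2 G fun M => ¬ N ≤ M := by
  have hNb : N ≠ ⊥ := by
    rintro rfl
    exact hns inferInstance
  obtain ⟨M1, hM1, hNM1⟩ := exists_coatom_of_frattini hF hNb
  have h1 : (M1.subgroupOf N).index ≠ 1 := by
    rw [Subgroup.index_eq_one.ne, Ne, subgroupOf_eq_top]
    exact hNM1
  obtain ⟨p, hp, hpi⟩ := Nat.exists_prime_and_dvd h1
  have := Fact.mk hp
  let P : Sylow p ↥N := default
  let P' : Subgroup G := (P : Subgroup ↥N).map N.subtype
  have hP'N : P' ≤ N := Subgroup.map_subtype_le _
  have hF' : normalizer (P' : Set G) ⊔ N = ⊤ := Sylow.normalizer_sup_eq_top P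
  have hpN : p ∣ Nat.card N := hpi.trans (Subgroup.index_dvd_card _)
  have hcP' : Nat.card P' = Nat.card P := Subgroup.card_map_of_injective N.subtype_injective
  have hNtop : normalizer (P' : Set G) ≠ ⊤ := by
    intro h
    have h2 : P'.Normal := normalizer_eq_top_iff.1 h
    rcases hmin P' h2 hP'N with h3 | h3
    · have h4 : p ∣ Nat.card P := P.dvd_card_of_dvd_card hpN
      rw [← hcP', h3, Subgroup.card_bot] at h4
      exact hp.one_lt.ne' (Nat.dvd_one.1 h4)
    · apply hns
      have h5 : IsPGroup p P' := P.2.map _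
      rw [h3] at h5
      exact isSolvable_of_isPGroup h5
  obtain ⟨M2, hM2, hPM2⟩ := exists_coatom hNtop
  have hNM2 : ¬ N ≤ M2 := by
    intro h
    apply hM2.1
    rw [eq_top_iff, ← hF']
    exact sup_le hPM2 h
  refine NCl.two hM1 hNM1 hM2 hNM2 ?_
  intro hc
  obtain ⟨g, hg⟩ := hc.symm
  -- `P'` conjugated lies in `M1 ⊓ N`
  have h2 : P'.map (MulAut.conj g).toMonoidHom ≤ M1 := by
    rw [← hg]
    exact map_conj_mono (Subgroup.le_normalizer.trans hPM2) g
  have h3 : P'.map (MulAut.conj g).toMonoidHom ≤ N := by
    rintro _ ⟨x, hx, rfl⟩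
    exact hN.conj_mem x (hP'N hx) g
  have h4 : Nat.card ((P'.map (MulAut.conj g).toMonoidHom).subgroupOf N) = Nat.card P := by
    rw [← hcP', ← card_map_conj P' g]
    exact Nat.card_congr (Subgroup.subgroupOfEquivOfLe h3).toEquiv
  have h5 : Nat.card P ∣ Nat.card (M1.subgroupOf N) := by
    rw [← h4]
    refine Subgroup.card_dvd_of_le ?_
    intro x hx
    exact h2 hx
  have h6 : Nat.card (M1.subgroupOf N) * (M1.subgroupOf N).index = Nat.card N := Subgroup.card_mul_index _
  have h7 : Nat.card P * p ∣ Nat.card N := by
    rw [← h6]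
    exact Nat.mul_dvd_mul h5 hpi
  have h8 : Nat.card P * p = p ^ ((Nat.card N).factorization p + 1) := by
    rw [P.card_eq_multiplicity, pow_succ]
  rw [h8] at h7
  exact Nat.pow_succ_factorization_not_dvd Nat.card_pos.ne' hp h7

end prelim

/-- **the reduction** -/
theorem main_red (row1 : ∀ (K : Type u) [Group K] [Finite K], IsSimpleGroup K → ¬ Group.IsSolvable K → AtLeast 3 K)
    (row2 : ∀ (K : Type u) [Group K] [Finite K], IsSimpleGroup K → ¬ Group.IsSolvable K → Supp.{u} 3 K) :
    ∀ (n : ℕ) (G : Type u) [Group G] [Finite G], Nat.card G = n → ¬ Group.IsSolvable G →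
      AtLeast 3 G ∧ (¬ AtLeast 4 G → IsSimpleGroup (G ⧸ frattini G)) := by
  intro n
  induction n using Nat.strong_induction_on with
  | _ n ih =>
    intro G _ _ hn hns
    have hquot : ∀ (N : Subgroup G) [N.Normal], N ≠ ⊥ → Nat.card (G ⧸ N) < n := by
      intro N _ hN
      rw [← hn, ← Subgroup.index_eq_card, ← Subgroup.card_mul_index N]
      have h1 : 1 < Nat.card N := by
        rw [Subgroup.one_lt_card_iff_ne_bot]
        exact hN
      exact lt_mul_of_one_lt_left (Nat.pos_of_ne_zero Subgroup.index_ne_zero_of_finite) h1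
    by_cases hF : frattini G = ⊥
    · by_cases hsim : IsSimpleGroup G
      · refine ⟨row1 G hsim hns, fun _ => ?_⟩
        exact ((QuotientGroup.quotientMulEquivOfEq hF).trans QuotientGroup.quotientBot).isSimpleGroup
      · have h4 : AtLeast 4 G := by
          by_cases hA : ∃ (N : Subgroup G) (_ : N.Normal), N ≠ ⊥ ∧ ¬ Group.IsSolvable (G ⧸ N)
          · obtain ⟨N, hN, hNb, hNs⟩ := hA
            have h1 := (ih _ (hquot N hNb) (G ⧸ N) rfl hNs).1
            have h2 := h1.comap (QuotientGroup.mk' N) (QuotientGroup.mk'_surjective N)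
            rw [QuotientGroup.ker_mk'] at h2
            obtain ⟨M, hM, hNM⟩ := exists_coatom_of_frattini hF hNb
            exact NCl.add_normal (n := 1) (m := 3) (NCl.one hM hNM) h2
          · push Not at hA
            have hnt : Nontrivial G := by
              by_contra h
              rw [not_nontrivial_iff_subsingleton] at h
              exact hns inferInstance
            obtain ⟨N0, hN0, hN0b, hN0t⟩ : ∃ N0 : Subgroup G, N0.Normal ∧ N0 ≠ ⊥ ∧ N0 ≠ ⊤ := by
              by_contra hcon
              push Not at hcon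
              apply hsim
              refine ⟨fun H hH => ?_⟩
              by_cases hb : H = ⊥
              · exact Or.inl hb
              · exact Or.inr (hcon H hH hb)
            obtain ⟨N, hN, hNb, hNN0, hmin⟩ := exists_minimal_normal hN0 hN0b
            have hNt : N ≠ ⊤ := by
              rintro rfl
              exact hN0t (top_le_iff.1 hNN0)
            have hQs : Group.IsSolvable (G ⧸ N) := hA N hN hNb
            have hNs : ¬ Group.IsSolvable ↥N := fun h => hns ((Group.isSolvable_iff_subgroup_quotient N).2 ⟨h, hQs⟩)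
            have hQnt : Nontrivial (G ⧸ N) := by
              rw [← Finite.one_lt_card_iff_nontrivial, ← Subgroup.index_eq_card]
              have h1 : N.index ≠ 1 := by rwa [Ne, Subgroup.index_eq_one]
              have h2 : N.index ≠ 0 := Subgroup.index_ne_zero_of_finite
              omega
            by_cases h2 : AtLeast 2 (G ⧸ N)
            · have h3 := h2.comap (QuotientGroup.mk' N) (QuotientGroup.mk'_surjective N)
              rw [QuotientGroup.ker_mk'] at h3
              exact NCl.add_normal (n := 2) (m := 2) (two_supp hF hmin hNs) h3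
            · have h3 := Cfsg.Agent.S4387.result (G := G ⧸ N) (by
                intro M M' hM hM'
                by_contra hcon
                apply h2
                refine NCl.two (P := fun _ => True) hM trivial hM' trivial ?_
                rintro ⟨g, hg⟩
                exact hcon ⟨g, hg.symm⟩)
              obtain ⟨hcyc, hpp⟩ := h3
              obtain ⟨p, a, hp, ha, hpa⟩ := (isPrimePow_nat_iff _).1 hpp
              obtain ⟨h0, hh0⟩ := hcyc.exists_generator
              obtain ⟨h, rfl⟩ := QuotientGroup.mk_surjective h0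
              have hcov : ∀ g : G, ∃ n ∈ N, ∃ i : ℤ, g = n * h ^ i := by
                intro g
                obtain ⟨i, hi⟩ := Subgroup.mem_zpowers_iff.1 (hh0 (g : G ⧸ N))
                refine ⟨g * (h ^ i)⁻¹, ?_, i, by group⟩
                rw [← QuotientGroup.eq_one_iff, QuotientGroup.mk_mul, QuotientGroup.mk_inv, QuotientGroup.mk_zpow, hi,
                  mul_inv_cancel]
              obtain ⟨T, L, hTs⟩ := exists_lift (N := N) hmin hNs hcov
              have h5 : NCl 3 G fun M => ¬ N ≤ M :=
                three_supp L hTs (row1 ↥T L.simp hTs) (row2 ↥T L.simp hTs) hp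
                  (by rw [Subgroup.index_eq_card, hpa]) (fun {_} => hcyc)
              obtain ⟨M0, hM0, -⟩ := exists_coatom (G := G ⧸ N) (A := ⊥) (by
                intro h
                exact (bot_ne_top (α := Subgroup (G ⧸ N))) h)
              have h6 : AtLeast 1 (G ⧸ N) := NCl.one hM0 trivial
              have h7 := h6.comap (QuotientGroup.mk' N) (QuotientGroup.mk'_surjective N)
              rw [QuotientGroup.ker_mk'] at h7
              exact NCl.add_normal (n := 3) (m := 1) h5 h7
        exact ⟨NCl.le h4 (by norm_num), fun h => absurd h4 h⟩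
    · have hQs : ¬ Group.IsSolvable (G ⧸ frattini G) := by
        intro h
        apply hns
        have h1 : Group.IsNilpotent ↥(frattini G) := frattini_nilpotent
        exact (Group.isSolvable_iff_subgroup_quotient (frattini G)).2 ⟨inferInstance, h⟩
      obtain ⟨h1, h2⟩ := ih _ (hquot (frattini G) hF) (G ⧸ frattini G) rfl hQs
      refine ⟨h1.of_surjective (QuotientGroup.mk' _) (QuotientGroup.mk'_surjective _), fun h4 => ?_⟩
      have h3 := h2 fun h => h4 (h.of_surjective (QuotientGroup.mk' _) (QuotientGroup.mk'_surjective _))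
      exact ((QuotientGroup.quotientMulEquivOfEq frattini_quot).trans QuotientGroup.quotientBot).symm.isSimpleGroup

end Cfsg.Agent.H339.MaxCl
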