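import Cfsg.Agent.H339.MaxLift

/-!
# Rows: separated families of subgroups (helper339, S5907)

* `AutInv A` : every automorphism maps `A` to a conjugate; `Apart A B` : no proper subgroup contains `A` and a conjugate of `B`;
* `Sep n K` : `n` pairwise apart proper subgroups; `SepInv n K` : in addition non-trivial and `AutInv`;
* `Supp n K` : every almost simple group `X` with socle `K`, `X/K ≠ 1` cyclic of prime power order, has at least `n` classes of
  maximal subgroups not containing the socle;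
* `Sep.atLeast`, `SepInv.supp`.
-/

set_option autoImplicit false
set_option linter.unusedSectionVars false

namespace Cfsg.Agent.H339.MaxCl

open Subgroup

universe u v

section defs

variable {K : Type*} [Group K]

/-- every automorphism maps `A` to a conjugate of `A` -/
def AutInv (A : Subgroup K) : Prop := ∀ α : K ≃* K, Cj A (A.map α.toMonoidHom)

/-- no proper subgroup contains `A` and a conjugate of `B` -/
def Apart (A B : Subgroup K) : Prop := ∀ H : Subgroup K, A ≤ H → ∀ g : K, B.map (MulAut.conj g).toMonoidHom ≤ H → H = ⊤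

end defs

/-- `n` pairwise apart proper subgroups -/
def Sep (n : ℕ) (K : Type*) [Group K] : Prop :=
  ∃ A : Fin n → Subgroup K, (∀ i, A i ≠ ⊤) ∧ ∀ i j, i ≠ j → Apart (A i) (A j)

/-- `n` pairwise apart proper non-trivial invariant subgroups -/
def SepInv (n : ℕ) (K : Type*) [Group K] : Prop :=
  ∃ A : Fin n → Subgroup K, (∀ i, A i ≠ ⊤ ∧ A i ≠ ⊥ ∧ AutInv (A i)) ∧ ∀ i j, i ≠ j → Apart (A i) (A j)

/-- almost simple groups over `K` have at least `n` classes of maximal subgroups not containing `K` -/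
def Supp (n : ℕ) (K : Type v) [Group K] : Prop :=
  ∀ (X : Type u) [Group X] [Finite X] (S : Subgroup X) [S.Normal], Nonempty (↥S ≃* K) → centralizer (S : Set X) = ⊥ → S ≠ ⊤ →
    (∃ p a : ℕ, p.Prime ∧ S.index = p ^ a) → IsCyclic (X ⧸ S) → NCl n X fun M => ¬ S ≤ M

theorem Apart.symm {K : Type*} [Group K] {A B : Subgroup K} (h : Apart A B) : Apart B A := by
  intro H hB g hA
  have h1 : A ≤ H.map (MulAut.conj g⁻¹).toMonoidHom := by
    have := map_conj_mono hA g⁻¹
    rwa [map_conj_mul, inv_mul_cancel, map_conj_one] at this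
  have h2 := h _ h1 g⁻¹ (map_conj_mono hB g⁻¹)
  have h3 : (H.map (MulAut.conj g⁻¹).toMonoidHom).map (MulAut.conj g).toMonoidHom = H := by
    rw [map_conj_mul, mul_inv_cancel, map_conj_one]
  rw [← h3, h2]
  exact Subgroup.map_top_of_surjective _ (MulAut.conj g).surjective

theorem Sep.atLeast {n : ℕ} {K : Type*} [Group K] [Finite K] (h : Sep n K) : AtLeast n K := by
  obtain ⟨A, hA, hs⟩ := h
  choose M hM hAM using fun i => exists_coatom (hA i)
  refine ⟨M, fun i => ⟨hM i, trivial⟩, ?_⟩
  rintro i j ⟨g, hg⟩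
  by_contra hij
  apply (hM j).1
  refine (hs j i (Ne.symm hij)) (M j) (hAM j) g ?_
  rw [← hg]
  exact map_conj_mono (hAM i) g

theorem Sep.of_inv {n : ℕ} {K : Type*} [Group K] (h : SepInv n K) : Sep n K := by
  obtain ⟨A, hA, hs⟩ := h
  exact ⟨A, fun i => (hA i).1, hs⟩

theorem Sep.le {n m : ℕ} {K : Type*} [Group K] (h : Sep n K) (hm : m ≤ n) : Sep m K := by
  obtain ⟨A, hA, hs⟩ := h
  exact ⟨fun i => A (Fin.castLE hm i), fun i => hA _, fun i j hij => hs _ _ fun e => hij (Fin.castLE_injective hm e)⟩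

section congr

variable {K K' : Type*} [Group K] [Group K']

theorem map_equiv_conj (e : K ≃* K') (A : Subgroup K) (g : K) :
    (A.map (MulAut.conj g).toMonoidHom).map e.toMonoidHom = (A.map e.toMonoidHom).map (MulAut.conj (e g)).toMonoidHom := by
  rw [Subgroup.map_map, Subgroup.map_map]
  congr 1
  ext x
  simp

theorem map_map_symm (e : K ≃* K') (A : Subgroup K') : (A.map e.symm.toMonoidHom).map e.toMonoidHom = A := by
  rw [Subgroup.map_map]
  have : (e.toMonoidHom.comp e.symm.toMonoidHom) = MonoidHom.id K' := by ext x; simp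
  rw [this, Subgroup.map_id]

theorem map_symm_map (e : K ≃* K') (A : Subgroup K) : (A.map e.toMonoidHom).map e.symm.toMonoidHom = A :=
  map_map_symm e.symm A

theorem map_equiv_ne_top (e : K ≃* K') {A : Subgroup K} (h : A ≠ ⊤) : A.map e.toMonoidHom ≠ ⊤ := by
  intro h1
  apply h
  rw [← map_symm_map e A, h1]
  exact Subgroup.map_top_of_surjective _ e.symm.surjective

theorem map_equiv_ne_bot (e : K ≃* K') {A : Subgroup K} (h : A ≠ ⊥) : A.map e.toMonoidHom ≠ ⊥ := by
  intro h1
  apply h
  rw [← map_symm_map e A, h1, Subgroup.map_bot]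

theorem Apart.map (e : K ≃* K') {A B : Subgroup K} (h : Apart A B) : Apart (A.map e.toMonoidHom) (B.map e.toMonoidHom) := by
  intro H hA g hB
  have h1 : A ≤ H.map e.symm.toMonoidHom := by
    have := Subgroup.map_mono (f := e.symm.toMonoidHom) hA
    rwa [map_symm_map] at this
  have h2 : B.map (MulAut.conj (e.symm g)).toMonoidHom ≤ H.map e.symm.toMonoidHom := by
    have := Subgroup.map_mono (f := e.symm.toMonoidHom) hB
    rwa [map_equiv_conj, map_symm_map] at this
  have h3 := h _ h1 _ h2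
  rw [← map_map_symm e H, h3]
  exact Subgroup.map_top_of_surjective _ e.surjective

theorem AutInv.map (e : K ≃* K') {A : Subgroup K} (h : AutInv A) : AutInv (A.map e.toMonoidHom) := by
  intro α
  obtain ⟨g, hg⟩ := h ((e.trans α).trans e.symm)
  refine ⟨e g, ?_⟩
  rw [← map_equiv_conj, hg, Subgroup.map_map, Subgroup.map_map]
  congr 1
  ext x
  simp

theorem Sep.congr (e : K ≃* K') {n : ℕ} (h : Sep n K) : Sep n K' := by
  obtain ⟨A, hA, hs⟩ := h
  exact ⟨fun i => (A i).map e.toMonoidHom, fun i => map_equiv_ne_top e (hA i), fun i j hij => (hs i j hij).map e⟩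

theorem SepInv.congr (e : K ≃* K') {n : ℕ} (h : SepInv n K) : SepInv n K' := by
  obtain ⟨A, hA, hs⟩ := h
  exact ⟨fun i => (A i).map e.toMonoidHom, fun i => ⟨map_equiv_ne_top e (hA i).1, map_equiv_ne_bot e (hA i).2.1,
    (hA i).2.2.map e⟩, fun i j hij => (hs i j hij).map e⟩

theorem Supp.congr {n : ℕ} {K : Type v} {K' : Type*} [Group K] [Group K'] (e : K ≃* K') (h : Supp.{u} n K) :
    Supp.{u} n K' := by
  rintro X _ _ S _ ⟨f⟩ h1 h2 h3 h4
  exact h X S ⟨f.trans e.symm⟩ h1 h2 h3 h4

end congr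

section supp

variable {X : Type*} [Group X] [Finite X]

/-- **general criterion**: `n` subgroups `A i ≤ S` with `N_X(A i) S = X`, pairwise separated for supplements of `S` -/
theorem nCl_of {S : Subgroup X} [S.Normal] {n : ℕ} (A : Fin n → Subgroup X) (hne : ∀ i, normalizer (A i : Set X) ≠ ⊤)
    (hN : ∀ i, normalizer (A i : Set X) ⊔ S = ⊤)
    (hs : ∀ i j, i ≠ j → ∀ Y : Subgroup X, Y ⊔ S = ⊤ → Y ≠ ⊤ → A i ≤ Y → ∀ g : X, (A j).map (MulAut.conj g).toMonoidHom ≤ Y →
      False) : NCl n X fun M => ¬ S ≤ M := by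
  choose M hM hAM using fun i => exists_coatom (hne i)
  have hMS : ∀ i, M i ⊔ S = ⊤ := fun i => by
    rw [eq_top_iff, ← hN i]
    exact sup_le_sup_right (hAM i) S
  refine ⟨M, fun i => ⟨hM i, fun h => (hM i).1 ?_⟩, ?_⟩
  · rw [← hMS i, sup_eq_left.2 h]
  · rintro i j ⟨g, hg⟩
    by_contra hij
    refine hs j i (Ne.symm hij) (M j) (hMS j) (hM j).1 (Subgroup.le_normalizer.trans (hAM j)) g ?_
    rw [← hg]
    exact map_conj_mono (Subgroup.le_normalizer.trans (hAM i)) g

theorem map_subtype_conj {S : Subgroup X} [hS : S.Normal] (A : Subgroup ↥S) (x : X) :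
    (A.map S.subtype).map (MulAut.conj x).toMonoidHom = (A.map (MulAut.conjNormal x : MulAut ↥S).toMonoidHom).map S.subtype := by
  rw [Subgroup.map_map, Subgroup.map_map]
  congr 1

theorem normalizer_sup_eq_top {S : Subgroup X} [hS : S.Normal] {A : Subgroup ↥S} (h : AutInv A) :
    normalizer ((A.map S.subtype : Subgroup X) : Set X) ⊔ S = ⊤ := by
  rw [eq_top_iff]
  intro x _
  obtain ⟨g, hg⟩ := h (MulAut.conjNormal x : MulAut ↥S)
  have h1 : (A.map S.subtype).map (MulAut.conj ((g : X)⁻¹ * x)).toMonoidHom = A.map S.subtype := by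
    rw [← map_conj_mul, map_subtype_conj A x]
    have h2 : A.map (MulAut.conjNormal x : MulAut ↥S).toMonoidHom = A.map (MulAut.conj g).toMonoidHom := hg.symm
    rw [h2]
    have h3 : ((A.map (MulAut.conj g).toMonoidHom).map S.subtype) =
        (A.map S.subtype).map (MulAut.conj (g : X)).toMonoidHom := by
      rw [Subgroup.map_map, Subgroup.map_map]
      congr 1
    rw [h3, map_conj_mul, inv_mul_cancel, map_conj_one]
  have e : x = (g : X) * ((g : X)⁻¹ * x) := by group
  rw [e]
  exact mul_mem (mem_sup_right g.2) (mem_sup_left (mem_normalizer_iff_conj.2 h1))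

theorem SepInv.nCl {S : Subgroup X} [hS : S.Normal] {n : ℕ} (h : SepInv n ↥S) (hsimp : IsSimpleGroup ↥S) :
    NCl n X fun M => ¬ S ≤ M := by
  obtain ⟨A, hA, hs⟩ := h
  refine nCl_of (fun i => (A i).map S.subtype) ?_ (fun i => normalizer_sup_eq_top (hA i).2.2) ?_
  · intro i h1
    have h2 : (A i).Normal := by
      refine ⟨fun a ha g => ?_⟩
      have h3 : (g : X) ∈ normalizer ((((A i).map S.subtype : Subgroup X)) : Set X) := by rw [h1]; exact mem_top _
      have h4 := (mem_normalizer_iff.1 h3 (a : X)).1 ⟨a, ha, rfl⟩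
      obtain ⟨b, hb, hb'⟩ := h4
      have h5 : b = g * a * g⁻¹ := Subtype.ext hb'
      rwa [← h5]
    rcases h2.eq_bot_or_eq_top with h3 | h3
    · exact (hA i).2.1 h3
    · exact (hA i).1 h3
  · intro i j hij Y hYS hY hAY g hg
    apply hY
    have h1 : A i ≤ Y.subgroupOf S := fun a ha => hAY ⟨a, ha, rfl⟩
    have h2 : (A j).map (MulAut.conjNormal g : MulAut ↥S).toMonoidHom ≤ Y.subgroupOf S := by
      rintro _ ⟨a, ha, rfl⟩
      exact hg ⟨a, ⟨a, ha, rfl⟩, rfl⟩
    obtain ⟨s, hs'⟩ := (hA j).2.2 (MulAut.conjNormal g : MulAut ↥S)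
    have h3 : (A j).map (MulAut.conj s).toMonoidHom ≤ Y.subgroupOf S := by
      rw [hs']; exact h2
    have h4 := hs i j hij _ h1 s h3
    rw [subgroupOf_eq_top] at h4
    rw [← hYS, sup_eq_left.2 h4]

end supp

theorem SepInv.supp {n : ℕ} {K : Type v} [Group K] (h : SepInv n K) (hsimp : IsSimpleGroup K) : Supp.{u} n K := by
  rintro X _ _ S _ ⟨f⟩ _ _ _ _
  have h1 : IsSimpleGroup ↥S := f.isSimpleGroup
  exact (h.congr f.symm).nCl h1

/-! ### Sylow subgroups -/

section sylow

variable {K : Type*} [Group K] [Finite K]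

theorem autInv_sylow {p : ℕ} [Fact p.Prime] (P : Sylow p K) : AutInv (P : Subgroup K) := by
  intro α
  have h1 : IsPGroup p ((P : Subgroup K).map α.toMonoidHom) := P.2.map _
  have h2 : Nat.card ((P : Subgroup K).map α.toMonoidHom) = Nat.card (P : Subgroup K) :=
    Subgroup.card_map_of_injective α.injective
  let Q : Sylow p K := Sylow.ofCard ((P : Subgroup K).map α.toMonoidHom) (by rw [h2, Sylow.card_eq_multiplicity])
  obtain ⟨g, hg⟩ := MulAction.exists_smul_eq K P Q
  refine ⟨g, ?_⟩
  have h3 : ((g • P : Sylow p K) : Subgroup K) = (Q : Subgroup K) := by rw [hg]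
  rw [Sylow.coe_subgroup_smul] at h3
  exact h3

/-- Sylow subgroups for two primes are apart if no proper subgroup has order divisible by both Sylow orders -/
theorem apart_sylow {p r : ℕ} [Fact p.Prime] [Fact r.Prime] (P : Sylow p K) (R : Sylow r K)
    (h : ∀ H : Subgroup K, Nat.card (P : Subgroup K) ∣ Nat.card H → Nat.card (R : Subgroup K) ∣ Nat.card H → H = ⊤) :
    Apart (P : Subgroup K) (R : Subgroup K) := by
  intro H hP g hR
  refine h H (Subgroup.card_dvd_of_le hP) ?_
  rw [← card_map_conj (R : Subgroup K) g]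
  exact Subgroup.card_dvd_of_le hR

end sylow

end Cfsg.Agent.H339.MaxCl
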