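import Cfsg.Agent.H339.MaxRow

/-!
# The simple factor of a minimal normal subgroup and its automizer (helper339, S5907)

* `exists_lift` : a non-solvable minimal normal subgroup `N` with `G = N⟨h⟩` carries a `Lift T N h`;
* `meet_ne_bot` : a maximal subgroup not containing `S` meets `S` (`X` almost simple, `X/S` of prime power order);
* `three_supp` : three classes of supplements of `N`, from the rows.
-/

set_option autoImplicit false
set_option linter.unusedSectionVars false

namespace Cfsg.Agent.H339.MaxCl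

open Subgroup

universe u

section exT

variable {G : Type*} [Group G] [Finite G]

theorem exists_minimal_normal {N0 : Subgroup G} (hN0 : N0.Normal) (hne : N0 ≠ ⊥) :
    ∃ N : Subgroup G, N.Normal ∧ N ≠ ⊥ ∧ N ≤ N0 ∧ ∀ K : Subgroup G, K.Normal → K ≤ N → K = ⊥ ∨ K = N := by
  obtain ⟨N, ⟨h1, h2, h3⟩, h4⟩ := WellFounded.has_min (wellFounded_lt (α := Subgroup G))
    {N : Subgroup G | N.Normal ∧ N ≠ ⊥ ∧ N ≤ N0} ⟨N0, hN0, hne, le_rfl⟩
  refine ⟨N, h1, h2, h3, fun K hK hKN => ?_⟩
  by_cases hb : K = ⊥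
  · exact Or.inl hb
  · right
    by_contra hne'
    exact h4 K ⟨hK, hb, hKN.trans h3⟩ (lt_of_le_of_ne hKN hne')

theorem normal_le_normalizer_conj {N T : Subgroup G} [hN : N.Normal] (h : N ≤ normalizer (T : Set G)) (g : G) :
    N ≤ normalizer ((T.map (MulAut.conj g).toMonoidHom : Subgroup G) : Set G) := by
  intro n hn
  rw [mem_normalizer_iff_conj, map_conj_mul]
  have h1 : g⁻¹ * n * g ∈ N := by
    have := hN.conj_mem n hn g⁻¹
    rwa [inv_inv] at this
  have h2 := mem_normalizer_iff_conj.1 (h h1)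
  have e : n * g = g * (g⁻¹ * n * g) := by group
  rw [e, ← map_conj_mul, h2]

theorem exists_lift {N : Subgroup G} [hN : N.Normal] (hmin : ∀ K : Subgroup G, K.Normal → K ≤ N → K = ⊥ ∨ K = N)
    (hns : ¬ Group.IsSolvable ↥N) {h : G} (hcyc : ∀ g : G, ∃ n ∈ N, ∃ i : ℤ, g = n * h ^ i) :
    ∃ T : Subgroup G, Lift T N h ∧ ¬ Group.IsSolvable ↥T := by
  have hNb : N ≠ ⊥ := by
    rintro rfl
    exact hns inferInstance
  obtain ⟨T, ⟨h1, h2, h3⟩, h4⟩ := WellFounded.has_min (wellFounded_lt (α := Subgroup G))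
    {T : Subgroup G | T ≠ ⊥ ∧ T ≤ N ∧ N ≤ normalizer (T : Set G)} ⟨N, hNb, le_rfl, Subgroup.le_normalizer⟩
  have hminT : ∀ K : Subgroup G, K ≤ T → N ≤ normalizer (K : Set G) → K = ⊥ ∨ K = T := by
    intro K hK hKN
    by_cases hb : K = ⊥
    · exact Or.inl hb
    · right
      by_contra hne'
      exact h4 K ⟨hb, hK.trans h2, hKN⟩ (lt_of_le_of_ne hK hne')
  have hgen : ∀ M : Subgroup G, (∀ g : G, ∀ t ∈ T, g * t * g⁻¹ ∈ M) → N ≤ M := by
    intro M hM
    have h5 : Subgroup.normalClosure (T : Set G) ≤ N := Subgroup.normalClosure_le_normal h2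
    have h6 : Subgroup.normalClosure (T : Set G) = N := by
      rcases hmin _ Subgroup.normalClosure_normal h5 with h7 | h7
      · exfalso
        apply h1
        rw [eq_bot_iff, ← h7]
        exact Subgroup.subset_normalClosure
      · exact h7
    rw [← h6]
    refine (Subgroup.closure_le M).2 ?_
    intro x hx
    obtain ⟨a, ha, hax⟩ := Group.mem_conjugatesOfSet_iff.1 hx
    obtain ⟨c, hc⟩ := isConj_iff.1 hax
    rw [← hc]
    exact hM c a ha
  have hcomm : ∀ g : G, g ∉ normalizer (T : Set G) → ∀ s ∈ T, ∀ t ∈ T, (g * s * g⁻¹) * t = t * (g * s * g⁻¹) := by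
    intro g hg s hs t ht
    have h5 := normal_le_normalizer_conj h3 g
    have h60 : N ≤ normalizer ((T.map (MulAut.conj g).toMonoidHom ⊓ T : Subgroup G) : Set G) := by
      intro n hn
      rw [mem_normalizer_iff]
      intro x
      have e1 := mem_normalizer_iff.1 (h5 hn) x
      have e2 := mem_normalizer_iff.1 (h3 hn) x
      constructor
      · intro hx
        exact ⟨e1.1 hx.1, e2.1 hx.2⟩
      · intro hx
        exact ⟨e1.2 hx.1, e2.2 hx.2⟩
    have h6 : T.map (MulAut.conj g).toMonoidHom ⊓ T = ⊥ := by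
      rcases hminT (T.map (MulAut.conj g).toMonoidHom ⊓ T) inf_le_right h60 with h | h
      · exact h
      · exfalso
        apply hg
        rw [mem_normalizer_iff_conj]
        have h7 : T ≤ T.map (MulAut.conj g).toMonoidHom := (le_of_eq h.symm).trans inf_le_left
        exact (Subgroup.eq_of_le_of_card_ge h7 (by rw [card_map_conj])).symm
    have h7 : g * s * g⁻¹ ∈ T.map (MulAut.conj g).toMonoidHom := by
      rw [mem_map_conj]
      have e : g⁻¹ * (g * s * g⁻¹) * g = s := by group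
      rw [e]; exact hs
    have hsN : g * s * g⁻¹ ∈ N := hN.conj_mem s (h2 hs) g
    have h8 : (g * s * g⁻¹) * t * (g * s * g⁻¹)⁻¹ * t⁻¹ ∈ T.map (MulAut.conj g).toMonoidHom ⊓ T := by
      constructor
      · have e : (g * s * g⁻¹) * t * (g * s * g⁻¹)⁻¹ * t⁻¹ = (g * s * g⁻¹) * (t * (g * s * g⁻¹)⁻¹ * t⁻¹) := by group
        show (g * s * g⁻¹) * t * (g * s * g⁻¹)⁻¹ * t⁻¹ ∈ T.map (MulAut.conj g).toMonoidHom
        rw [e]
        exact mul_mem h7 ((mem_normalizer_iff.1 (h5 (h2 ht)) _).1 (inv_mem h7))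
      · exact T.mul_mem ((mem_normalizer_iff.1 (h3 hsN) t).1 ht) (T.inv_mem ht)
    rw [h6, mem_bot] at h8
    have h9 : (g * s * g⁻¹) * t * (g * s * g⁻¹)⁻¹ = t := by
      have := mul_inv_eq_one.1 h8
      exact this
    calc (g * s * g⁻¹) * t = (g * s * g⁻¹) * t * (g * s * g⁻¹)⁻¹ * (g * s * g⁻¹) := by group
      _ = t * (g * s * g⁻¹) := by rw [h9]
  have hsimp : IsSimpleGroup ↥T := by
    haveI : Nontrivial ↥T := (Subgroup.nontrivial_iff_ne_bot T).2 h1
    refine ⟨fun K hK => ?_⟩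
    have h5 : K.map T.subtype ≤ T := Subgroup.map_subtype_le K
    have h50 : N ≤ normalizer ((K.map T.subtype : Subgroup G) : Set G) := by
      apply hgen
      intro g t ht
      rw [mem_normalizer_iff]
      by_cases hg : g ∈ normalizer (T : Set G)
      · have h7 : g * t * g⁻¹ ∈ T := (mem_normalizer_iff.1 hg t).1 ht
        have key : ∀ c ∈ T, ∀ x, x ∈ K.map T.subtype → c * x * c⁻¹ ∈ K.map T.subtype := by
          rintro c hc _ ⟨y, hy, rfl⟩
          exact ⟨⟨c, hc⟩ * y * ⟨c, hc⟩⁻¹, hK.conj_mem y hy ⟨c, hc⟩, rfl⟩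
        intro x
        constructor
        · exact key _ h7 x
        · intro hx
          have h8 := key _ (inv_mem h7) _ hx
          have e : (g * t * g⁻¹)⁻¹ * (g * t * g⁻¹ * x * (g * t * g⁻¹)⁻¹) * (g * t * g⁻¹)⁻¹⁻¹ = x := by group
          rwa [e] at h8
      · intro x
        constructor
        · intro hx
          rw [hcomm g hg t ht x (h5 hx)]
          have e : x * (g * t * g⁻¹) * (g * t * g⁻¹)⁻¹ = x := by group
          rwa [e]
        · intro hx
          have h8 := hcomm g hg t ht _ (h5 hx)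
          have e : g * t * g⁻¹ * x * (g * t * g⁻¹)⁻¹ * (g * t * g⁻¹) = g * t * g⁻¹ * x := by group
          rw [e] at h8
          have h9 : g * t * g⁻¹ * x * (g * t * g⁻¹)⁻¹ = x := mul_left_cancel h8
          rwa [h9] at hx
    rcases hminT _ h5 h50 with h | h
    · left
      exact (Subgroup.map_eq_bot_iff_of_injective K T.subtype_injective).1 h
    · right
      rw [eq_top_iff]
      intro x _
      have h6 : (x : G) ∈ K.map T.subtype := by rw [h]; exact x.2
      obtain ⟨y, hy, hyx⟩ := h6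
      have : y = x := Subtype.ext hyx
      rwa [← this]
  have L : Lift T N h := ⟨hsimp, h2, hN, h3, hcomm, hgen, hcyc⟩
  refine ⟨T, L, ?_⟩
  intro hs
  have hab : ∀ a b : ↥T, a * b = b * a := IsSimpleGroup.comm_iff_isSolvable.2 hs
  apply hns
  have h5 : ∀ g : G, ∀ s ∈ T, ∀ t ∈ T, (g * s * g⁻¹) * t = t * (g * s * g⁻¹) := by
    intro g s hs t ht
    by_cases hg : g ∈ normalizer (T : Set G)
    · have h7 : g * s * g⁻¹ ∈ T := (mem_normalizer_iff.1 hg s).1 hs
      exact congrArg Subtype.val (hab ⟨_, h7⟩ ⟨t, ht⟩)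
    · exact hcomm g hg s hs t ht
  have h6 : N ≤ centralizer (T : Set G) := by
    apply hgen
    intro g s hs
    rw [mem_centralizer_iff]
    intro t ht
    exact (h5 g s hs t ht).symm
  have h7 : N ≤ centralizer (N : Set G) := by
    apply hgen
    intro g s hs
    rw [mem_centralizer_iff]
    intro n hn
    have h8 := h6 (by
      have := hN.conj_mem n hn g⁻¹
      exact this : g⁻¹ * n * g⁻¹⁻¹ ∈ N)
    rw [mem_centralizer_iff] at h8
    have h9 := h8 s hs
    calc n * (g * s * g⁻¹) = g * ((g⁻¹ * n * g⁻¹⁻¹) * s) * g⁻¹ := by group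
      _ = g * (s * (g⁻¹ * n * g⁻¹⁻¹)) * g⁻¹ := by rw [h9]
      _ = g * s * g⁻¹ * n := by group
  refine Group.isSolvable_of_comm fun a b => Subtype.ext ?_
  have h8 := h7 a.2
  rw [mem_centralizer_iff] at h8
  exact (h8 b b.2).symm

end exT

section meet

theorem isSolvable_of_isPGroup {H : Type*} [Group H] [Finite H] {p : ℕ} [Fact p.Prime] (h : IsPGroup p H) :
    Group.IsSolvable H := by
  have := h.isNilpotent
  infer_instance

variable {X : Type*} [Group X] [Finite X]

theorem sup_eq_top_of_coatom {S Y : Subgroup X} (hY : IsCoatom Y) (hYS : ¬ S ≤ Y) : Y ⊔ S = ⊤ := by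
  rcases hY.le_iff.1 (le_sup_left : Y ≤ Y ⊔ S) with h | h
  · exact h
  · exact absurd (le_sup_right.trans h.le) hYS

/-- a maximal subgroup not containing the socle meets it -/
theorem meet_ne_bot {S Y : Subgroup X} [hS : S.Normal] (hsimp : IsSimpleGroup ↥S) (hns : ¬ Group.IsSolvable ↥S) {p a : ℕ}
    (hp : p.Prime) (hidx : S.index = p ^ a) (hY : IsCoatom Y) (hYS : ¬ S ≤ Y) : ∃ s ∈ S, s ≠ 1 ∧ s ∈ Y := by
  by_contra hcon
  push Not at hcon
  have := Fact.mk hp
  have hsup : Y ⊔ S = ⊤ := sup_eq_top_of_coatom hY hYS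
  have hcY : Nat.card Y = p ^ a := by
    have h1 : S.relIndex (Y ⊔ S) = S.relIndex Y := Subgroup.relIndex_sup_right Y S
    rw [hsup, Subgroup.relIndex_top_right, hidx] at h1
    have h2 : S.subgroupOf Y = ⊥ := by
      rw [eq_bot_iff]
      intro x hx
      rw [mem_bot]
      by_contra hx1
      exact hcon x hx (fun e => hx1 (Subtype.ext e)) x.2
    rw [h1, Subgroup.relIndex, h2, Subgroup.index_bot]
  have hYp : IsPGroup p Y := IsPGroup.of_card hcY
  have hcX : Nat.card X = p ^ a * Nat.card S := by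
    rw [← hidx, mul_comm, Subgroup.card_mul_index]
  have hS1 : Nat.card S ≠ 1 := by
    intro h
    apply hns
    have : Subsingleton ↥S := (Nat.card_eq_one_iff_unique.1 h).1
    infer_instance
  obtain ⟨P, hP⟩ := hYp.exists_le_sylow
  have hPtop : (P : Subgroup X) ≠ ⊤ := by
    intro h
    apply hns
    have h1 : IsPGroup p (⊤ : Subgroup X) := h ▸ P.2
    exact isSolvable_of_isPGroup (h1.to_le (le_top : S ≤ ⊤))
  have hYP : Y = (P : Subgroup X) := by
    rcases hY.le_iff.1 hP with h | h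
    · exact absurd h hPtop
    · exact h.symm
  have hpS : ¬ p ∣ Nat.card S := by
    intro h
    have h1 : p ^ (a + 1) ∣ Nat.card X := by
      rw [hcX, pow_succ]
      exact Nat.mul_dvd_mul_left _ h
    have h2 : p ^ (a + 1) ∣ Nat.card P := P.pow_dvd_card_of_pow_dvd_card h1
    have h3 : Nat.card P = p ^ a := by rw [← hcY, hYP]
    rw [h3] at h2
    exact absurd (Nat.le_of_dvd (pow_pos hp.pos _) h2) (not_le.2 (Nat.pow_lt_pow_right hp.one_lt (Nat.lt_succ_self a)))
  obtain ⟨r, hr, hrS⟩ := Nat.exists_prime_and_dvd hS1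
  have := Fact.mk hr
  let R : Sylow r ↥S := default
  let R' : Subgroup X := (R : Subgroup ↥S).map S.subtype
  have hR'S : R' ≤ S := Subgroup.map_subtype_le _
  have hrR : r ∣ Nat.card R := R.dvd_card_of_dvd_card hrS
  have hR1 : ∃ x ∈ R', x ≠ 1 := by
    have h1 : (R : Subgroup ↥S) ≠ ⊥ := by
      intro h
      have h2 : Nat.card R = 1 := by
        show Nat.card (R : Subgroup ↥S) = 1
        rw [h, Subgroup.card_bot]
      rw [h2] at hrR
      exact hr.one_lt.ne' (Nat.dvd_one.1 hrR)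
    obtain ⟨x, hx⟩ := Subgroup.ne_bot_iff_exists_ne_one.1 h1
    exact ⟨(x : ↥S), ⟨x, x.2, rfl⟩, fun e => hx (Subtype.ext (Subtype.ext e))⟩
  have hF : normalizer (R' : Set X) ⊔ S = ⊤ := Sylow.normalizer_sup_eq_top R
  have hNtop : normalizer (R' : Set X) ≠ ⊤ := by
    intro h
    have h2 : R'.Normal := normalizer_eq_top_iff.1 h
    have h3 : (R : Subgroup ↥S).Normal := by
      refine ⟨fun x hx g => ?_⟩
      obtain ⟨y, hy, hyx⟩ := h2.conj_mem x ⟨x, hx, rfl⟩ g
      have e : y = g * x * g⁻¹ := Subtype.ext hyx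
      rwa [← e]
    rcases h3.eq_bot_or_eq_top with h4 | h4
    · obtain ⟨x, ⟨y, hy, rfl⟩, hx1⟩ := hR1
      have hy' : y ∈ (R : Subgroup ↥S) := hy
      rw [h4, mem_bot] at hy'
      exact hx1 (by rw [hy']; rfl)
    · apply hns
      have h5 : IsPGroup r (⊤ : Subgroup ↥S) := h4 ▸ R.2
      exact isSolvable_of_isPGroup (h5.of_equiv Subgroup.topEquiv)
  -- a Sylow `p`-subgroup of `X` inside `N(R')`
  have hpN : p ^ a ∣ Nat.card (normalizer (R' : Set X)) := by
    have h1 : S.relIndex (normalizer (R' : Set X) ⊔ S) = S.relIndex (normalizer (R' : Set X)) :=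
      Subgroup.relIndex_sup_right _ S
    rw [hF, Subgroup.relIndex_top_right, hidx] at h1
    rw [h1]
    exact Subgroup.relIndex_dvd_card _ _
  let Q : Sylow p ↥(normalizer (R' : Set X)) := default
  have hcQ : p ^ a ∣ Nat.card Q := Q.pow_dvd_card_of_pow_dvd_card hpN
  let Q' : Subgroup X := (Q : Subgroup ↥(normalizer (R' : Set X))).map (normalizer (R' : Set X)).subtype
  have hcQ' : Nat.card Q' = Nat.card Q := Subgroup.card_map_of_injective (Subgroup.subtype_injective _)
  have hQ'p : IsPGroup p Q' := Q.2.map _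
  obtain ⟨P2, hP2⟩ := hQ'p.exists_le_sylow
  have hQP2 : Q' = (P2 : Subgroup X) := by
    refine Subgroup.eq_of_le_of_card_ge hP2 ?_
    have h1 : Nat.card (P2 : Subgroup X) = Nat.card (P : Subgroup X) := by
      rw [P2.card_eq_multiplicity, P.card_eq_multiplicity]
    rw [h1, ← hYP, hcY, hcQ']
    exact Nat.le_of_dvd Nat.card_pos hcQ
  obtain ⟨g, hg⟩ := MulAction.exists_smul_eq X P2 P
  have hg' : (P2 : Subgroup X).map (MulAut.conj g).toMonoidHom = (P : Subgroup X) := by
    have h3 : ((g • P2 : Sylow p X) : Subgroup X) = (P : Subgroup X) := by rw [hg]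
    rw [Sylow.coe_subgroup_smul] at h3
    exact h3
  have hYN : Y ≤ (normalizer (R' : Set X)).map (MulAut.conj g).toMonoidHom := by
    rw [hYP, ← hg', ← hQP2]
    exact map_conj_mono (Subgroup.map_subtype_le _) g
  have hYN' : Y = (normalizer (R' : Set X)).map (MulAut.conj g).toMonoidHom := by
    rcases hY.le_iff.1 hYN with h | h
    · exfalso
      apply hNtop
      have h1 := congrArg (Subgroup.map (MulAut.conj g⁻¹).toMonoidHom) h
      rw [map_conj_mul, inv_mul_cancel, map_conj_one] at h1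
      rw [h1]
      exact Subgroup.map_top_of_surjective _ (MulAut.conj g⁻¹).surjective
    · exact h.symm
  obtain ⟨x, hx, hx1⟩ := hR1
  refine hcon (g * x * g⁻¹) (hS.conj_mem x (hR'S hx) g) (fun e => hx1 ?_) ?_
  · have : x = g⁻¹ * (g * x * g⁻¹) * g := by group
    rw [this, e]; group
  · rw [hYN', mem_map_conj]
    have e : g⁻¹ * (g * x * g⁻¹) * g = x := by group
    rw [e]
    exact Subgroup.le_normalizer hx

end meet

section three

/-- **three classes of supplements** from the rows -/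
theorem three_supp {G : Type u} [Group G] [Finite G] {T N : Subgroup G} {h : G} (L : Lift T N h)
    (hns : ¬ Group.IsSolvable ↥T) (row1 : AtLeast 3 ↥T) (row2 : Supp.{u} 3 ↥T) {p a : ℕ} (hp : p.Prime)
    (hidx : N.index = p ^ a) (hcyc : ∀ [N.Normal], IsCyclic (G ⧸ N)) : NCl 3 G fun M => ¬ N ≤ M := by
  have hN := L.norm
  have hC := hcyc
  have hsT := L.simp
  let π0 : ↥(normalizer (T : Set G)) →* MulAut ↥T := T.normalizerMonoidHom
  let X : Subgroup (MulAut ↥T) := π0.range
  let π : ↥(normalizer (T : Set G)) →* ↥X := π0.rangeRestrict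
  have hπ : Function.Surjective π := π0.rangeRestrict_surjective
  have hkeriff : ∀ x : ↥(normalizer (T : Set G)), π x = 1 ↔ (x : G) ∈ centralizer (T : Set G) := by
    intro x
    have h1 : π x = 1 ↔ π0 x = 1 := by
      rw [Subtype.ext_iff]
      exact Iff.rfl
    rw [h1, ← MonoidHom.mem_ker, Subgroup.normalizerMonoidHom_ker, mem_subgroupOf]
  let S : Subgroup ↥X := bar T π
  have hSn : S.Normal := bar_normal hπ
  -- `T ⊓ C(T) = 1`
  have hTC : ∀ t ∈ T, t ∈ centralizer (T : Set G) → t = 1 := by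
    intro t ht htc
    have h1 : (⟨t, ht⟩ : ↥T) ∈ Subgroup.center ↥T := by
      rw [Subgroup.mem_center_iff]
      intro g
      exact Subtype.ext ((mem_centralizer_iff.1 htc) g g.2)
    rcases (inferInstance : (Subgroup.center ↥T).Normal).eq_bot_or_eq_top with h2 | h2
    · rw [h2, mem_bot] at h1
      exact congrArg Subtype.val h1
    · exfalso
      apply hns
      refine Group.isSolvable_of_comm fun a b => ?_
      have h3 : b ∈ Subgroup.center ↥T := by rw [h2]; exact mem_top b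
      exact Subgroup.mem_center_iff.1 h3 a
  -- `S ≃ T`
  have e : Nonempty (↥S ≃* ↥T) := by
    let f : ↥T →* ↥S := (((π.comp (Subgroup.inclusion (Subgroup.le_normalizer : T ≤ normalizer (T : Set G)))).codRestrict S
      (fun t => mem_bar.2 ⟨t, t.2, rfl⟩)))
    have hf : Function.Bijective f := by
      constructor
      · rw [injective_iff_map_eq_one]
        intro t ht
        have h1 : π ⟨t, Subgroup.le_normalizer t.2⟩ = 1 := congrArg Subtype.val ht
        exact Subtype.ext (hTC t t.2 ((hkeriff _).1 h1))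
      · rintro ⟨x, hx⟩
        obtain ⟨t, ht, rfl⟩ := mem_bar.1 hx
        exact ⟨⟨t, ht⟩, rfl⟩
    exact ⟨(MulEquiv.ofBijective f hf).symm⟩
  obtain ⟨e⟩ := e
  have hSsimp : IsSimpleGroup ↥S := e.isSimpleGroup
  have hSns : ¬ Group.IsSolvable ↥S := fun h =>
    hns (Group.isSolvable_of_isSolvable_injective (f := e.symm.toMonoidHom) e.symm.injective)
  have hcent : centralizer (S : Set ↥X) = ⊥ := by
    rw [eq_bot_iff]
    intro x hx
    obtain ⟨g, rfl⟩ := hπ x
    rw [mem_bot, hkeriff, mem_centralizer_iff]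
    intro t ht
    have h1 := (mem_centralizer_iff.1 hx) (π ⟨t, Subgroup.le_normalizer ht⟩) (mem_bar.2 ⟨t, ht, rfl⟩)
    have h2 : π (⟨t, Subgroup.le_normalizer ht⟩ * g * ⟨t, Subgroup.le_normalizer ht⟩⁻¹ * g⁻¹) = 1 := by
      rw [map_mul, map_mul, map_mul, map_inv, map_inv, h1]
      group
    have h3 := (hkeriff _).1 h2
    have h4 : t * (g : G) * t⁻¹ * (g : G)⁻¹ ∈ T := by
      have h5 : (g : G) * t⁻¹ * (g : G)⁻¹ ∈ T := (mem_normalizer_iff.1 g.2 t⁻¹).1 (T.inv_mem ht)
      have := T.mul_mem ht h5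
      have e : t * (g : G) * t⁻¹ * (g : G)⁻¹ = t * ((g : G) * t⁻¹ * (g : G)⁻¹) := by group
      rwa [e]
    have h5 : t * (g : G) * t⁻¹ * (g : G)⁻¹ = 1 := hTC _ h4 h3
    have h6 : t * (g : G) * t⁻¹ = g := mul_inv_eq_one.1 h5
    calc t * (g : G) = t * (g : G) * t⁻¹ * t := by group
      _ = g * t := by rw [h6]
  -- the index
  have hNle : N.subgroupOf (normalizer (T : Set G)) ≤ S.comap π := by
    intro x hx
    obtain ⟨t, ht, c, hc, htc⟩ := L.exists_tc (n := (x : G)) hx
    rw [mem_comap]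
    refine mem_bar.2 ⟨t, ht, ?_⟩
    have e1 : x = ⟨t, Subgroup.le_normalizer ht⟩ * ⟨c, Lift.centralizer_le T hc⟩ := Subtype.ext htc
    rw [e1, map_mul, (hkeriff ⟨c, Lift.centralizer_le T hc⟩).2 hc, mul_one]
  have hindS : S.index ∣ p ^ a := by
    have h1 : (S.comap π).index = S.index := Subgroup.index_comap_of_surjective S hπ
    rw [← h1, ← hidx]
    refine (Subgroup.index_dvd_of_le hNle).trans ?_
    exact Subgroup.relIndex_dvd_index_of_normal N (normalizer (T : Set G))
  obtain ⟨b, -, hb⟩ := (Nat.dvd_prime_pow hp).1 hindS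
  have hmeet : ∀ Y : Subgroup ↥X, IsCoatom Y → ¬ S ≤ Y →
      ¬ bar T π ≤ Y ∧ ∃ (t : G) (ht : t ∈ T), t ≠ 1 ∧ π ⟨t, Subgroup.le_normalizer ht⟩ ∈ Y := by
    intro Y hY hSY
    refine ⟨hSY, ?_⟩
    obtain ⟨s, hs, hs1, hsY⟩ := meet_ne_bot hSsimp hSns hp hb hY hSY
    obtain ⟨t, ht, rfl⟩ := mem_bar.1 hs
    refine ⟨t, ht, fun e => hs1 ?_, hsY⟩
    subst e
    exact (hkeriff _).2 (one_mem _)
  refine lift L hπ (fun x hx => (hkeriff x).2 hx) (fun x hx => (hkeriff x).1 hx) ?_
  by_cases htop : S = ⊤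
  · have e2 : ↥T ≃* ↥X := e.symm.trans ((MulEquiv.subgroupCongr htop).trans Subgroup.topEquiv)
    refine NCl.mono ((AtLeast.congr e2).1 row1) fun Y hY _ => hmeet Y hY fun h => hY.1 ?_
    rw [eq_top_iff, ← htop]
    exact h
  · have hX : NCl 3 ↥X fun M => ¬ S ≤ M := by
      refine row2 ↥X S ⟨e⟩ hcent htop ⟨p, b, hp, hb⟩ ?_
      have h1 : IsCyclic (↥(normalizer (T : Set G)) ⧸ N.subgroupOf (normalizer (T : Set G))) := by
        let f : ↥(normalizer (T : Set G)) ⧸ N.subgroupOf (normalizer (T : Set G)) →* G ⧸ N :=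
          QuotientGroup.map _ _ (normalizer (T : Set G)).subtype le_rfl
        refine isCyclic_of_injective f ?_
        rw [injective_iff_map_eq_one]
        intro x
        refine QuotientGroup.induction_on x fun x hx => ?_
        rw [QuotientGroup.eq_one_iff]
        exact (QuotientGroup.eq_one_iff (x : G)).1 hx
      let f : ↥(normalizer (T : Set G)) ⧸ N.subgroupOf (normalizer (T : Set G)) →* ↥X ⧸ S :=
        QuotientGroup.map _ _ π hNle
      refine isCyclic_of_surjective f ?_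
      intro y
      obtain ⟨y, rfl⟩ := QuotientGroup.mk_surjective y
      obtain ⟨x, rfl⟩ := hπ y
      exact ⟨(x : ↥(normalizer (T : Set G)) ⧸ N.subgroupOf (normalizer (T : Set G))), rfl⟩
    exact hX.mono fun Y hY hSY => hmeet Y hY hSY

end three

end Cfsg.Agent.H339.MaxCl
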