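import Cfsg.Agent.KFacts.RgdLieCharP
import Cfsg.Agent.H339.RgdQuot

/-!
# Radical 2-subgroups of groups of Lie type in characteristic two (helper339, S3321)

`eq_par` : a radical `p`-subgroup `L` is `g V_J g⁻¹` and `N(L) = g P_J g⁻¹`; `no_S5` : `N(L)` has no quotient `S₅`.
-/

set_option autoImplicit false
set_option linter.unusedSectionVars false
set_option linter.style.haveILetI false

namespace Cfsg.Agent.H339.RadQuot

open CoxeterSystem Cfsg.Agent.ChevalleyStructure.CoxeterGeom Cfsg.Agent.Tits.Roots Cfsg.Agent.Tits.Core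
  Cfsg.Agent.Nodes.Reps Cfsg.Agent.Nodes.BNOf
  Cfsg.Agent.Nodes.Bruhat Cfsg.Agent.Nodes.OppDec Cfsg.Agent.Nodes.LeviDec
  Cfsg.Agent.Nodes.NormX Cfsg.Agent.KFacts.RgdPar Cfsg.Agent.KFacts.RgdCent
  Cfsg.Agent.KFacts.RgdEx Cfsg.Agent.KFacts.RgdVJ Cfsg.Agent.KFacts.RgdCharP Cfsg.Agent.KFacts.RgdFilt

/-- In a `p`-group `V` a subgroup `L` with `N_V(L) ≤ L` is `V`. -/
theorem eq_of_normalizer {G : Type*} [Group G] [Finite G] {p : ℕ} [Fact p.Prime] {L V : Subgroup G}
    (hV : IsPGroup p V) (hLV : L ≤ V) (h : Subgroup.normalizer (L : Set G) ⊓ V ≤ L) : L = V := by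
  by_contra hne
  have hnil : Group.IsNilpotent V := hV.isNilpotent
  have h1 : L.subgroupOf V < ⊤ := by
    rw [lt_top_iff_ne_top]
    intro h2
    rw [Subgroup.subgroupOf_eq_top] at h2
    exact hne (le_antisymm hLV h2)
  have h2 := (Group.normalizerCondition_of_isNilpotent (h := hnil)) _ h1
  obtain ⟨y, hy, hyL⟩ := SetLike.exists_of_lt h2
  apply hyL
  rw [Subgroup.mem_subgroupOf]
  apply h
  refine Subgroup.mem_inf.2 ⟨?_, y.2⟩
  rw [Subgroup.mem_normalizer_iff] at hy ⊢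
  intro x
  constructor
  · intro hx
    have := (hy ⟨x, hLV hx⟩).mp hx
    exact this
  · intro hx
    have hxV : x ∈ V := by
      have h3 : (y : G) * x * (y : G)⁻¹ ∈ V := hLV hx
      have h4 : x = (y : G)⁻¹ * ((y : G) * x * (y : G)⁻¹) * (y : G) := by group
      rw [h4]
      exact V.mul_mem (V.mul_mem (V.inv_mem y.2) h3) y.2
    exact (hy ⟨x, hxV⟩).mpr hx

/-- **`N(L)` has no quotient `S₅`**, `L` a radical 2-subgroup. -/
theorem no_S5 {G : Type*} [Group G] [Finite G] [IsSimpleGroup G] (hG : HasFilt 2 G)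
    (hc : ∃ a b : G, a * b ≠ b * a) {L : Subgroup G} (hL : IsPGroup 2 ↥L) (hL1 : L ≠ ⊥)
    (hrad : ∀ D : Subgroup G, D ≤ Subgroup.normalizer (L : Set G) → IsPGroup 2 ↥D →
      (∀ g ∈ Subgroup.normalizer (L : Set G), ∀ d ∈ D, g * d * g⁻¹ ∈ D) → D ≤ L)
    (ψ : ↥(Subgroup.normalizer (L : Set G)) →* SymFive.S5) (hψ : Function.Surjective ψ) : False := by
  have : Fact (Nat.Prime 2) := ⟨Nat.prime_two⟩
  obtain ⟨l, M, A, h, T, n, X, R, hW, hBT, hGG, -, -, hX, hl⟩ := hG.data hc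
  obtain ⟨g, J, hJ, h1, h2⟩ := hBT L hL hL1
  set V := cj g (VJ M.toCoxeterSystem h X J) with hV
  set P := cj g (PJ M.toCoxeterSystem h T X J) with hP
  have hVp : IsPGroup 2 ↥V := (isPGroup_VJ R J).map _
  have hPV : P ≤ Subgroup.normalizer (V : Set G) := by
    rw [hP, hV, normalizer_cj]
    exact cj_mono g (PJ_le_normalizer_VJ R J)
  have hLV : L = V := by
    apply eq_of_normalizer hVp h1
    apply hrad _ inf_le_left (hVp.to_le inf_le_right)
    intro y hy d hd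
    refine Subgroup.mem_inf.2 ⟨?_, ?_⟩
    · exact mul_mem (mul_mem hy (Subgroup.mem_inf.1 hd).1) (inv_mem hy)
    · exact (Subgroup.mem_normalizer_iff.mp (hPV (h2 hy)) d).mp (Subgroup.mem_inf.1 hd).2
  have hPN : P = Subgroup.normalizer (L : Set G) := by
    apply le_antisymm _ h2
    rw [hLV]; exact hPV
  -- conjugate
  have hmem : ∀ x : ↥(PJ M.toCoxeterSystem h T X J), g * (x : G) * g⁻¹ ∈
      Subgroup.normalizer (L : Set G) := by
    intro x
    rw [← hPN, hP]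
    exact conj_mem_cj.2 x.2
  let θ : ↥(PJ M.toCoxeterSystem h T X J) →* ↥(Subgroup.normalizer (L : Set G)) :=
    { toFun := fun x => ⟨g * (x : G) * g⁻¹, hmem x⟩
      map_one' := Subtype.ext (by simp)
      map_mul' := fun x y => Subtype.ext (by
        change g * ((x * y : ↥(PJ M.toCoxeterSystem h T X J)) : G) * g⁻¹ =
          (g * (x : G) * g⁻¹) * (g * (y : G) * g⁻¹)
        push_cast; group) }
  have hθ : Function.Surjective θ := by
    intro y
    have hy : (y : G) ∈ P := by rw [hPN]; exact y.2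
    rw [hP, mem_cj] at hy
    refine ⟨⟨_, hy⟩, Subtype.ext ?_⟩
    change g * (g⁻¹ * (y : G) * g) * g⁻¹ = y
    group
  exact RgdQuot.no_S5 R hGG B_le_PJ (ψ.comp θ) (hψ.comp hθ)

end Cfsg.Agent.H339.RadQuot
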