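import Cfsg.Agent.H339.PentadFacts
import Cfsg.Agent.H339.ElimOrd
import Cfsg.Agent.H339.RadQuot
import Cfsg.Agent.H339.TwFNo
import Cfsg.Agent.OddCyclic.T1Socle

/-!
# The pentad 2-local of `J₄`: identification of the group (helper339, S3321)
-/

set_option autoImplicit false

namespace Cfsg.Agent.H339.PentadFacts

open Subgroup Cfsg

universe u

/-- **a simple group of characteristic 2 type with the pentad 2-local of `J₄` is `J₄`** -/
theorem isoJ4 (hkn : ∀ (X : Type u) [Group X] [Finite X] [IsSimpleGroup X], IsKnownSimple' X)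
    {G : Type u} [Group G] [Finite G] [IsSimpleGroup G] (hna : ¬ IsMulCommutative G)
    (hc : IsCharacteristicTwoType G) {K L Z : Subgroup G} (H : Hyp K L Z) : Spor.IsoJ4 G := by
  have hcomm : ∃ a b : G, a * b ≠ b * a := by
    by_contra h
    push Not at h
    exact hna ⟨⟨h⟩⟩
  rcases ElimOrd.lie_or_j4 hkn hna hc H.pow_dvd H.not_rank_two with h | h
  · exfalso
    have key : KFacts.RgdLieCharP.IsLieFilt 2 G → False := by
      intro h
      obtain ⟨ψ, hψ⟩ := H.exists_surj
      exact RadQuot.no_S5 (KFacts.RgdLieCharP.hasFilt_of_lie h) hcomm H.two_L H.ne_bot H.radical ψ hψ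
    rcases h with h | h | h | h | h | h | h | h | ⟨-, h⟩ | ⟨-, h⟩ | ⟨h, -⟩
    · exact key (Or.inl h)
    · exact key (Or.inr (Or.inl h))
    · exact key (Or.inr (Or.inr (Or.inl h)))
    · exact key (Or.inr (Or.inr (Or.inr (Or.inl h))))
    · exact key (Or.inr (Or.inr (Or.inr (Or.inr (Or.inl h)))))
    · exact key (Or.inr (Or.inr (Or.inr (Or.inr (Or.inr (Or.inl h))))))
    · exact key (Or.inr (Or.inr (Or.inr (Or.inr (Or.inr (Or.inr (Or.inl h)))))))
    · exact key (Or.inr (Or.inr (Or.inr (Or.inr (Or.inr (Or.inr (Or.inr h)))))))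
    · exact OddCyclic.T1Socle.not_three_dvd h H.three_dvd
    · obtain ⟨t, a, b, h1, h2, h3, h4, h5, h6⟩ := H.exists_inv
      exact TwFNo.no_three_five h h1 h2 h3 h4 h5 h6
    · exact absurd h (by norm_num)
  · exact h

end Cfsg.Agent.H339.PentadFacts
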