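import Mathlib
import Cfsg.Agent.Lib.Cores
import Cfsg.Agent.H339.SymFive
import Cfsg.Prelude.Def_CaseTheorems
import Cfsg.Prelude.Def_Transfer

/-!
# The pentad 2-local of `J₄`: group theoretical facts (helper339, S3321)
-/

set_option autoImplicit false

namespace Cfsg.Agent.H339.PentadFacts

open Subgroup Cfsg Cfsg.Agent.Lib.Cores

/-- `L₃(2)` -/
abbrev L32 := Matrix.SpecialLinearGroup (Fin 3) (ZMod 2)

theorem card_L32 : Nat.card L32 = 168 := by
  rw [Nat.card_eq_fintype_card]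
  decide +kernel

variable {G : Type*} [Group G] {K L Z : Subgroup G}

/-- the hypotheses of S3321 that are used -/
structure Hyp (K L Z : Subgroup G) : Prop where
  hL : L = (pCore 2 ↥K).map K.subtype
  hZ : Z = (center ↥L).map L.subtype
  hLc : Nat.card ↥L = 2 ^ 15
  hZe : IsElementaryAbelian 2 Z
  hZc : Nat.card ↥Z = 8
  hK : K = normalizer (Z : Set G)
  hq : ∃ _ : (L.subgroupOf K).Normal, Nonempty (↥K ⧸ L.subgroupOf K ≃* SymFive.S5 × L32)
  hx : ∀ x y : G, x ∈ K → y ∈ K → orderOf x = 3 → orderOf y = 7 → x * y = y * x →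
    L ⊓ centralizer ({x} : Set G) = Z

namespace Hyp

variable (H : Hyp K L Z)
include H

theorem le_K : L ≤ K := by
  rw [H.hL]
  exact Subgroup.map_subtype_le _

theorem Z_le : Z ≤ L := by
  rw [H.hZ]
  exact Subgroup.map_subtype_le _

theorem two_L : IsPGroup 2 ↥L := by
  rw [H.hL]
  exact (pCore_isPGroup 2).map _

theorem conj_L {g x : G} (hg : g ∈ K) (hx : x ∈ L) : g * x * g⁻¹ ∈ L := by
  rw [H.hL] at hx ⊢
  obtain ⟨y, hy, rfl⟩ := hx
  exact ⟨⟨g, hg⟩ * y * ⟨g, hg⟩⁻¹, (pCore_normal 2 ↥K).conj_mem y hy ⟨g, hg⟩, rfl⟩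

theorem mem_Z {z : G} : z ∈ Z ↔ z ∈ L ∧ ∀ l ∈ L, l * z = z * l := by
  rw [H.hZ]
  constructor
  · rintro ⟨y, hy, rfl⟩
    exact ⟨y.2, fun l hl => congrArg Subtype.val (Subgroup.mem_center_iff.1 hy ⟨l, hl⟩)⟩
  · rintro ⟨h1, h2⟩
    exact ⟨⟨z, h1⟩, Subgroup.mem_center_iff.2 fun l => Subtype.ext (h2 l l.2), rfl⟩

/-- `N(L) ≤ K` since `Z` is characteristic in `L` -/
theorem normalizer_eq : normalizer (L : Set G) = K := by
  apply le_antisymm
  · have key : ∀ g ∈ normalizer (L : Set G), ∀ z ∈ Z, g * z * g⁻¹ ∈ Z := by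
      intro g hg z hz
      rw [H.mem_Z] at hz ⊢
      refine ⟨(Subgroup.mem_normalizer_iff.1 hg z).1 hz.1, fun l hl => ?_⟩
      have h1 : g⁻¹ * l * g ∈ L := by
        rw [Subgroup.mem_normalizer_iff.1 hg]
        have e : g * (g⁻¹ * l * g) * g⁻¹ = l := by group
        rwa [e]
      have h2 := hz.2 _ h1
      calc l * (g * z * g⁻¹) = g * (g⁻¹ * l * g * z) * g⁻¹ := by group
        _ = g * (z * (g⁻¹ * l * g)) * g⁻¹ := by rw [h2]
        _ = g * z * g⁻¹ * l := by group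
    intro g hg
    rw [H.hK, Subgroup.mem_normalizer_iff]
    intro z
    refine ⟨key g hg z, fun h => ?_⟩
    have h1 := key g⁻¹ (inv_mem hg) _ h
    have e : g⁻¹ * (g * z * g⁻¹) * g⁻¹⁻¹ = z := by group
    rwa [e] at h1
  · intro g hg
    rw [Subgroup.mem_normalizer_iff]
    intro x
    refine ⟨H.conj_L hg, fun h => ?_⟩
    have h1 := H.conj_L (inv_mem hg) h
    have e : g⁻¹ * (g * x * g⁻¹) * g⁻¹⁻¹ = x := by group
    rwa [e] at h1

theorem radical (D : Subgroup G) (h1 : D ≤ normalizer (L : Set G)) (h2 : IsPGroup 2 ↥D)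
    (h3 : ∀ g ∈ normalizer (L : Set G), ∀ d ∈ D, g * d * g⁻¹ ∈ D) : D ≤ L := by
  rw [H.normalizer_eq] at h1 h3
  have h4 : D.subgroupOf K ≤ pCore 2 ↥K := by
    refine le_sSup ⟨⟨fun d hd g => h3 g g.2 d hd⟩, ?_⟩
    exact h2.of_equiv (Subgroup.subgroupOfEquivOfLe h1).symm
  intro d hd
  rw [H.hL]
  exact ⟨⟨d, h1 hd⟩, h4 hd, rfl⟩

theorem ne_bot : L ≠ ⊥ := by
  intro h
  have h1 := H.hLc
  rw [h, Subgroup.card_bot] at h1
  norm_num at h1

/-- the quotient `S₅` of `N(L)` -/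
theorem exists_surj : ∃ ψ : ↥(normalizer (L : Set G)) →* SymFive.S5, Function.Surjective ψ := by
  rw [H.normalizer_eq]
  obtain ⟨_, ⟨e⟩⟩ := H.hq
  refine ⟨(MonoidHom.fst _ _).comp (e.toMonoidHom.comp (QuotientGroup.mk' _)), ?_⟩
  exact Prod.fst_surjective.comp (e.surjective.comp (QuotientGroup.mk'_surjective _))

theorem card_K : Nat.card ↥K = 2 ^ 21 * 315 := by
  obtain ⟨_, ⟨e⟩⟩ := H.hq
  have h1 := Subgroup.card_eq_card_quotient_mul_card_subgroup (L.subgroupOf K)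
  rw [Nat.card_congr e.toEquiv, Nat.card_prod, SymFive.card_S5, card_L32,
    Nat.card_congr (Subgroup.subgroupOfEquivOfLe H.le_K).toEquiv, H.hLc] at h1
  rw [h1]; norm_num

theorem pow_dvd : 2 ^ 21 ∣ Nat.card G := by
  refine Dvd.dvd.trans ?_ (Subgroup.card_subgroup_dvd_card K)
  rw [H.card_K]
  exact Dvd.intro _ rfl

theorem three_dvd : 3 ∣ Nat.card G := by
  refine Dvd.dvd.trans ?_ (Subgroup.card_subgroup_dvd_card K)
  rw [H.card_K]
  norm_num

theorem not_rank_two : ¬ PRankLE 2 2 G := by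
  intro h
  have h1 := h Z H.hZe.1 H.hZe.2
  rw [H.hZc] at h1
  norm_num at h1

variable [Finite G]

/-- commuting elements of order 3 and 7 -/
theorem exists_xy : ∃ x y : G, x ∈ K ∧ y ∈ K ∧ orderOf x = 3 ∧ orderOf y = 7 ∧ x * y = y * x := by
  obtain ⟨_, ⟨e⟩⟩ := H.hq
  have : Fact (Nat.Prime 3) := ⟨Nat.prime_three⟩
  have : Fact (Nat.Prime 7) := ⟨by norm_num⟩
  obtain ⟨a, ha⟩ := exists_prime_orderOf_dvd_card' (G := SymFive.S5) 3 (by rw [SymFive.card_S5]; norm_num)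
  obtain ⟨b, hb⟩ := exists_prime_orderOf_dvd_card' (G := L32) 7 (by rw [card_L32]; norm_num)
  obtain ⟨g, hg⟩ := (e.surjective.comp (QuotientGroup.mk'_surjective (L.subgroupOf K))) (a, b)
  have h1 : 21 ∣ orderOf g := by
    have h2 : orderOf ((a, b) : SymFive.S5 × L32) = 21 := by
      rw [Prod.orderOf, ha, hb]; rfl
    rw [← h2, ← hg]
    exact orderOf_map_dvd (e.toMonoidHom.comp (QuotientGroup.mk' (L.subgroupOf K))) g
  have h0 : orderOf g ≠ 0 := (orderOf_pos g).ne'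
  have h3 := orderOf_pow_orderOf_div h0 (Dvd.dvd.trans (by norm_num : 3 ∣ 21) h1)
  have h7 := orderOf_pow_orderOf_div h0 (Dvd.dvd.trans (by norm_num : 7 ∣ 21) h1)
  refine ⟨((g ^ (orderOf g / 3) : ↥K) : G), ((g ^ (orderOf g / 7) : ↥K) : G), SetLike.coe_mem _, SetLike.coe_mem _,
    ?_, ?_, ?_⟩
  · rw [Subgroup.orderOf_coe, h3]
  · rw [Subgroup.orderOf_coe, h7]
  · rw [← Subgroup.coe_mul, ← Subgroup.coe_mul, ← pow_add, ← pow_add, add_comm]

/-- an involution commuting with elements of order 3 and 5 -/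
theorem exists_inv : ∃ t a b : G, t * t = 1 ∧ t ≠ 1 ∧ orderOf a = 3 ∧ orderOf b = 5 ∧ a * t = t * a ∧ b * t = t * b := by
  classical
  have : Fact (Nat.Prime 5) := ⟨Nat.prime_five⟩
  obtain ⟨x, y, hx, hy, hx3, hy7, hxy⟩ := H.exists_xy
  have hC := H.hx x y hx hy hx3 hy7 hxy
  obtain ⟨b, hb⟩ := exists_prime_orderOf_dvd_card' (G := ↥K) 5 (by rw [H.card_K]; norm_num)
  have hbZ : ∀ z : G, z ∈ Z ↔ (b : G) * z * (b : G)⁻¹ ∈ Z := by
    have h : (b : G) ∈ normalizer (Z : Set G) := by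
      rw [← H.hK]; exact b.2
    exact Subgroup.mem_normalizer_iff.1 h
  let f : Function.End ↥Z := fun z => ⟨(b : G) * z * (b : G)⁻¹, (hbZ z).1 z.2⟩
  have hf : ∀ (n : ℕ) (z : ↥Z), (((f ^ n) z : ↥Z) : G) = (b : G) ^ n * z * ((b : G) ^ n)⁻¹ := by
    intro n
    induction n with
    | zero =>
      intro z
      show (z : G) = _
      rw [pow_zero]; group
    | succ n ih =>
      intro z
      rw [pow_succ]
      show (((f ^ n) (f z) : ↥Z) : G) = _
      rw [ih]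
      show (b : G) ^ n * ((b : G) * z * (b : G)⁻¹) * ((b : G) ^ n)⁻¹ = _
      rw [pow_succ]; group
  have hb5 : (b : G) ^ 5 = 1 := by
    rw [← hb, ← Subgroup.orderOf_coe, pow_orderOf_eq_one]
  have hf5 : f ^ 5 ^ 1 = 1 := by
    funext z
    apply Subtype.ext
    rw [hf]
    show (b : G) ^ 5 * z * ((b : G) ^ 5)⁻¹ = z
    rw [hb5]; group
  have := Fintype.ofFinite ↥Z
  have hcard := Equiv.Perm.card_fixedPoints_modEq hf5
  rw [← Nat.card_eq_fintype_card, H.hZc] at hcard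
  have h2 : 1 < Fintype.card ↑(Function.fixedPoints f) := by
    by_contra hcon
    have h3 : Fintype.card ↑(Function.fixedPoints f) = 0 ∨ Fintype.card ↑(Function.fixedPoints f) = 1 := by omega
    rcases h3 with h3 | h3 <;> rw [h3] at hcard <;> exact absurd hcard (by decide)
  obtain ⟨t, ht⟩ := Fintype.exists_ne_of_one_lt_card h2 ⟨1, by
    show f 1 = 1
    apply Subtype.ext
    show (b : G) * 1 * (b : G)⁻¹ = 1
    group⟩
  have ht1 : ((t : ↥Z) : G) ≠ 1 := fun h => ht (Subtype.ext (Subtype.ext h))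
  refine ⟨((t : ↥Z) : G), x, b, ?_, ht1, hx3, ?_, ?_, ?_⟩
  · rw [← pow_two]; exact H.hZe.2 _ (t : ↥Z).2
  · rw [Subgroup.orderOf_coe, hb]
  · have h3 : ((t : ↥Z) : G) ∈ L ⊓ centralizer ({x} : Set G) := by rw [hC]; exact (t : ↥Z).2
    exact (Subgroup.mem_centralizer_singleton_iff.1 h3.2).symm
  · have h3 : f (t : ↥Z) = t := t.2
    have h4 : (b : G) * ((t : ↥Z) : G) * (b : G)⁻¹ = ((t : ↥Z) : G) := congrArg Subtype.val h3
    exact mul_inv_eq_iff_eq_mul.1 h4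

end Hyp

end Cfsg.Agent.H339.PentadFacts
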