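import Cfsg.Agent.H339.Co

/-!
# The conjugates of the root group `Z` (helper339, S3324)
-/

set_option autoImplicit false
set_option linter.unusedSectionVars false
open Subgroup

namespace Cfsg.Agent.H339.Co

variable {G F : Type*} [Group G] [Field F] (K : Co G F)

/-- The hypotheses. -/
structure Hyp : Prop where
  cent : ∀ v, v ≠ 0 → ∀ g, g * K.d v = K.d v * g → ∃ t u v' s r, g = K.m t u v' * K.a s * K.h r
  nrm : ∀ g, ∀ x ∈ K.M, g * x * g⁻¹ ∈ K.M
  nc : ∃ v, v ≠ 0 ∧ ∀ g, g * K.d 1 * g⁻¹ ≠ K.d v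
  two : (2 : F) ≠ 0
  np : ∃ g, cj g K.Z ≠ K.Z

/-- The conjugates of `Z`. -/
def IsPt (S : Subgroup G) : Prop := ∃ g, S = cj g K.Z

variable {K}

theorem isPt_Z : K.IsPt K.Z := ⟨1, (cj_one _).symm⟩

theorem IsPt.cj {S : Subgroup G} (hS : K.IsPt S) (g : G) : K.IsPt (cj g S) := by
  obtain ⟨g', rfl⟩ := hS
  exact ⟨g * g', (cj_mul _ _ _).symm⟩

theorem isPt_cj_iff {S : Subgroup G} (g : G) : K.IsPt (H339.cj g S) ↔ K.IsPt S := by
  constructor
  · intro h
    have := h.cj g⁻¹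
    rwa [cj_inv_cj] at this
  · intro h
    exact h.cj g

theorem IsPt.card {S : Subgroup G} (hS : K.IsPt S) : Nat.card S = Nat.card F := by
  obtain ⟨g', rfl⟩ := hS
  rw [card_cj, K.card_Z]

namespace Hyp

variable (H : K.Hyp)

include H

/-- An element centralising a nontrivial element of a point centralises the point. -/
theorem comm_pt {S : Subgroup G} (hS : K.IsPt S) {x : G} (hx : x ∈ S) (hx1 : x ≠ 1) {g : G}
    (hg : g * x = x * g) : ∀ y ∈ S, g * y = y * g := by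
  obtain ⟨k, rfl⟩ := hS
  rw [mem_cj] at hx
  obtain ⟨v, hv⟩ := hx
  have hv0 : v ≠ 0 := by
    rintro rfl
    rw [K.d_zero] at hv
    apply hx1
    have : x = k * (k⁻¹ * x * k) * k⁻¹ := by group
    rw [this, hv]; group
  have hg' : (k⁻¹ * g * k) * K.d v = K.d v * (k⁻¹ * g * k) := by
    rw [← hv]
    calc k⁻¹ * g * k * (k⁻¹ * x * k) = k⁻¹ * (g * x) * k := by group
      _ = _ := by rw [hg]; group
  obtain ⟨t, u, v', s, r, e⟩ := H.cent v hv0 _ hg'
  intro y hy
  rw [mem_cj] at hy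
  obtain ⟨w, hw⟩ := hy
  have h3 : (k⁻¹ * g * k) * K.d w = K.d w * (k⁻¹ * g * k) := by
    rw [e, K.d_eq, K.e_m]
    simp
  have h4 : g = k * (k⁻¹ * g * k) * k⁻¹ := by group
  have h5 : y = k * (k⁻¹ * y * k) * k⁻¹ := by group
  rw [h4, h5, hw]
  calc k * (k⁻¹ * g * k) * k⁻¹ * (k * K.d w * k⁻¹) = k * ((k⁻¹ * g * k) * K.d w) * k⁻¹ := by group
    _ = k * (K.d w * (k⁻¹ * g * k)) * k⁻¹ := by rw [h3]
    _ = _ := by group

/-- An element commuting with everything commuting with `d v` is in `Z`. -/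
theorem mem_Z_of {v : F} (hv : v ≠ 0) {y : G}
    (hy : ∀ k, k * K.d v = K.d v * k → k * y = y * k) : y ∈ K.Z := by
  have h1 := hy (K.d v) rfl
  obtain ⟨t, u, v', s, r, e⟩ := H.cent v hv y h1.symm
  have h2 := hy (K.c 1) (K.dc 1 v).symm
  have h3 := hy (K.a 1) (K.ad 1 v)
  -- commutes with `c 1`
  rw [e, K.c_eq, K.e_m] at h2
  have h4 := mul_right_cancel h2
  simp only [mul_zero, mul_one, add_zero, zero_add] at h4
  obtain ⟨-, h5, h6⟩ := K.m_inj h4
  have hr : r = 1 := Units.ext h5.symm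
  subst hr
  have hs : s = 0 := by
    simp only [Units.val_one, mul_one] at h6
    rcases mul_eq_zero.mp h6.symm with h7 | h7
    · exact absurd h7 H.two
    · exact h7
  subst hs
  rw [K.a_zero, K.h_one, mul_one, mul_one] at e
  rw [e, K.a_m] at h3
  have h7 := mul_right_cancel h3
  obtain ⟨-, h8, h9⟩ := K.m_inj h7
  have ht : t = 0 := by linear_combination h8
  subst ht
  have hu : u = 0 := by
    have : 2 * u = 0 := by linear_combination h9
    rcases mul_eq_zero.mp this with h7 | h7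
    · exact absurd h7 H.two
    · exact h7
  subst hu
  exact ⟨v', by rw [e, K.d_eq]⟩

theorem ti_Z [Finite G] {S : Subgroup G} (hS : K.IsPt S) {x : G} (hx : x ∈ S) (hx1 : x ≠ 1)
    (hZ : x ∈ K.Z) : S = K.Z := by
  obtain ⟨v, rfl⟩ := hZ
  have hv : v ≠ 0 := by
    rintro rfl
    exact hx1 K.d_zero
  have h1 : S ≤ K.Z := by
    intro y hy
    apply H.mem_Z_of hv
    intro k hk
    exact H.comm_pt hS hx hx1 hk y hy
  exact Subgroup.eq_of_le_of_card_ge h1 (by rw [hS.card, K.card_Z])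

/-- Points meet trivially. -/
theorem ti [Finite G] {S S' : Subgroup G} (hS : K.IsPt S) (hS' : K.IsPt S') {x : G} (hx : x ∈ S)
    (hx' : x ∈ S') (hx1 : x ≠ 1) : S = S' := by
  obtain ⟨k, rfl⟩ := hS'
  have h1 : cj k⁻¹ S = K.Z := by
    apply H.ti_Z (x := k⁻¹ * x * k) (hS.cj _)
    · rw [mem_cj]
      have : k⁻¹⁻¹ * (k⁻¹ * x * k) * k⁻¹ = x := by group
      rwa [this]
    · intro e
      apply hx1
      have : x = k * (k⁻¹ * x * k) * k⁻¹ := by group
      rw [this, e]; group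
    · exact mem_cj.mp hx'
  rw [← h1, cj_cj_inv]

theorem cj_M (g : G) : cj g K.M = K.M := by
  have key : ∀ g : G, cj g K.M ≤ K.M := by
    intro g x hx
    rw [mem_cj] at hx
    have := H.nrm g _ hx
    have e : g * (g⁻¹ * x * g) * g⁻¹ = x := by group
    rwa [e] at this
  apply le_antisymm (key g)
  have := cj_mono (g := g) (key g⁻¹)
  rwa [cj_cj_inv] at this

theorem Z_le : K.Z ≤ K.M := by
  rintro _ ⟨v, rfl⟩
  exact ⟨0, 0, v, K.d_eq v⟩

theorem pt_le {S : Subgroup G} (hS : K.IsPt S) : S ≤ K.M := by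
  obtain ⟨g, rfl⟩ := hS
  have := cj_mono (g := g) (H.Z_le)
  rwa [H.cj_M] at this

theorem exists_ne_one [Finite G] [Finite F] {S : Subgroup G} (hS : K.IsPt S) : ∃ x ∈ S, x ≠ 1 := by
  by_contra hcon
  push Not at hcon
  have : S = ⊥ := by
    rw [eq_bot_iff]
    intro x hx
    rw [Subgroup.mem_bot]
    exact hcon x hx
  have h1 := hS.card
  rw [this, Subgroup.card_bot] at h1
  have := Finite.one_lt_card (α := F)
  omega

/-- `w ∈ c(F)` is not in a point. -/
theorem c_not_mem [Finite G] [Finite F] {S : Subgroup G} (hS : K.IsPt S) {u : F}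
    (hu : u ≠ 0) : K.c u ∉ S := by
  intro hc
  have hc1 : K.c u ≠ 1 := by
    intro e
    rw [K.c_eq] at e
    exact hu (K.m_eq_one e).2.1
  -- `τ = h (-1)` normalises `S`
  have hτ : cj (K.h (-1)) S = S := by
    apply H.ti (hS.cj _) hS (x := (K.c u)⁻¹)
    · have h1 := conj_mem_cj (g := K.h (-1)) hc
      have h2 : K.h (-1) * K.c u * (K.h (-1))⁻¹ = (K.c u)⁻¹ := by
        rw [K.hc, mul_inv_cancel_right, K.c_eq, K.c_eq, K.m_inv]
        simp
      rwa [h2] at h1
    · exact S.inv_mem hc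
    · simpa using hc1
  -- fixed points of `τ` on `S` are trivial
  have hfix : ∀ y ∈ S, K.h (-1) * y = y * K.h (-1) → y = 1 := by
    intro y hy hcy
    by_contra hy1
    have h1 := H.comm_pt hS hy hy1 hcy _ hc
    rw [K.hc] at h1
    have h2 := mul_right_cancel h1
    rw [K.c_eq, K.c_eq] at h2
    have h3 := (K.m_inj h2).2.1
    simp only [Units.val_neg, Units.val_one, neg_mul, one_mul] at h3
    apply hu
    have : 2 * u = 0 := by linear_combination -h3
    rcases mul_eq_zero.mp this with h7 | h7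
    · exact absurd h7 H.two
    · exact h7
  have hSc : ∀ y ∈ S, ∃ w, y = K.c w := by
    intro y hy
    obtain ⟨t, w, v, rfl⟩ := H.pt_le hS hy
    have h1 : K.h (-1) * K.m t w v * (K.h (-1))⁻¹ ∈ S := by
      have := conj_mem_cj (g := K.h (-1)) hy
      rwa [hτ] at this
    rw [K.h_m, mul_inv_cancel_right] at h1
    simp only [Units.val_neg, Units.val_one, neg_mul, one_mul, neg_neg] at h1
    have h2 := S.mul_mem hy h1
    rw [K.m_mul, add_neg_cancel] at h2
    have h3 := hfix _ h2 (by rw [K.h_m]; simp)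
    obtain ⟨h4, -, h5⟩ := K.m_eq_one h3
    have h6 : t = 0 := by
      have : 2 * t = 0 := by linear_combination h4
      rcases mul_eq_zero.mp this with h7 | h7
      · exact absurd h7 H.two
      · exact h7
    have h8 : v = 0 := by
      have : 2 * v = 0 := by linear_combination h5
      rcases mul_eq_zero.mp this with h7 | h7
      · exact absurd h7 H.two
      · exact h7
    subst h6 h8
    exact ⟨w, by rw [K.c_eq]⟩
  -- all the elements of `Z` are conjugate
  obtain ⟨g, rfl⟩ := hS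
  obtain ⟨v, hv, hnc⟩ := H.nc
  obtain ⟨u₁, h1⟩ := hSc (g * K.d 1 * g⁻¹) (conj_mem_cj ⟨1, rfl⟩)
  obtain ⟨u₂, h2⟩ := hSc (g * K.d v * g⁻¹) (conj_mem_cj ⟨v, rfl⟩)
  have hu1 : u₁ ≠ 0 := by
    rintro rfl
    rw [K.c_zero] at h1
    apply K.d_ne_one (one_ne_zero)
    have : K.d 1 = g⁻¹ * (g * K.d 1 * g⁻¹) * g := by group
    rw [this, h1]; group
  have hu2 : u₂ ≠ 0 := by
    rintro rfl
    rw [K.c_zero] at h2
    apply K.d_ne_one hv
    have : K.d v = g⁻¹ * (g * K.d v * g⁻¹) * g := by group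
    rw [this, h2]; group
  have h3 := K.hc (Units.mk0 (u₂ / u₁) (div_ne_zero hu2 hu1)) u₁
  rw [Units.val_mk0, div_mul_cancel₀ _ hu1, ← h1, ← h2] at h3
  apply hnc (g⁻¹ * K.h (Units.mk0 (u₂ / u₁) (div_ne_zero hu2 hu1)) * g)
  have h4 : K.h (Units.mk0 (u₂ / u₁) (div_ne_zero hu2 hu1)) * (g * K.d 1 * g⁻¹) *
      (K.h (Units.mk0 (u₂ / u₁) (div_ne_zero hu2 hu1)))⁻¹ = g * K.d v * g⁻¹ := by
    rw [h3]; group
  have h5 : K.d v = g⁻¹ * (g * K.d v * g⁻¹) * g := by group
  rw [h5, ← h4]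
  group

/-- Nontrivial elements of the other points have nonzero `b`-coordinate. -/
theorem coord_ne [Finite G] [Finite F] {S : Subgroup G} (hS : K.IsPt S) (hne : S ≠ K.Z)
    {t u v : F} (hx : K.m t u v ∈ S) (hx1 : K.m t u v ≠ 1) : t ≠ 0 := by
  rintro rfl
  by_cases hu : u = 0
  · subst hu
    exact hne (H.ti_Z hS hx hx1 ⟨v, by rw [K.d_eq]⟩)
  · have h1 := conj_mem_cj (g := K.a (-v / (2 * u))) hx
    rw [K.a_m, mul_inv_cancel_right] at h1
    have h2 : v + 2 * (-v / (2 * u)) * u + -v / (2 * u) * (-v / (2 * u)) * 0 = 0 := by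
      have := H.two
      field_simp
      ring
    have h3 : u + -v / (2 * u) * 0 = u := by ring
    rw [h2, h3, ← K.c_eq] at h1
    exact H.c_not_mem (hS.cj _) hu h1

theorem h_neg_comm_D {x : G} (hx : x ∈ K.D) : K.h (-1) * x = x * K.h (-1) := by
  obtain ⟨t, v, rfl⟩ := hx
  rw [K.h_m]
  simp

theorem mem_D_of_comm {x : G} (hx : x ∈ K.M) (h1 : K.h (-1) * x = x * K.h (-1)) : x ∈ K.D := by
  obtain ⟨t, u, v, rfl⟩ := hx
  rw [K.h_m] at h1
  have h2 := mul_right_cancel h1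
  obtain ⟨-, h3, -⟩ := K.m_inj h2
  simp only [Units.val_neg, Units.val_one, neg_mul, one_mul] at h3
  have : 2 * u = 0 := by linear_combination -h3
  rcases mul_eq_zero.mp this with h7 | h7
  · exact absurd h7 H.two
  · exact ⟨t, v, by rw [h7]⟩

theorem le_D_of_mem [Finite G] [Finite F] {S : Subgroup G} (hS : K.IsPt S) {x : G} (hx : x ∈ S)
    (hx1 : x ≠ 1) (hD : x ∈ K.D) : S ≤ K.D := by
  intro y hy
  apply H.mem_D_of_comm (H.pt_le hS hy)
  exact H.comm_pt hS hx hx1 (H.h_neg_comm_D hD) y hy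

theorem Z_le_D : K.Z ≤ K.D := by
  rintro _ ⟨v, rfl⟩
  exact ⟨0, v, K.d_eq v⟩

theorem cj_a_Z (s : F) : cj (K.a s) K.Z = K.Z := by
  apply cj_eq_of_comm
  rintro _ ⟨v, rfl⟩
  exact K.ad s v

theorem cj_h_Z (r : Fˣ) : cj (K.h r) K.Z = K.Z := by
  apply cj_eq_of_comm
  rintro _ ⟨v, rfl⟩
  exact K.hd r v

/-- Every point other than `Z` is conjugate under `a(F)` to a point in `D`. -/
theorem exists_le_D [Finite G] [Finite F] {S : Subgroup G} (hS : K.IsPt S) (hne : S ≠ K.Z) :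
    ∃ s, cj (K.a s) S ≤ K.D := by
  obtain ⟨x, hx, hx1⟩ := H.exists_ne_one hS
  obtain ⟨t, u, v, rfl⟩ := H.pt_le hS hx
  have ht := H.coord_ne hS hne hx hx1
  refine ⟨-u / t, ?_⟩
  have h1 := conj_mem_cj (g := K.a (-u / t)) hx
  rw [K.a_m, mul_inv_cancel_right] at h1
  apply H.le_D_of_mem (hS.cj _) h1
  · intro e
    exact ht (K.m_eq_one e).1
  · refine ⟨t, v + 2 * (-u / t) * u + -u / t * (-u / t) * t, ?_⟩
    have : u + -u / t * t = 0 := by field_simp; ring
    rw [this]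

theorem eq_zero_of_le_D [Finite G] [Finite F] {S : Subgroup G} (hS : K.IsPt S) (hne : S ≠ K.Z)
    (hD : S ≤ K.D) {s : F} (hs : cj (K.a s) S ≤ K.D) : s = 0 := by
  obtain ⟨x, hx, hx1⟩ := H.exists_ne_one hS
  obtain ⟨t, v, rfl⟩ := hD hx
  have ht := H.coord_ne hS hne hx hx1
  have h1 := conj_mem_cj (g := K.a s) hx
  rw [K.a_m, mul_inv_cancel_right] at h1
  obtain ⟨t', v', e⟩ := hs h1
  have := (K.m_inj e).2.1
  rw [zero_add] at this
  rcases mul_eq_zero.mp this with h7 | h7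
  · exact h7
  · exact absurd h7 ht

/-- Every value of the `b`-coordinate occurs exactly once. -/
theorem exists_coord [Finite G] [Finite F] {S : Subgroup G} (hS : K.IsPt S) (hne : S ≠ K.Z)
    (hD : S ≤ K.D) (t : F) : ∃ v, K.m t 0 v ∈ S := by
  classical
  -- the coordinate map is injective
  choose f g hfg using fun x : S => K.mem_D.mp (hD x.2)
  have hinj : Function.Injective f := by
    intro x y e
    have h1 : (x : G) * (y : G)⁻¹ ∈ S := S.mul_mem x.2 (S.inv_mem y.2)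
    rw [hfg x, hfg y, K.m_inv, K.m_mul, e, add_neg_cancel] at h1
    by_contra hxy
    apply H.coord_ne hS hne h1 _ rfl
    intro e2
    apply hxy
    apply Subtype.ext
    rw [hfg x, hfg y, e]
    obtain ⟨-, -, e3⟩ := K.m_eq_one e2
    have : g x = g y := by linear_combination e3
    rw [this]
  have hbij : Function.Bijective f := by
    have := Finite.of_injective _ hinj
    exact (Nat.bijective_iff_injective_and_card f).mpr ⟨hinj, hS.card⟩
  obtain ⟨x, hx⟩ := hbij.2 t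
  refine ⟨g x, ?_⟩
  rw [← hx, ← hfg x]
  exact x.2

theorem coord_unique [Finite G] [Finite F] {S : Subgroup G} (hS : K.IsPt S) (hne : S ≠ K.Z)
    {t u v v' u' : F} (h1 : K.m t u v ∈ S) (h2 : K.m t u' v' ∈ S) : u = u' ∧ v = v' := by
  have h3 := S.mul_mem h1 (S.inv_mem h2)
  rw [K.m_inv, K.m_mul, add_neg_cancel] at h3
  by_cases e : K.m 0 (u + -u') (v + -v') = 1
  · obtain ⟨-, e1, e2⟩ := K.m_eq_one e
    exact ⟨by linear_combination e1, by linear_combination e2⟩
  · exact absurd rfl (H.coord_ne hS hne h3 e)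

end Hyp

end Cfsg.Agent.H339.Co
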