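import Cfsg.Agent.H339.MaxRow
import Cfsg.Agent.S2119

/-!
# Row `A_n`, `n ≥ 7`, of S5907 (helper339)
-/

set_option autoImplicit false
set_option linter.unusedSectionVars false

namespace Cfsg.Agent.H339.RowAlt

open Subgroup MulAction Cfsg.Agent.H339.MaxCl
open scoped Pointwise

universe u v

variable {n : ℕ}

theorem index_stab (hn : 3 ≤ n) {k : ℕ} (s : Set.powersetCard (Fin n) k) :
    (stabilizer (alternatingGroup (Fin n)) s).index = n.choose k := by
  have h3 : 3 ≤ Nat.card (Fin n) := by rw [Nat.card_eq_fintype_card, Fintype.card_fin]; exact hn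
  have := Set.powersetCard.isPretransitive_alternatingGroup (α := Fin n) (n := k) h3
  rw [MulAction.index_stabilizer, MulAction.orbit_eq_univ, Set.ncard_univ, Set.powersetCard.card,
    Nat.card_eq_fintype_card, Fintype.card_fin]

theorem isCoatom_stab {k : ℕ} (hk : 1 ≤ k) (hkn : k < n) (h2 : n ≠ 2 * k) (s : Set.powersetCard (Fin n) k) :
    IsCoatom (stabilizer (alternatingGroup (Fin n)) s) := by
  have e : stabilizer (alternatingGroup (Fin n)) s =
      stabilizer (alternatingGroup (Fin n)) ((s : Finset (Fin n)) : Set (Fin n)) := Set.powersetCard.stabilizer_coe s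
  rw [e]
  have hc : ((s : Finset (Fin n)) : Set (Fin n)).ncard = k := by
    rw [Set.ncard_coe_finset]; exact s.2
  have hcn := Set.ncard_add_ncard_compl ((s : Finset (Fin n)) : Set (Fin n))
  rw [hc, Nat.card_eq_fintype_card, Fintype.card_fin] at hcn
  apply alternatingGroup.isCoatom_stabilizer
  · rw [← Set.ncard_pos, hc]; exact hk
  · rw [← Set.ncard_pos]; omega
  · rw [hc, Nat.card_eq_fintype_card, Fintype.card_fin]
    exact h2

theorem autInv_stab (hn : 7 ≤ n) {k : ℕ} (s : Set.powersetCard (Fin n) k) :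
    AutInv (stabilizer (alternatingGroup (Fin n)) s) := by
  have h3 : 3 ≤ Nat.card (Fin n) := by rw [Nat.card_eq_fintype_card, Fintype.card_fin]; omega
  have htr := Set.powersetCard.isPretransitive_alternatingGroup (α := Fin n) (n := k) h3
  intro α
  obtain ⟨σ, hσ⟩ := (S2119.result n (by omega) (by omega)).2 α
  obtain ⟨g, hg⟩ := htr.exists_smul_eq s (σ • s)
  refine ⟨g, ?_⟩
  have hco : ∀ (x : alternatingGroup (Fin n)) (t : Set.powersetCard (Fin n) k), x • t = (x : Equiv.Perm (Fin n)) • t :=
    fun x t => rfl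
  ext x
  rw [mem_map_conj]
  have h1 : x ∈ (stabilizer (alternatingGroup (Fin n)) s).map α.toMonoidHom ↔
      α.symm x ∈ stabilizer (alternatingGroup (Fin n)) s := by
    constructor
    · rintro ⟨y, hy, rfl⟩
      show α.symm (α y) ∈ _
      rw [α.symm_apply_apply]
      exact hy
    · intro h
      exact ⟨α.symm x, h, α.apply_symm_apply x⟩
  have h2 : ((α.symm x : alternatingGroup (Fin n)) : Equiv.Perm (Fin n)) = σ⁻¹ * x * σ := by
    have h4 : α (α.symm x) = x := α.apply_symm_apply x
    have h5 : ((α (α.symm x) : alternatingGroup (Fin n)) : Equiv.Perm (Fin n)) =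
        σ * (α.symm x : alternatingGroup (Fin n)) * σ⁻¹ := by
      rw [← hσ]
      rfl
    rw [h4] at h5
    rw [h5]
    group
  rw [h1, mem_stabilizer_iff, mem_stabilizer_iff, hco, hco (α.symm x), h2]
  rw [hco] at hg
  have e1 : ((g⁻¹ * x * g : alternatingGroup (Fin n)) : Equiv.Perm (Fin n)) =
      (g : Equiv.Perm (Fin n))⁻¹ * (x : Equiv.Perm (Fin n)) * (g : Equiv.Perm (Fin n)) := rfl
  rw [e1, mul_smul, mul_smul, mul_smul, mul_smul, hg, inv_smul_eq_iff, inv_smul_eq_iff, hg]

theorem exists_set {k : ℕ} (hk : k ≤ n) : Nonempty (Set.powersetCard (Fin n) k) := by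
  obtain ⟨s, -, hs⟩ := Finset.exists_subset_card_eq (s := (Finset.univ : Finset (Fin n))) (n := k)
    (by rw [Finset.card_univ, Fintype.card_fin]; exact hk)
  exact ⟨⟨s, hs⟩⟩

theorem sepInv_alt (hn : 7 ≤ n) : SepInv 3 (alternatingGroup (Fin n)) := by
  have hex : ∀ i : Fin 3, Nonempty (Set.powersetCard (Fin n) ((i : ℕ) + 1)) := fun i =>
    exists_set (by have := i.2; omega)
  let s : ∀ i : Fin 3, Set.powersetCard (Fin n) ((i : ℕ) + 1) := fun i => (hex i).some
  have hco : ∀ i : Fin 3, IsCoatom (stabilizer (alternatingGroup (Fin n)) (s i)) := fun i =>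
    isCoatom_stab (by omega) (by have := i.2; omega) (by have := i.2; omega) _
  have hidx : ∀ i : Fin 3, (stabilizer (alternatingGroup (Fin n)) (s i)).index = n.choose ((i : ℕ) + 1) := fun i =>
    index_stab (by omega) _
  have h1 : n.choose 1 = n := Nat.choose_one_right n
  have h2 : n.choose 2 * 2 = n * (n - 1) := by
    rw [Nat.choose_two_right]
    exact Nat.div_mul_cancel (Nat.even_mul_pred_self n).two_dvd
  have h3 : n.choose 3 * 3 = n.choose 2 * (n - 2) := Nat.choose_succ_right_eq n 2
  have hinj : ∀ i j : Fin 3, n.choose ((i : ℕ) + 1) = n.choose ((j : ℕ) + 1) → i = j := by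
    have l12 : n.choose 1 < n.choose 2 := by
      rw [h1]
      have : n * 6 ≤ n * (n - 1) := Nat.mul_le_mul_left _ (by omega)
      omega
    have l23 : n.choose 2 < n.choose 3 := by
      have : n.choose 2 * 5 ≤ n.choose 2 * (n - 2) := Nat.mul_le_mul_left _ (by omega)
      omega
    intro i j h
    fin_cases i <;> fin_cases j <;> simp at h ⊢ <;> omega
  refine ⟨fun i => stabilizer (alternatingGroup (Fin n)) (s i), fun i => ⟨(hco i).1, fun hb => ?_, autInv_stab hn _⟩, ?_⟩
  · -- if trivial, then the group has prime order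
    have h4 := hidx i
    have hb' : stabilizer (alternatingGroup (Fin n)) (s i) = ⊥ := hb
    rw [hb', Subgroup.index_bot] at h4
    have h5 := hco i
    rw [hb'] at h5
    have h6 : ∀ j : Fin 3, n.choose ((j : ℕ) + 1) ≤ Nat.card (alternatingGroup (Fin n)) := fun j => by
      rw [← hidx j]
      exact Nat.le_of_dvd Nat.card_pos (Subgroup.index_dvd_card _)
    have h7 : ∀ j : Fin 3, n.choose ((j : ℕ) + 1) = Nat.card (alternatingGroup (Fin n)) → j = i := fun j hj =>
      hinj j i (hj.trans h4)
    obtain ⟨j, hj⟩ : ∃ j : Fin 3, j ≠ i := exists_ne i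
    have h8 : stabilizer (alternatingGroup (Fin n)) (s j) ≠ ⊥ := by
      intro h9
      apply hj
      apply h7
      rw [← hidx j, h9, Subgroup.index_bot]
    exact (hco j).1 (h5.2 _ (bot_lt_iff_ne_bot.2 h8))
  · intro i j hij H hi g hj
    by_contra hH
    have e1 : stabilizer (alternatingGroup (Fin n)) (s i) = H := by
      by_contra hne
      exact hH ((hco i).2 _ (lt_of_le_of_ne hi hne))
    have hcj : IsCoatom ((stabilizer (alternatingGroup (Fin n)) (s j)).map (MulAut.conj g).toMonoidHom) :=
      Cj.isCoatom ⟨g, rfl⟩ (hco j)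
    have e2 : (stabilizer (alternatingGroup (Fin n)) (s j)).map (MulAut.conj g).toMonoidHom = H := by
      by_contra hne
      exact hH (hcj.2 _ (lt_of_le_of_ne hj hne))
    apply hij
    apply hinj
    rw [← hidx i, ← hidx j, e1, ← e2]
    exact Subgroup.index_map_of_bijective (f := (MulAut.conj g).toMonoidHom) (MulAut.conj g).bijective _

/-- **the row `A_n`** -/
theorem supp_alt (hn : 7 ≤ n) : Supp.{u} 3 (alternatingGroup (Fin n)) :=
  (sepInv_alt hn).supp (alternatingGroup.isSimpleGroup (by rw [Nat.card_eq_fintype_card, Fintype.card_fin]; omega))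

end Cfsg.Agent.H339.RowAlt
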