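import Cfsg.Agent.H339.RowPsl

/-!
# Row `L₂(7)` of S5907 (helper339)
-/

set_option autoImplicit false
set_option linter.unusedSectionVars false

namespace Cfsg.Agent.H339.RowPsl

open Subgroup Cfsg.Agent.H339.MaxCl Cfsg.Agent.ClassicalGeometry Cfsg.Agent.LieClassical.SLTwoUnipotent
open Cfsg.Agent.ClassicalGeometry.AutPSL.Auto Cfsg.Agent.ClassicalGeometry.AutPSL.Main Cfsg.Agent.ClassicalGeometry.AutPSL.Root

universe u v

section aut

variable {F : Type v} [Field F] [Fintype F]

theorem ker_Psi : (H199.PslAut.Psi 2 F).ker = Subgroup.center (GL (Fin 2) F) := by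
  ext C
  rw [MonoidHom.mem_ker]
  constructor
  · intro h
    have h1 : lift (cj C * fld (1 : F ≃+* F)) = lift (fld (1 : F ≃+* F)) := by
      rw [map_one, mul_one, map_one]
      exact h
    obtain ⟨⟨r, hr⟩, -⟩ := injective_aux h1
    rw [Subgroup.mem_center_iff]
    intro g
    apply Units.ext
    change g.1 * (C : Matrix (Fin 2) (Fin 2) F) = (C : Matrix (Fin 2) (Fin 2) F) * g.1
    rw [← hr]
    exact (Matrix.scalar_commute (n := Fin 2) r (Commute.all r) g.1).symm
  · intro h
    rw [Matrix.GeneralLinearGroup.center_eq_range_scalar] at h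
    obtain ⟨r, rfl⟩ := h
    have h2 : cj (Matrix.GeneralLinearGroup.scalar (Fin 2) r) = 1 :=
      cj_eq_one_of_scalar (r := (r : F)) rfl
    show lift (cj (Matrix.GeneralLinearGroup.scalar (Fin 2) r)) = 1
    rw [h2, map_one]

theorem surj_Psi (p : ℕ) [Fact p.Prime] (hF : Fintype.card F = p) : Function.Surjective (H199.PslAut.Psi 2 F) := by
  have hsub : Subsingleton (F ≃+* F) := by
    have h1 := Lib.FieldAutCard.card_ringAut (F := F) (p := p) (f := 1) le_rfl (by rw [hF, pow_one])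
    exact (Nat.card_eq_one_iff_unique.1 h1).1
  have hchar : CharP F p := by
    obtain ⟨q, hq⟩ := CharP.exists F
    obtain ⟨n, hqp, hn⟩ := FiniteField.card F q
    have hpp : p.Prime := Fact.out
    have : q ∣ p := by
      rw [← hF, hn]
      exact dvd_pow_self q n.pos.ne'
    rw [(Nat.prime_dvd_prime_iff_eq hqp hpp).1 this] at hq
    exact hq
  intro α
  obtain ⟨A, σ, h⟩ := surj_two p α
  refine ⟨A, ?_⟩
  rw [h, Subsingleton.elim σ 1, map_one, mul_one]
  rfl

/-- `PGL₂(p)` is the automorphism group -/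
noncomputable def eP (p : ℕ) [Fact p.Prime] (hF : Fintype.card F = p) :
    Matrix.ProjGenLinGroup (Fin 2) F ≃* MulAut (Matrix.ProjectiveSpecialLinearGroup (Fin 2) F) :=
  (QuotientGroup.quotientMulEquivOfEq (ker_Psi (F := F)).symm).trans
    (QuotientGroup.quotientKerEquivOfSurjective _ (surj_Psi p hF))

theorem eP_mk (p : ℕ) [Fact p.Prime] (hF : Fintype.card F = p) (g : GL (Fin 2) F) :
    eP p hF (Matrix.ProjGenLinGroup.mk g) = H199.PslAut.Psi 2 F g := rfl

theorem exists_equiv (p : ℕ) [Fact p.Prime] (hp2 : p ≠ 2) (hF : Fintype.card F = p) {X : Type u} [Group X] [Finite X]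
    (S : Subgroup X) [S.Normal] (f : ↥S ≃* Matrix.ProjectiveSpecialLinearGroup (Fin 2) F)
    (hC : centralizer (S : Set X) = ⊥) (hne : S ≠ ⊤) :
    ∃ e : X ≃* Matrix.ProjGenLinGroup (Fin 2) F,
      S.map e.toMonoidHom ≤ (Matrix.ProjGenLinGroup.mk.comp Matrix.SpecialLinearGroup.toGL).range := by
  have hfinA : Finite (MulAut (Matrix.ProjectiveSpecialLinearGroup (Fin 2) F)) :=
    Finite.of_injective (fun a x => a x) fun a b h => MulEquiv.ext (congrFun h)
  let φ : X →* MulAut (Matrix.ProjectiveSpecialLinearGroup (Fin 2) F) :=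
    (MulAut.congr f).toMonoidHom.comp (MulAut.conjNormal (H := S))
  have hφ : ∀ (x : X) (y : Matrix.ProjectiveSpecialLinearGroup (Fin 2) F),
      φ x y = f (MulAut.conjNormal x (f.symm y)) := fun x y => rfl
  have hinj : Function.Injective φ := by
    rw [← MonoidHom.ker_eq_bot_iff, eq_bot_iff, ← hC]
    intro x hx
    rw [MonoidHom.mem_ker] at hx
    rw [mem_centralizer_iff]
    intro s hs
    have h1 := hφ x (f ⟨s, hs⟩)
    rw [hx, f.symm_apply_apply] at h1
    have h2 : (⟨s, hs⟩ : ↥S) = MulAut.conjNormal x ⟨s, hs⟩ := f.injective h1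
    have h3 : s = x * s * x⁻¹ := congrArg Subtype.val h2
    calc s * x = (x * s * x⁻¹) * x := by rw [← h3]
      _ = x * s := by group
  have hcardA : Nat.card (MulAut (Matrix.ProjectiveSpecialLinearGroup (Fin 2) F)) =
      Nat.card (Matrix.ProjGenLinGroup (Fin 2) F) := (Nat.card_congr (eP p hF).toEquiv).symm
  have hcS : Nat.card S = Nat.card (Matrix.ProjectiveSpecialLinearGroup (Fin 2) F) := Nat.card_congr f.toEquiv
  have h2 : Nat.card (Matrix.ProjectiveSpecialLinearGroup (Fin 2) F) * 2 = Nat.card (Matrix.ProjGenLinGroup (Fin 2) F) := by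
    rw [PSL2Basic.card_PGL2, ← PSL2Basic.card_PSL2_gcd, hF]
    congr 1
    have hodd : Odd p := (Fact.out : p.Prime).odd_of_ne_two hp2
    obtain ⟨m, hm⟩ := hodd
    rw [hm, show 2 * m + 1 - 1 = 2 * m by omega]
    simp
  have hle : Nat.card (MulAut (Matrix.ProjectiveSpecialLinearGroup (Fin 2) F)) ≤ Nat.card X := by
    rw [hcardA, ← h2, ← hcS, ← Subgroup.card_mul_index S]
    refine Nat.mul_le_mul_left _ ?_
    have h3 : S.index ≠ 0 := Subgroup.index_ne_zero_of_finite
    have h4 : S.index ≠ 1 := fun h => hne (Subgroup.index_eq_one.1 h)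
    omega
  have hbij : Function.Bijective φ := (Nat.bijective_iff_injective_and_card φ).2
    ⟨hinj, le_antisymm (Nat.card_le_card_of_injective φ hinj) hle⟩
  refine ⟨(MulEquiv.ofBijective φ hbij).trans (eP p hF).symm, ?_⟩
  rintro _ ⟨x, hx, rfl⟩
  obtain ⟨s, hs⟩ : ∃ s : Matrix.SpecialLinearGroup (Fin 2) F, pr s = f ⟨x, hx⟩ := QuotientGroup.mk'_surjective _ _
  refine ⟨s, ?_⟩
  show Matrix.ProjGenLinGroup.mk (s : GL (Fin 2) F) = (eP p hF).symm (φ x)
  rw [MulEquiv.eq_symm_apply, eP_mk, H199.PslAut.Psi_coe, hs]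
  apply MulEquiv.ext
  intro y
  rw [hφ, MulAut.conj_apply]
  have h5 : MulAut.conjNormal x (f.symm y) = (⟨x, hx⟩ : ↥S) * f.symm y * (⟨x, hx⟩ : ↥S)⁻¹ := rfl
  rw [h5, map_mul, map_mul, map_inv, f.apply_symm_apply]

end aut

theorem supp_seven {F : Type v} [Field F] [Fintype F] (h7 : Fintype.card F = 7)
    (hs : IsSimpleGroup (Matrix.ProjectiveSpecialLinearGroup (Fin 2) F)) :
    Supp.{u} 3 (Matrix.ProjectiveSpecialLinearGroup (Fin 2) F) := by
  have hp7 : Fact (Nat.Prime 7) := ⟨by norm_num⟩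
  rintro X _ _ S _ ⟨f⟩ hC hne _ _
  have h1 : IsSimpleGroup ↥S := f.isSimpleGroup
  have h2 : ¬ Group.IsSolvable ↥S := fun h =>
    not_solv hs (Group.isSolvable_of_isSolvable_injective (f := f.symm.toMonoidHom) f.symm.injective)
  obtain ⟨e, he⟩ := exists_equiv 7 (by norm_num) h7 S f hC hne
  have hcG : Nat.card (Matrix.ProjGenLinGroup (Fin 2) F) = 336 := by
    rw [PSL2Basic.card_PGL2, h7]; norm_num
  have hcX : Nat.card X = 336 := by rw [Nat.card_congr e.toEquiv, hcG]
  have hcS : Nat.card S = 168 := by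
    have h3 := PSL2Basic.card_PSL2_gcd (F := F)
    rw [h7] at h3
    have h4 : Nat.gcd 2 (7 - 1) = 2 := by norm_num
    rw [h4] at h3
    rw [Nat.card_congr f.toEquiv]
    omega
  by_contra hcon
  obtain ⟨M, hM, -, hR⟩ := exists_indices h1 h2 (n := 2) (by norm_num) hcon
  have hidx : ∀ i, (M i).index = 8 ∨ (M i).index = 28 ∨ (M i).index = 21 := by
    intro i
    have hco : IsCoatom ((M i).map e.toMonoidHom) := (OrderIso.isCoatom_iff e.mapSubgroup (M i)).2 (hM i).1
    have hL : ¬ (Matrix.ProjGenLinGroup.mk.comp Matrix.SpecialLinearGroup.toGL).range ≤ (M i).map e.toMonoidHom := by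
      intro h
      apply (hM i).2
      intro x hx
      obtain ⟨y, hy, hyx⟩ := h (he ⟨x, hx, rfl⟩)
      have : y = x := e.injective hyx
      rwa [← this]
    have hodd : Odd (Fintype.card F) := by rw [h7]; decide
    have hcm : Nat.card ((M i).map e.toMonoidHom) = Nat.card (M i) := Subgroup.card_map_of_injective e.injective
    have hmul : Nat.card (M i) * (M i).index = 336 := by rw [Subgroup.card_mul_index, hcX]
    rcases S5891.result hodd (by omega) _ hco hL with h | ⟨-, ⟨g⟩⟩ | ⟨⟨g⟩⟩ | ⟨-, h, -⟩ | ⟨F₀, _, _, r, hr, hro, hF0, -⟩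
    · rw [hcm, h7] at h
      rw [h] at hmul
      omega
    · have h3 := Nat.card_congr g.toEquiv
      rw [hcm, DihedralGroup.nat_card, h7] at h3
      rw [h3] at hmul
      omega
    · have h3 := Nat.card_congr g.toEquiv
      rw [hcm, DihedralGroup.nat_card, h7] at h3
      rw [h3] at hmul
      omega
    · omega
    · exfalso
      rw [h7] at hF0
      have h3 : 2 ≤ Fintype.card F₀ := Fintype.one_lt_card
      have h4 : 3 ≤ r := by
        have := hr.two_le
        obtain ⟨m, hm⟩ := hro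
        omega
      have h5 : 2 ^ 3 ≤ Fintype.card F₀ ^ r := (Nat.pow_le_pow_left h3 3).trans (Nat.pow_le_pow_right (by omega) h4)
      omega
  have hr : ∀ r : ℕ, r.Prime → r ∣ 168 → ∃ i : Fin 2, (M i).index % r = 1 := by
    intro r hr hr168
    have := Fact.mk hr
    obtain ⟨i, R, hRi⟩ := hR r (by rw [hcS]; exact hr168)
    have h4 := index_modEq (sup_eq_top_of_coatom (hM i).1 (hM i).2) R hRi
    exact ⟨i, by rw [h4]; exact Nat.mod_eq_of_lt hr.one_lt⟩
  obtain ⟨i2, h2'⟩ := hr 2 (by norm_num) (by norm_num)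
  obtain ⟨i3, h3'⟩ := hr 3 (by norm_num) (by norm_num)
  obtain ⟨i7, h7'⟩ := hr 7 (by norm_num) (by norm_num)
  have k2 : (M i2).index = 21 := by rcases hidx i2 with h | h | h <;> omega
  have k3 : (M i3).index = 28 := by rcases hidx i3 with h | h | h <;> omega
  have k7 : (M i7).index = 8 := by rcases hidx i7 with h | h | h <;> omega
  have n1 : i2 ≠ i3 := by rintro rfl; omega
  have n2 : i2 ≠ i7 := by rintro rfl; omega
  have n3 : i3 ≠ i7 := by rintro rfl; omega
  omega

/-- **the row `L₂(q)`** -/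
theorem supp_psl2 {F : Type v} [Field F] [Fintype F] (h4 : 4 ≤ Fintype.card F)
    (hs : IsSimpleGroup (Matrix.ProjectiveSpecialLinearGroup (Fin 2) F)) :
    Supp.{u} 3 (Matrix.ProjectiveSpecialLinearGroup (Fin 2) F) := by
  by_cases h7 : Fintype.card F = 7
  · exact supp_seven h7 hs
  · exact supp_ne_seven h4 h7 hs

end Cfsg.Agent.H339.RowPsl
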