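import Cfsg.Prelude.Def_Classification2
import Cfsg.Agent.H938.Rank
import Cfsg.Agent.H339.RowPslSeven
import Cfsg.Agent.H339.RowAlt
import Cfsg.Agent.H288.BnWitt
import Cfsg.Agent.H288.BnPsl
import Cfsg.Agent.H288.BnTwF
import Cfsg.Agent.H288.BnTwD
import Cfsg.Agent.S0252
import Cfsg.Agent.S0254

/-!
# `Supp 3 K` for the known simple groups, up to `G₂`, Suzuki, Ree, Tits and sporadic groups (helper339, S5907)
-/

set_option autoImplicit false
set_option linter.unusedSectionVars false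

namespace Cfsg.Agent.H339.RowKnown

open Cfsg Cfsg.Agent.H339.MaxCl
open CoxeterSystem Cfsg.Agent.ChevalleyStructure.CoxeterGeom Cfsg.Agent.Tits.Roots Cfsg.Agent.Tits.Core
  Cfsg.Agent.Nodes.Comb Cfsg.Agent.Nodes.Reps Cfsg.Agent.Nodes.BNOf Cfsg.Agent.FixBN
  Cfsg.Agent.Nodes.RGDLib Cfsg.Agent.Nodes.RGDChev Cfsg.Agent.LieRecognition.BNCox
  Cfsg.Agent.TitsThree Cfsg.Agent.Omega.ML.Ex.Typ

universe u v

section

variable {G : Type v} [Group G] [Finite G] [IsSimpleGroup G]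

/-- a known simple group of large rank -/
theorem big (hnc : ∃ a b : G, a * b ≠ b * a) (hG : IsKnownSimple' G) :
    Supp.{u} 3 G ∨ IsAlternating G ∨ H938.SmallRank G ∨ IsSporadicGroup G := by
  have sB : ∀ {p l : ℕ} {M : CoxeterMatrix (Fin l)}, p.Prime → HasRGDT p M G → 3 ≤ l → Supp.{u} 3 G := by
    intro p l M hp h hl
    have : Fact p.Prime := ⟨hp⟩
    exact H288.BnRgd.supp_three hnc h hl
  rcases hG with h | h | h | h | h | h | h | h | h | h
  · exfalso
    have : Fact (Nat.card G).Prime := ⟨h⟩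
    have hc : IsCyclic G := isCyclic_of_prime_card rfl
    obtain ⟨a, b, hab⟩ := hnc
    exact hab ((IsCyclic.isMulCommutative (α := G)).is_comm.comm a b)
  · exact Or.inr (Or.inl h)
  · -- PSL
    obtain ⟨F, i1, i2, n, hn, h23, ⟨e⟩⟩ := h
    obtain ⟨r, hr, hc⟩ := H938.exists_char F
    have : Fact r.Prime := ⟨hr⟩
    rcases Nat.lt_or_ge n 4 with h4 | h4
    · refine Or.inr (Or.inr (Or.inl ?_))
      interval_cases n
      · refine Or.inl ⟨F, i1, i2, ?_, ⟨e⟩⟩
        exact h23 rfl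
      · exact Or.inr (Or.inl ⟨F, i1, i2, ⟨e⟩⟩)
    · obtain ⟨n, rfl⟩ : ∃ k, n = k + 1 := ⟨n - 1, by omega⟩
      exact Or.inl (sB hr ((typ_PSL n).of_equiv e.symm) (by omega))
  · -- PSp
    obtain ⟨F, i1, i2, m, hm, h2, ⟨e⟩⟩ := h
    obtain ⟨r, hr, hc⟩ := H938.exists_char F
    have : Fact r.Prime := ⟨hr⟩
    rcases Nat.eq_or_lt_of_le hm with rfl | h3
    · exact Or.inr (Or.inr (Or.inl (Or.inr (Or.inr (Or.inl ⟨F, i1, i2, h2 rfl, ⟨e⟩⟩)))))
    · exact Or.inl (sB hr ((typ_PSp (by omega)).of_equiv e.symm) (by omega))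
  · -- PSU
    obtain ⟨F, i1, i2, n, q, hF, hn, hq, ⟨e⟩⟩ := h
    obtain ⟨r, hr, hc⟩ := H938.exists_char F
    have : Fact r.Prime := ⟨hr⟩
    rcases Nat.lt_or_ge n 6 with h6 | h6
    · refine Or.inr (Or.inr (Or.inl ?_))
      interval_cases n
      · exact Or.inr (Or.inr (Or.inr (Or.inl ⟨F, i1, i2, q, hF, fun h => hq ⟨rfl, h⟩, ⟨e⟩⟩)))
      · exact Or.inr (Or.inr (Or.inr (Or.inr (Or.inl ⟨F, i1, i2, q, hF, ⟨e⟩⟩))))
      · exact Or.inr (Or.inr (Or.inr (Or.inr (Or.inr (Or.inl ⟨F, i1, i2, q, hF, ⟨e⟩⟩)))))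
    · obtain ⟨m, hm, h⟩ := typ_PSU (p := r) hF hn
      exact Or.inl (sB hr (h.of_equiv e.symm) (by omega))
  · -- odd orthogonal
    obtain ⟨F, i1, i2, m, hm, hodd, ⟨e⟩⟩ := h
    obtain ⟨r, hr, hc⟩ := H938.exists_char F
    have : Fact r.Prime := ⟨hr⟩
    have h2 : (2 : F) ≠ 0 := by
      intro h2
      have h3 : CharP F 2 := CharTwo.of_one_ne_zero_of_two_eq_zero one_ne_zero h2
      obtain ⟨k, -, hk⟩ := FiniteField.card F 2
      rw [hk] at hodd
      exact absurd hodd (by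
        rw [Nat.not_odd_iff_even]
        exact (even_two).pow_of_ne_zero k.ne_zero)
    exact Or.inl (sB hr ((H938.typ_PO_odd h2 (by omega)).of_equiv e.symm) hm)
  · obtain ⟨F, i1, i2, m, hm, ⟨e⟩⟩ := h
    obtain ⟨r, hr, hc⟩ := H938.exists_char F
    have : Fact r.Prime := ⟨hr⟩
    obtain ⟨n, rfl⟩ : ∃ n, m = n + 3 := ⟨m - 3, by omega⟩
    exact Or.inl (sB hr ((typ_PO_plus n).of_equiv e.symm) (by omega))
  · obtain ⟨F, i1, i2, m, a, b, hm, hab, ⟨e⟩⟩ := h
    obtain ⟨r, hr, hc⟩ := H938.exists_char F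
    have : Fact r.Prime := ⟨hr⟩
    exact Or.inl (sB hr ((typ_PO_minus hab (by omega)).of_equiv e.symm) (by omega))
  · -- exceptional
    have key : ∀ {D : Lie.ChevalleyDatum} {l : ℕ} {M : CoxeterMatrix (Fin l)}, IsType D l M → 3 ≤ l →
        D.IsGroupOver G → Supp.{u} 3 G := by
      intro D l M hp hl h
      obtain ⟨F, i1, i2, ⟨e⟩⟩ := h
      obtain ⟨r, hr, hc⟩ := H938.exists_char F
      exact sB hr ((typ_group hp F r).of_equiv e.symm) hl
    rcases h with h | h | h | h | h | h | h | h | h | h | h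
    · exact Or.inr (Or.inr (Or.inl (Or.inr (Or.inr (Or.inr (Or.inr (Or.inr (Or.inr (Or.inl h)))))))))
    · exact Or.inl (key (l := 4) (M := CoxeterMatrix.F₄) (by simp [IsType, typeList]) (by norm_num) h)
    · exact Or.inl (key (l := 6) (M := CoxeterMatrix.E₆) (by simp [IsType, typeList]) (by norm_num) h)
    · exact Or.inl (key (l := 7) (M := CoxeterMatrix.E₇) (by simp [IsType, typeList]) (by norm_num) h)
    · exact Or.inl (key (l := 8) (M := CoxeterMatrix.E₈) (by simp [IsType, typeList]) (by norm_num) h)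
    · obtain ⟨K, i1, i2, q, hq, hK, ⟨e⟩⟩ := h
      obtain ⟨r, hr, hc⟩ := H938.exists_char K
      exact Or.inl (sB hr ((typ_twE6 hq hK r).of_equiv e.symm) (by norm_num))
    · exact Or.inr (Or.inr (Or.inl (Or.inr (Or.inr (Or.inr (Or.inr (Or.inr (Or.inr (Or.inr (Or.inl h))))))))))
    · exact Or.inr (Or.inr (Or.inl (Or.inr (Or.inr (Or.inr (Or.inr (Or.inr (Or.inr (Or.inr (Or.inr
        (Or.inl h)))))))))))
    · exact Or.inr (Or.inr (Or.inl (Or.inr (Or.inr (Or.inr (Or.inr (Or.inr (Or.inr (Or.inr (Or.inr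
        (Or.inr (Or.inl h))))))))))))
    · exact Or.inr (Or.inr (Or.inl (Or.inr (Or.inr (Or.inr (Or.inr (Or.inr (Or.inr (Or.inr (Or.inr
        (Or.inr (Or.inr (Or.inl h)))))))))))))
    · exact Or.inr (Or.inr (Or.inl (Or.inr (Or.inr (Or.inr (Or.inr (Or.inr (Or.inr (Or.inr (Or.inr
        (Or.inr (Or.inr (Or.inr h)))))))))))))
  · exact Or.inr (Or.inr (Or.inr h))

end

/-- the groups not treated here -/
structure Rem (G : Type v) [Group G] : Prop where
  g2 : Lie.IsoChevG2 G → Supp.{u} 3 G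
  sz : Lie.IsoSuzuki G → Supp.{u} 3 G
  ree : Lie.IsoRee G → Supp.{u} 3 G
  tits : Lie.IsoTits G → Supp.{u} 3 G
  spor : IsSporadicGroup G → Supp.{u} 3 G

theorem supp_known {G : Type v} [Group G] [Finite G] (hs : IsSimpleGroup G) (hns : ¬ Group.IsSolvable G)
    (hG : IsKnownSimple' G) (R : Rem.{u} G) : Supp.{u} 3 G := by
  have hnc : ∃ a b : G, a * b ≠ b * a := by
    by_contra hcon
    push Not at hcon
    exact hns (IsSimpleGroup.comm_iff_isSolvable.mp hcon)
  have tr : ∀ {M : Type} [Group M] (e : G ≃* M), ¬ Group.IsSolvable M := fun {M} _ e h =>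
    hns (Group.isSolvable_of_isSolvable_injective (f := e.toMonoidHom) e.injective)
  rcases big.{u} hnc hG with h | h | h | h
  · exact h
  · obtain ⟨n, hn, ⟨e⟩⟩ := h
    rcases Nat.lt_or_ge n 7 with h7 | h7
    · have : n = 5 ∨ n = 6 := by omega
      rcases this with rfl | rfl
      · obtain ⟨F, i1, i2, hF⟩ : ∃ (F : Type) (_ : Field F) (_ : Fintype F), Fintype.card F = 4 := by
          have : Fact (Nat.Prime 2) := ⟨Nat.prime_two⟩
          letI : Fintype (GaloisField 2 2) := Fintype.ofFinite _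
          exact ⟨GaloisField 2 2, inferInstance, inferInstance, by
            rw [← Nat.card_eq_fintype_card, GaloisField.card 2 2 (by norm_num)]; norm_num⟩
        obtain ⟨f⟩ := S0252.result hF
        exact (RowPsl.supp_psl2 (by omega) ((e.trans f.symm).symm.isSimpleGroup)).congr (e.trans f.symm).symm
      · obtain ⟨F, i1, i2, hF⟩ : ∃ (F : Type) (_ : Field F) (_ : Fintype F), Fintype.card F = 9 := by
          have : Fact (Nat.Prime 3) := ⟨Nat.prime_three⟩
          letI : Fintype (GaloisField 3 2) := Fintype.ofFinite _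
          exact ⟨GaloisField 3 2, inferInstance, inferInstance, by
            rw [← Nat.card_eq_fintype_card, GaloisField.card 3 2 (by norm_num)]; norm_num⟩
        obtain ⟨f⟩ := S0254.result hF
        exact (RowPsl.supp_psl2 (by omega) ((e.trans f.symm).symm.isSimpleGroup)).congr (e.trans f.symm).symm
    · exact (RowAlt.supp_alt h7).congr e.symm
  · rcases h with ⟨F, i1, i2, h4, ⟨e⟩⟩ | ⟨F, i1, i2, ⟨e⟩⟩ | ⟨F, i1, i2, h3, ⟨e⟩⟩ | ⟨F, i1, i2, q, hF, hq, ⟨e⟩⟩ |
      ⟨F, i1, i2, q, hF, ⟨e⟩⟩ | ⟨F, i1, i2, q, hF, ⟨e⟩⟩ | h | h | h | h | h | h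
    · exact (RowPsl.supp_psl2 h4 (e.symm.isSimpleGroup)).congr e.symm
    · exact (H288.BnPsl.supp_PSL3 (tr e)).congr e.symm
    · have hs' : IsSimpleGroup (PSp 2 F) := e.symm.isSimpleGroup
      by_cases h2 : (2 : F) = 0
      · have hc : CharP F 2 := CharTwo.of_one_ne_zero_of_two_eq_zero one_ne_zero h2
        have h4 : 4 ≤ Fintype.card F := by
          obtain ⟨n, -, hn⟩ := FiniteField.card F 2
          rcases Nat.lt_or_ge (n : ℕ) 2 with h5 | h5
          · have h6 : (n : ℕ) ≤ 1 := by omega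
            have h8 : 2 ^ (n : ℕ) ≤ 2 ^ 1 := Nat.pow_le_pow_right (by norm_num) h6
            omega
          · have h8 : 2 ^ 2 ≤ 2 ^ (n : ℕ) := Nat.pow_le_pow_right (by norm_num) h5
            omega
        exact (H288.BnSp.supp_PSp4_even h4 (tr e)).congr e.symm
      · exact (H288.BnWitt.supp_PSp4 h2 hs').congr e.symm
    · have hs' : IsSimpleGroup (PSU 3 F q) := e.symm.isSimpleGroup
      have hq2 : 2 < q := by
        have h6 : 1 < Fintype.card F := Fintype.one_lt_card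
        have h8 : q ≠ 0 := by rintro rfl; rw [hF] at h6; norm_num at h6
        have h9 : q ≠ 1 := by rintro rfl; rw [hF] at h6; norm_num at h6
        omega
      exact (H288.BnNum.supp_PSU3 hF hq2 (tr e)).congr e.symm
    · exact (H288.BnWitt.supp_PSU4 hF (e.symm.isSimpleGroup)).congr e.symm
    · exact (H288.BnWitt.supp_PSU5 hF (e.symm.isSimpleGroup)).congr e.symm
    · exact R.g2 h
    · obtain ⟨K, i1, i2, q, hq, hK, ⟨e⟩⟩ := h
      have hs' : IsSimpleGroup ↥(Lie.twistedD4 K q) := e.symm.isSimpleGroup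
      exact (H288.BnTwD.supp_twD4 hq hK).congr e.symm
    · exact R.sz h
    · exact R.ree h
    · obtain ⟨K, i1, i2, m, hm, hK, ⟨e⟩⟩ := h
      have hs' : IsSimpleGroup ↥(Lie.twistedF4 K (2 ^ m)) := e.symm.isSimpleGroup
      exact (H288.BnTwF.supp_twF4 hm hK).congr e.symm
    · exact R.tits h
  · exact R.spor h

end Cfsg.Agent.H339.RowKnown
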