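import Cfsg.Agent.H339.MaxOne
import Cfsg.Agent.H436.TTPsl2
import Cfsg.Agent.H260.Psl
import Cfsg.Agent.H669.SlTwoE
import Cfsg.Agent.H199.PslAut
import Cfsg.Agent.S0806
import Cfsg.Agent.S5891

/-!
# Row `L₂(q)` of S5907 (helper339)

`supp_psl2` : `Supp 3 (PSL₂(F))` for `4 ≤ |F|`.
-/

set_option autoImplicit false
set_option linter.unusedSectionVars false

namespace Cfsg.Agent.H339.RowPsl

open Subgroup Cfsg.Agent.H339.MaxCl Cfsg.Agent.ClassicalGeometry Cfsg.Agent.LieClassical.SLTwoUnipotent

universe u v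

variable {F : Type v} [Field F] [Fintype F]

theorem uni_eq (b : F) : SL2Borel.uni b = u b := by
  apply SL2Line.sl_ext <;> simp [SL2Borel.uni, SL2Line.mk_00, SL2Line.mk_01, SL2Line.mk_10, SL2Line.mk_11, coe_u]

theorem isCoatom_norm (p : ℕ) [Fact p.Prime] [CharP F p] :
    IsCoatom (normalizer ((H260.Psl.P₀ F p : Subgroup (Matrix.ProjectiveSpecialLinearGroup (Fin 2) F)) :
      Set (Matrix.ProjectiveSpecialLinearGroup (Fin 2) F))) := by
  classical
  refine ⟨fun h => ?_, fun H hH => ?_⟩
  · have h1 := H436.TT.index_normalizer (F := F) p (H260.Psl.P₀ F p)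
    rw [h, Subgroup.index_top] at h1
    have := Fintype.card_pos (α := F)
    omega
  · have h1 : ∀ b : F, SL2Borel.uni b ∈ H.comap (H260.Psl.pr F) := by
      intro b
      rw [mem_comap, uni_eq]
      exact hH.le (Subgroup.le_normalizer ((H260.Psl.mem_P₀ p _).2 ⟨b, rfl⟩))
    rcases MinIndexPSL2.eq_top_or _ h1 with h2 | h2
    · rw [eq_top_iff]
      intro x _
      obtain ⟨y, rfl⟩ := H260.Psl.pr_surj x
      have : y ∈ H.comap (H260.Psl.pr F) := by rw [h2]; exact mem_top _
      exact this
    · exfalso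
      apply hH.not_ge
      intro x hx
      obtain ⟨y, rfl⟩ := H260.Psl.pr_surj x
      have h3 := h2 y hx
      have h4 : y ∈ normalizer (upperUnipSL F : Set (Matrix.SpecialLinearGroup (Fin 2) F)) := by
        rw [mem_normalizer_upperUnipSL_iff]
        exact h3
      exact Subgroup.le_normalizer_map (H260.Psl.pr F) (mem_map_of_mem _ h4)

theorem not_solv (hs : IsSimpleGroup (Matrix.ProjectiveSpecialLinearGroup (Fin 2) F)) :
    ¬ Group.IsSolvable (Matrix.ProjectiveSpecialLinearGroup (Fin 2) F) := by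
  intro h
  obtain ⟨p, hpc⟩ := CharP.exists F
  obtain ⟨f, hp, hF⟩ := FiniteField.card F p
  have : Fact p.Prime := ⟨hp⟩
  have h1 : IsMulCommutative (Matrix.ProjectiveSpecialLinearGroup (Fin 2) F) :=
    ⟨⟨IsSimpleGroup.comm_iff_isSolvable.mpr h⟩⟩
  apply (isCoatom_norm (F := F) p).1
  rw [eq_top_iff]
  intro x _
  rw [mem_normalizer_iff]
  intro y
  have e : x * y * x⁻¹ = y := by rw [mul_comm' x y]; group
  rw [e]

/-- all `q` but `7` -/
theorem supp_ne_seven (h4 : 4 ≤ Fintype.card F) (h7 : Fintype.card F ≠ 7)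
    (hs : IsSimpleGroup (Matrix.ProjectiveSpecialLinearGroup (Fin 2) F)) :
    Supp.{u} 3 (Matrix.ProjectiveSpecialLinearGroup (Fin 2) F) := by
  obtain ⟨p, hpc⟩ := CharP.exists F
  obtain ⟨f, hp, hF⟩ := FiniteField.card F p
  have : Fact p.Prime := ⟨hp⟩
  have hcP := H260.Psl.card_P₀ (F := F) p
  have hcard := PSL2Basic.card_PSL2_gcd (F := F)
  have hidx := H436.TT.index_normalizer (F := F) p (H260.Psl.P₀ F p)
  refine supp_rank_one' hs (not_solv hs) ?_ (H260.Psl.P₀ F p) (isCoatom_norm p) ?_ ?_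
  · have h1 : p ∣ Nat.card (H260.Psl.P₀ F p) := by
      rw [hcP, hF]
      exact dvd_pow_self p f.pos.ne'
    exact h1.trans (Subgroup.card_subgroup_dvd_card _)
  · rw [hidx, hcP]
  · intro k hk hkP hH
    rw [hcP] at hkP
    have hle : p ^ k ≤ Fintype.card F := Nat.le_of_dvd (by omega) hkP
    have h1k : 1 < p ^ k := Nat.one_lt_pow (by omega) hp.one_lt
    obtain ⟨H, hH⟩ := hH
    by_cases hq : Fintype.card F ∈ ({2, 3, 5, 7, 9, 11} : Finset ℕ)
    · simp only [Finset.mem_insert, Finset.mem_singleton] at hq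
      have hq' : Fintype.card F = 5 ∨ Fintype.card F = 9 ∨ Fintype.card F = 11 := by omega
      have hpk : ∀ (ℓ j : ℕ), ℓ.Prime → Fintype.card F = ℓ ^ j → p = ℓ := by
        intro ℓ j hℓ h
        rw [hF] at h
        have h5 : p ∣ ℓ ^ j := by rw [← h]; exact dvd_pow_self p f.pos.ne'
        exact (Nat.prime_dvd_prime_iff_eq hp hℓ).1 (hp.dvd_of_dvd_pow h5)
      rcases hq' with h | h | h
      · have hp5 := hpk 5 1 (by norm_num) (by rw [h]; norm_num)
        rw [h] at hcard hkP
        have h6 : Nat.card (Matrix.ProjectiveSpecialLinearGroup (Fin 2) F) = 60 := by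
          have : Nat.gcd 2 (5 - 1) = 2 := by norm_num
          rw [this] at hcard
          omega
        refine ⟨3, by norm_num, by rw [hp5]; norm_num, by rw [h6]; norm_num, ?_⟩
        have h7 : p ^ k ≤ 5 := Nat.le_of_dvd (by norm_num) hkP
        rw [hp5] at h7 h1k hkP ⊢
        have h8 : 5 ^ k = 1 ∨ 5 ^ k = 5 := (Nat.dvd_prime (by norm_num)).1 hkP
        rcases h8 with h8 | h8
        · omega
        · rw [h8]; norm_num
      · have hp3 := hpk 3 2 (by norm_num) (by rw [h]; norm_num)
        rw [h] at hcard hkP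
        have h6 : Nat.card (Matrix.ProjectiveSpecialLinearGroup (Fin 2) F) = 360 := by
          have : Nat.gcd 2 (9 - 1) = 2 := by norm_num
          rw [this] at hcard
          omega
        refine ⟨5, by norm_num, by rw [hp3]; norm_num, by rw [h6]; norm_num, ?_⟩
        have h7 : p ^ k ≤ 9 := Nat.le_of_dvd (by norm_num) hkP
        rw [hp3] at h7 h1k hkP ⊢
        have h8 : k ≤ 2 := by
          by_contra hcon
          have : 3 ^ 3 ≤ 3 ^ k := Nat.pow_le_pow_right (by norm_num) (by omega)
          omega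
        interval_cases k
        · norm_num
        · norm_num
      · have hp5 := hpk 11 1 (by norm_num) (by rw [h]; norm_num)
        rw [h] at hcard hkP
        have h6 : Nat.card (Matrix.ProjectiveSpecialLinearGroup (Fin 2) F) = 660 := by
          have : Nat.gcd 2 (11 - 1) = 2 := by norm_num
          rw [this] at hcard
          omega
        refine ⟨3, by norm_num, by rw [hp5]; norm_num, by rw [h6]; norm_num, ?_⟩
        have h7 : p ^ k ≤ 11 := Nat.le_of_dvd (by norm_num) hkP
        rw [hp5] at h7 h1k hkP ⊢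
        have h8 : 11 ^ k = 1 ∨ 11 ^ k = 11 := (Nat.dvd_prime (by norm_num)).1 hkP
        rcases h8 with h8 | h8
        · omega
        · rw [h8]; norm_num
    · exfalso
      have h1 := (S0806.result (F := F) rfl hq).1 H (fun h => by rw [h, Subgroup.index_top] at hH; omega)
      omega

end Cfsg.Agent.H339.RowPsl
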