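import Cfsg.Agent.H339.SupCtx
import Cfsg.Agent.H940.EngLoc
import Cfsg.Agent.H940.EngData
import Cfsg.Agent.H393.Iso.Base

/-!
# Sporadic rows of S5907 by arithmetic (helper339)
-/

set_option autoImplicit false

namespace Cfsg.Agent.H339.RowSpor

open Subgroup Cfsg.Agent.OrdDiv Cfsg.Agent.H339.MaxCl Cfsg.Agent.H339.MaxNum Cfsg.Agent.H940.Eng Cfsg.Agent.H393.Iso

universe u v

theorem not_comm_of_card {K : Type v} [Group K] [Finite K] (hs : IsSimpleGroup K) {n : ℕ} (hn : Nat.card K = n)
    (h : (n % 2 == 0 && !(n == 2)) = true) : ¬ ∀ a b : K, a * b = b * a := by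
  intro hc
  rw [Bool.and_eq_true, beq_iff_eq, Bool.not_eq_true', beq_eq_false_iff_ne] at h
  let _ : CommGroup K := { ‹Group K› with mul_comm := hc }
  have h1 : (Nat.card K).Prime := IsSimpleGroup.prime_card
  rw [hn] at h1
  rcases h1.eq_one_or_self_of_dvd 2 (Nat.dvd_of_mod_eq_zero h.1) with h2 | h2
  · omega
  · exact h.2 h2.symm

theorem not_solv_of_card {K : Type v} [Group K] [Finite K] (hs : IsSimpleGroup K) {n : ℕ} (hn : Nat.card K = n)
    (h : (n % 2 == 0 && !(n == 2)) = true) : ¬ Group.IsSolvable K := by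
  intro hc
  exact not_comm_of_card hs hn h (IsSimpleGroup.comm_iff_isSolvable.mpr hc)

section num

variable {K : Type v} [Group K] [Finite K]

theorem m22 (hs : IsSimpleGroup K) (hn : Nat.card K = 443520) : Supp.{u} 3 K :=
  supp_of_check hs (not_solv_of_card hs hn (by decide)) (l := [(3, 2), (5, 1), (7, 1), (11, 1)]) (b := 11) (a := 7) [] hn
    (by decide +kernel) (by decide +kernel) (by decide +kernel) (by decide +kernel) fun _ => List.not_mem_nil

theorem j3 (hs : IsSimpleGroup K) (hn : Nat.card K = 50232960) : Supp.{u} 3 K :=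
  supp_of_check hs (not_solv_of_card hs hn (by decide)) (l := [(3, 5), (5, 1), (17, 1), (19, 1)]) (b := 19) (a := 7) [] hn
    (by decide +kernel) (by decide +kernel) (by decide +kernel) (by decide +kernel) fun _ => List.not_mem_nil

theorem hs (hs : IsSimpleGroup K) (hn : Nat.card K = 44352000) : Supp.{u} 3 K :=
  supp_of_check hs (not_solv_of_card hs hn (by decide)) (l := [(3, 2), (5, 3), (7, 1), (11, 1)]) (b := 15) (a := 9) [] hn
    (by decide +kernel) (by decide +kernel) (by decide +kernel) (by decide +kernel) fun _ => List.not_mem_nil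

theorem mcl (hs : IsSimpleGroup K) (hn : Nat.card K = 898128000) : Supp.{u} 3 K :=
  supp_of_check hs (not_solv_of_card hs hn (by decide)) (l := [(3, 6), (5, 3), (7, 1), (11, 1)]) (b := 15) (a := 7) [] hn
    (by decide +kernel) (by decide +kernel) (by decide +kernel) (by decide +kernel) fun _ => List.not_mem_nil

theorem fi24 (hs : IsSimpleGroup K) (hn : Nat.card K = 1255205709190661721292800) : Supp.{u} 3 K :=
  supp_of_check hs (not_solv_of_card hs hn (by decide))
    (l := [(3, 16), (5, 2), (7, 3), (11, 1), (13, 1), (17, 1), (23, 1), (29, 1)]) (b := 29) (a := 21) [] hn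
    (by decide +kernel) (by decide +kernel) (by decide +kernel) (by decide +kernel) fun _ => List.not_mem_nil

end num

/-- local data from the primes not adjacent to `r` -/
theorem loc_of_na {G : Type u} [Group G] [Finite G] [IsSimpleGroup G] (hna : ¬ ∀ a b : G, a * b = b * a) {n : ℕ}
    {l : List (ℕ × ℕ)} (hv : valid l n = true) (hn : Nat.card G = n) {r : ℕ} (hr : isPrimeB r = true)
    (h2 : (n % (r ^ 2) != 0) = true) (hrn : (n % r == 0) = true) (hN : NA r G) {C : ℕ} {fN : List (ℕ × ℕ)}
    (hfN : (fN.all fun x => isPrimeB x.1) = true)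
    (hc : cnP n r (l.filter fun x => !([2].contains x.1)) (fun c m => C % c == 0 && (prodl fN) % m == 0) = true) :
    Loc G ⟨r, C, fN⟩ := by
  obtain ⟨R0, hR0⟩ := exists_card_eq (G := G) hr (by
    rw [hn]; exact Nat.dvd_of_mod_eq_zero (by rwa [beq_iff_eq] at hrn))
  have hd : Nat.card (centralizer (R0 : Set G)) ∣ prodl (l.filter fun x => !([2].contains x.1)) := by
    refine dvd_filter hv (by rw [← hn]; exact Subgroup.card_subgroup_dvd_card _) [2] fun p hp => ?_
    rw [List.mem_singleton.1 hp]
    refine not_dvd_cent (prime_of hr) Nat.prime_two hR0 fun y hy hd => ?_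
    have := Fact.mk (prime_of hr)
    obtain ⟨x, hx⟩ := exists_prime_orderOf_dvd_card' r hd
    exact hN x y (by rw [Subgroup.orderOf_coe, hx]) hy (mem_centralizer_singleton_iff.1 x.2)
  refine loc_of_cent hna hn hr h2 ?_ hR0 hd hfN hc
  rw [List.all_eq_true]
  intro x hx
  have h3 := List.mem_of_mem_filter hx
  unfold valid at hv
  rw [Bool.and_eq_true, List.all_eq_true] at hv
  have h4 := hv.1 x h3
  rw [Bool.and_eq_true] at h4
  exact h4.1

/-- local data from a multiple of the orders of the centralizers of the elements of order `r` -/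
theorem loc_of_elt {G : Type u} [Group G] [Finite G] [IsSimpleGroup G] (hna : ¬ ∀ a b : G, a * b = b * a) {n : ℕ}
    (hn : Nat.card G = n) {r : ℕ} (hr : isPrimeB r = true) (h2 : (n % (r ^ 2) != 0) = true) (hrn : (n % r == 0) = true)
    {fC : List (ℕ × ℕ)} (hfC : (fC.all fun x => isPrimeB x.1) = true)
    (hC : ∀ x : G, orderOf x = r → Nat.card (centralizer ({x} : Set G)) ∣ prodl fC) {C : ℕ} {fN : List (ℕ × ℕ)}
    (hfN : (fN.all fun x => isPrimeB x.1) = true)
    (hc : cnP n r fC (fun c m => C % c == 0 && (prodl fN) % m == 0) = true) : Loc G ⟨r, C, fN⟩ := by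
  have := Fact.mk (prime_of hr)
  obtain ⟨x, hx⟩ := exists_prime_orderOf_dvd_card' (G := G) r (by
    rw [hn]; exact Nat.dvd_of_mod_eq_zero (by rwa [beq_iff_eq] at hrn))
  refine loc_of_cent hna hn hr h2 hfC (R0 := zpowers x) (by rw [Nat.card_zpowers, hx]) ?_ hfN hc
  rw [H904.SylOne.centralizer_zpowers_eq]
  exact hC x hx

section loc

variable {K : Type} [Group K] [Finite K]

theorem of_loc (B : Base) (hs : IsSimpleGroup K) {n : ℕ} (hn : Nat.card K = n) (he : (n % 2 == 0 && !(n == 2)) = true)
    {l : List (ℕ × ℕ)} {a b : ℕ} {ords : List ℕ} (ho : Ords.{0} n ords) (hv : valid ((2, a) :: l) n = true)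
    (hnd : (((2, a) :: l).map fun x => x.1).Nodup) {ld : LD} (hl : Loc K ld) (dead : List ℕ)
    (hpos : ((2, a) :: l).all (fun x => Nat.blt 0 x.2) = true) (hb : ¬ n ∣ (b - 1).factorial)
    (hc : check l b a dead = true)
    (hdead : (dead.all fun d => d != 1 && d != 0 && bad ((2, a) :: l) n [] 0 [ld] ords (n / d)) = true) :
    Supp.{u} 3 K := by
  have c : Ctx K ((2, a) :: l) n ords [ld] := ⟨inferInstance, hs, hn, hv, hnd, ho, fun x hx => by
    rw [List.mem_singleton.1 hx]; exact hl⟩
  obtain ⟨_, h⟩ := supp_of_ctx c (not_solv_of_card hs hn he) dead hpos hb hc hdead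
  exact h

theorem m12 (B : Base) (hs : IsSimpleGroup K) (hn : Nat.card K = 95040) (hN : NA 11 K) : Supp.{u} 3 K :=
  of_loc (l := [(3, 3), (5, 1), (11, 1)]) (a := 6) (b := 11) B hs hn (by decide) (D.ords_m12 B) D.v_m12 D.nd_m12
    (ld := ⟨11, 11, [(5, 1), (11, 1)]⟩)
    (loc_of_na (not_comm_of_card hs hn (by decide)) D.v_m12 hn (by decide +kernel) (by decide +kernel) (by decide +kernel)
      hN (by decide +kernel) (by decide +kernel)) [45] (by decide +kernel) (by decide +kernel) (by decide +kernel)
    (by decide +kernel)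

theorem on (B : Base) (hs : IsSimpleGroup K) (hn : Nat.card K = 460815505920) (hN : NA 31 K) : Supp.{u} 3 K :=
  of_loc (l := [(3, 4), (5, 1), (7, 3), (11, 1), (19, 1), (31, 1)]) (a := 9) (b := 31) B hs hn (by decide) (D.ords_opn B)
    D.v_opn D.nd_opn (ld := ⟨31, 900030285, [(2, 1), (3, 4), (5, 1), (7, 3), (11, 1), (19, 1), (31, 1)]⟩)
    (loc_of_na (not_comm_of_card hs hn (by decide)) D.v_opn hn (by decide +kernel) (by decide +kernel) (by decide +kernel)
      hN (by decide +kernel) (by decide +kernel)) [5643] (by decide +kernel) (by decide +kernel) (by decide +kernel)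
    (by decide +kernel)

theorem hn (B : Base) (hs : IsSimpleGroup K) (hn : Nat.card K = 273030912000000) (hN : NA 19 K) : Supp.{u} 3 K :=
  of_loc (l := [(3, 6), (5, 6), (7, 1), (11, 1), (19, 1)]) (a := 14) (b := 25) B hs hn (by decide) (D.ords_hn B)
    D.v_hn D.nd_hn (ld := ⟨19, 5554828125, [(2, 1), (3, 6), (5, 6), (7, 1), (11, 1), (19, 1)]⟩)
    (loc_of_na (not_comm_of_card hs hn (by decide)) D.v_hn hn (by decide +kernel) (by decide +kernel) (by decide +kernel)
      hN (by decide +kernel) (by decide +kernel)) [91125, 228096] (by decide +kernel) (by decide +kernel)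
    (by decide +kernel) (by decide +kernel)

theorem he (B : Base) (hs : IsSimpleGroup K) (hn : Nat.card K = 4030387200)
    (h17 : ∀ x : K, orderOf x = 17 → Nat.card (centralizer ({x} : Set K)) = 17) : Supp.{u} 3 K :=
  of_loc (l := [(3, 3), (5, 2), (7, 3), (17, 1)]) (a := 10) (b := 21) B hs hn (by decide) (D.ords_he B)
    D.v_he D.nd_he (ld := ⟨17, 17, [(2, 3), (17, 1)]⟩)
    (loc_of_elt (not_comm_of_card hs hn (by decide)) hn (by decide +kernel) (by decide +kernel) (by decide +kernel)
      (fC := [(17, 1)]) (by decide +kernel) (fun x hx => by rw [h17 x hx]; decide) (by decide +kernel) (by decide +kernel))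
    [256, 1225, 7056] (by decide +kernel) (by decide +kernel) (by decide +kernel) (by decide +kernel)

theorem suz (B : Base) (hs : IsSimpleGroup K) (hn : Nat.card K = 448345497600)
    (h11 : ∀ x : K, orderOf x = 11 → Nat.card (centralizer ({x} : Set K)) ∣ 11 * 2187) : Supp.{u} 3 K :=
  of_loc (l := [(3, 7), (5, 2), (7, 1), (11, 1), (13, 1)]) (a := 13) (b := 18) B hs hn (by decide) (D.ords_suz B)
    D.v_suz D.nd_suz (ld := ⟨11, 24057, [(2, 1), (3, 7), (5, 1), (11, 1)]⟩)
    (loc_of_elt (not_comm_of_card hs hn (by decide)) hn (by decide +kernel) (by decide +kernel) (by decide +kernel)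
      (fC := [(3, 7), (11, 1)]) (by decide +kernel) (fun x hx => (h11 x hx).trans (by decide)) (by decide +kernel)
      (by decide +kernel))
    [4096, 7371, 20736, 372736, 2985984] (by decide +kernel) (by decide +kernel) (by decide +kernel) (by decide +kernel)

end loc

end Cfsg.Agent.H339.RowSpor
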