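import Cfsg.Agent.H339.RowSpor
import Cfsg.Agent.NotCT.Orders
import Cfsg.Agent.H393.Iso.Mathieu
import Cfsg.Agent.H393.Iso.ON
import Cfsg.Agent.H393.Iso.He
import Cfsg.Agent.H503.TwoSuz
import Cfsg.Agent.H547.SelfCent.He
import Cfsg.Agent.S2060
import Cfsg.Agent.S2063
import Cfsg.Agent.S2064
import Cfsg.Agent.S2065
import Cfsg.Agent.S2068
import Cfsg.Agent.S2069
import Cfsg.Agent.S2070
import Cfsg.Agent.S2071
import Cfsg.Agent.S2076
import Cfsg.Agent.S2077
import Cfsg.Agent.S2080
import Cfsg.Agent.S2083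
import Cfsg.Agent.S2084
import Cfsg.Agent.S2085

/-!
# Sporadic rows of S5907 (helper339): `Supp 3` for all the sporadic groups but `J2` and `Fi22`
-/

set_option autoImplicit false

namespace Cfsg.Agent.H339.RowSpor

open Subgroup Cfsg Cfsg.Agent.H339.MaxCl Cfsg.Agent.H339.MaxNum Cfsg.Agent.H940.Eng Cfsg.Agent.H393.Iso

universe u v w

/-- reduction to a model in `Type` -/
theorem of_model {n : ℕ} {M : Type} [Group M] {K : Type v} [Group K] [Finite K] (hs : IsSimpleGroup K) (e : K ≃* M)
    (h : ∀ [Finite M], IsSimpleGroup M → Supp.{u} n M) : Supp.{u} n K := by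
  have : Finite M := Finite.of_equiv _ e.toEquiv
  exact (h (e.symm.isSimpleGroup)).congr e.symm

/-- the two groups which are not done by arithmetic -/
structure Rest : Prop where
  j2 : Supp.{u} 3 Cfsg.Spor.J2
  fi22 : Supp.{u} 3 Cfsg.Spor.Fi22

theorem supp_spor (B : Base) (R : Rest.{u}) {K : Type v} [Group K] [Finite K] (hs : IsSimpleGroup K)
    (h : IsSporadicGroup K) : Supp.{u} 3 K := by
  have h0 := h
  rcases h with h | h | h | h | h | h | h | h | h | h | h | h | h | h | h | h | h | h | h | h | h | h | h | h | h | h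
  · obtain ⟨e⟩ := h
    exact of_model hs e fun _ => supp_of_out S2060.result
  · have hc := NotCT.Orders.m12 h
    have hN := na_m12 h
    obtain ⟨e⟩ := h
    exact of_model hs e fun h1 => m12 B h1 ((Nat.card_congr e.toEquiv).symm.trans hc) (hN.of_equiv e)
  · exact m22 hs (NotCT.Orders.m22 h)
  · obtain ⟨e⟩ := h
    exact of_model hs e fun _ => supp_of_out S2063.result
  · obtain ⟨e⟩ := h
    exact of_model hs e fun _ => supp_of_out S2064.result
  · obtain ⟨e⟩ := h
    exact of_model hs e fun _ => supp_of_out S2065.result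
  · obtain ⟨e⟩ := h
    exact R.j2.congr e.symm
  · exact j3 hs (NotCT.Orders.j3 h)
  · obtain ⟨e⟩ := h
    exact of_model hs e fun _ => supp_of_out S2068.result
  · obtain ⟨e⟩ := h
    exact of_model hs e fun _ => supp_of_out S2069.result
  · obtain ⟨e⟩ := h
    exact of_model hs e fun _ => supp_of_out S2070.result
  · obtain ⟨e⟩ := h
    exact of_model hs e fun _ => supp_of_out S2071.result
  · exact mcl hs (NotCT.Orders.mcl h)
  · exact RowSpor.hs hs (NotCT.Orders.hs h)
  · have hc := NotCT.Orders.suz h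
    obtain ⟨e⟩ := h
    exact of_model hs e fun h1 => suz B h1 ((Nat.card_congr e.toEquiv).symm.trans hc) fun x hx => H503.TwoSuz.eleven hx
  · have hc := NotCT.Orders.he h
    obtain ⟨e⟩ := h
    have hc' := (Nat.card_congr e.toEquiv).symm.trans hc
    exact of_model hs e fun h1 => he B h1 hc' fun x hx => H547.SelfCent.HeRow.he ⟨MulEquiv.refl _⟩ hc' hx
  · obtain ⟨e⟩ := h
    exact of_model hs e fun _ => supp_of_out S2077.result
  · have hc := NotCT.Orders.on h
    have hN := na_on h
    obtain ⟨e⟩ := h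
    exact of_model hs e fun h1 => on B h1 ((Nat.card_congr e.toEquiv).symm.trans hc) (hN.of_equiv e)
  · obtain ⟨e⟩ := h
    exact of_model hs e fun _ => supp_of_out S2076.result
  · obtain ⟨e⟩ := h
    exact R.fi22.congr e.symm
  · obtain ⟨e⟩ := h
    exact of_model hs e fun _ => supp_of_out S2080.result
  · exact fi24 hs (NotCT.Orders.fi24 h)
  · have hc := NotCT.Orders.hn h
    have hN := na_hn h
    obtain ⟨e⟩ := h
    exact of_model hs e fun h1 => hn B h1 ((Nat.card_congr e.toEquiv).symm.trans hc) (hN.of_equiv e)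
  · obtain ⟨e⟩ := h
    exact of_model hs e fun _ => supp_of_out S2083.result
  · obtain ⟨e⟩ := h
    exact of_model hs e fun _ => supp_of_out S2084.result
  · obtain ⟨e⟩ := h
    exact of_model hs e fun _ => supp_of_out S2085.result

end Cfsg.Agent.H339.RowSpor
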