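import Cfsg.Agent.H339.SpSyl
import Cfsg.Agent.LieClassical.SympCenter
import Cfsg.Agent.S0271

/-!
# The centralizer in `PSp₄(F)` of a central element of a Sylow `p`-subgroup (helper339, S3324)
-/

set_option autoImplicit false
set_option linter.unusedSectionVars false
set_option linter.unusedSimpArgs false
set_option linter.unusedVariables false
open Subgroup Matrix

namespace Cfsg.Agent.H339.SpCo

variable {F : Type*} [Field F]

/-- The projection of `Sp₄(F)` to `PSp₄(F)`. -/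
def pr (F : Type*) [Field F] : Sp F →* Cfsg.PSp 2 F := QuotientGroup.mk' _

theorem pr_surjective : Function.Surjective (pr F) := QuotientGroup.mk'_surjective _

theorem mem_ker_pr {z : Sp F} : pr F z = 1 ↔ ∃ b : F, b * b = 1 ∧ z.1 = b • 1 := by
  have h1 : pr F z = 1 ↔ z ∈ Subgroup.center (Sp F) := QuotientGroup.eq_one_iff z
  rw [h1, Cfsg.Agent.LieClassical.SympCenter.mem_center_iff]
  constructor
  · rintro ⟨b, hb⟩
    refine ⟨b, ?_, hb⟩
    apply Cfsg.Agent.LieClassical.SympCenter.sq_eq_one_of_smul_mem (m := 2) (by norm_num)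
    rw [← hb]; exact z.2
  · rintro ⟨b, -, hb⟩
    exact ⟨b, hb⟩

theorem ker_comm {z : Sp F} (hz : pr F z = 1) (g : Sp F) : g * z = z * g := by
  have h1 : z ∈ Subgroup.center (Sp F) := (QuotientGroup.eq_one_iff z).mp hz
  exact Subgroup.mem_center_iff.mp h1 g

theorem ker_sq {z : Sp F} (hz : pr F z = 1) : z * z = 1 := by
  obtain ⟨b, hb, e⟩ := mem_ker_pr.mp hz
  apply Subtype.ext
  change z.1 * z.1 = 1
  rw [e, Matrix.smul_mul, Matrix.one_mul, smul_smul, hb, one_smul]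

theorem ker_S1 {z : Sp F} (hz : pr F z = 1) (hS : z ∈ S1 F) : z = 1 := by
  obtain ⟨b, hb, e⟩ := mem_ker_pr.mp hz
  have h1 := hS (Sum.inl 0)
  rw [e, Matrix.smul_apply, Matrix.one_apply_eq, smul_eq_mul, mul_one] at h1
  apply Subtype.ext
  change z.1 = 1
  rw [e, h1, one_smul]

theorem pr_inj {g g' : Sp F} (hg : g ∈ S1 F) (hg' : g' ∈ S1 F) (e : pr F g = pr F g') : g = g' := by
  have h1 : pr F (g * g'⁻¹) = 1 := by rw [map_mul, map_inv, e, mul_inv_cancel]
  have h2 := ker_S1 h1 ((S1 F).mul_mem hg ((S1 F).inv_mem hg'))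
  exact mul_inv_eq_one.mp h2

/-- Commuting modulo the centre with a `p`-element, `p` odd. -/
theorem comm_of_pr {p : ℕ} (hp : p.Prime) (hp2 : p ≠ 2) {g y : Sp F} (hy : y ^ p = 1)
    (e : pr F g * pr F y = pr F y * pr F g) : g * y = y * g := by
  have h1 : pr F (g * y * g⁻¹ * y⁻¹) = 1 := by
    rw [map_mul, map_mul, map_mul, map_inv, map_inv, e]; group
  set z := g * y * g⁻¹ * y⁻¹ with hz
  have h2 : g * y * g⁻¹ = z * y := by rw [hz]; group
  have h3 : (z * y) ^ p = 1 := by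
    rw [← h2, conj_pow, hy, mul_one, mul_inv_cancel]
  have h4 : Commute z y := (ker_comm h1 y).symm
  rw [h4.mul_pow, hy, mul_one] at h3
  have h5 : z ^ 2 = 1 := by rw [sq]; exact ker_sq h1
  have h6 : z = 1 := by
    have h7 : orderOf z ∣ p := orderOf_dvd_of_pow_eq_one h3
    have h8 : orderOf z ∣ 2 := orderOf_dvd_of_pow_eq_one h5
    have h9 : orderOf z ∣ Nat.gcd p 2 := Nat.dvd_gcd h7 h8
    have : Nat.Coprime p 2 := (Nat.coprime_primes hp Nat.prime_two).mpr hp2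
    rw [this] at h9
    exact orderOf_eq_one_iff.mp (Nat.dvd_one.mp h9)
  rw [h6, one_mul] at h2
  calc g * y = g * y * g⁻¹ * g := by group
    _ = y * g := by rw [h2]

/-- An element commuting with the transvection `m 0 0 v`. -/
theorem of_comm_d {g : Sp F} {v : F} (hv : v ≠ 0) (e : g * m 0 0 v = m 0 0 v * g) :
    ∃ z : Sp F, pr F z = 1 ∧ z * g ∈ S1 F := by
  have h2 : g.1 * fromBlocks 1 (sy 0 0 v) 0 1 = fromBlocks 1 (sy 0 0 v) 0 1 * g.1 :=
    congrArg Subtype.val e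
  have key := fun i j => congrFun (congrFun h2 i) j
  have k0 := key (Sum.inl 0) (Sum.inl 0)
  have k1 := key (Sum.inl 0) (Sum.inr 0)
  have k2 := key (Sum.inl 1) (Sum.inr 0)
  have k3 := key (Sum.inr 0) (Sum.inr 0)
  have k4 := key (Sum.inr 1) (Sum.inr 0)
  have k5 := key (Sum.inl 0) (Sum.inl 1)
  have k6 := key (Sum.inl 0) (Sum.inr 1)
  simp [Matrix.mul_apply, Fintype.sum_sum_type, Fin.sum_univ_two, fromBlocks, sy, hv]
    at k0 k1 k2 k3 k4 k5 k6
  have h1 := SymplecticGroup.mem_iff'.mp g.2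
  have key' := fun i j => congrFun (congrFun h1 i) j
  have l1 := key' (Sum.inl 0) (Sum.inr 0)
  simp [Matrix.mul_apply, Fintype.sum_sum_type, Fin.sum_univ_two, J, fromBlocks, k2, k3, k4] at l1
  have hbb2 : g.1 (Sum.inl 0) (Sum.inl 0) = g.1 (Sum.inr 0) (Sum.inr 0) := by
    have h3 : v * (g.1 (Sum.inl 0) (Sum.inl 0) - g.1 (Sum.inr 0) (Sum.inr 0)) = 0 := by
      linear_combination k1
    rcases mul_eq_zero.mp h3 with h4 | h4
    · exact absurd h4 hv
    · exact sub_eq_zero.mp h4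
  have hb1 : g.1 (Sum.inl 0) (Sum.inl 0) * g.1 (Sum.inl 0) (Sum.inl 0) = 1 := by
    nth_rewrite 2 [hbb2]
    exact l1
  refine ⟨⟨g.1 (Sum.inl 0) (Sum.inl 0) • 1,
    Cfsg.Agent.LieClassical.SympCenter.smul_one_mem 2 hb1⟩, mem_ker_pr.mpr ⟨_, hb1, rfl⟩, ?_⟩
  intro i
  change ((g.1 (Sum.inl 0) (Sum.inl 0) • (1 : Matrix (Fin 2 ⊕ Fin 2) (Fin 2 ⊕ Fin 2) F)) * g.1) i
    (Sum.inl 0) = _
  rw [Matrix.smul_mul, Matrix.one_mul, Matrix.smul_apply, smul_eq_mul]
  rcases i with i | i <;> fin_cases i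
  · exact hb1
  · change _ * g.1 (Sum.inl 1) (Sum.inl 0) = 0
    rw [k2, mul_zero]
  · change _ * g.1 (Sum.inr 0) (Sum.inl 0) = 0
    rw [k3, mul_zero]
  · change _ * g.1 (Sum.inr 1) (Sum.inl 0) = 0
    rw [k4, mul_zero]

theorem d_comm {g : Sp F} (hg : g ∈ S1 F) (v : F) : g * m 0 0 v = m 0 0 v * g := by
  obtain ⟨c1, c2, c3, c4⟩ := col_e1 hg
  have r1 := row_f1 hg (Sum.inl 0)
  have r2 := row_f1 hg (Sum.inl 1)
  have r3 := row_f1 hg (Sum.inr 0)
  have r4 := row_f1 hg (Sum.inr 1)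
  simp at r1 r2 r3 r4
  apply Subtype.ext
  change g.1 * fromBlocks 1 (sy 0 0 v) 0 1 = fromBlocks 1 (sy 0 0 v) 0 1 * g.1
  ext i j
  rcases i with i | i <;> rcases j with j | j <;> fin_cases i <;> fin_cases j <;>
    simp [Matrix.mul_apply, Fintype.sum_sum_type, Fin.sum_univ_two, fromBlocks, sy,
      c1, c2, c3, c4, r1, r2, r3, r4] <;> ring

theorem m_pow (t u v : F) (k : ℕ) : m t u v ^ k = m (k * t) (k * u) (k * v) := by
  induction k with
  | zero =>
    rw [pow_zero]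
    apply Subtype.ext
    change (1 : Matrix (Fin 2 ⊕ Fin 2) (Fin 2 ⊕ Fin 2) F) = fromBlocks 1 (sy _ _ _) 0 1
    rw [← fromBlocks_one]
    congr 1
    ext i j
    fin_cases i <;> fin_cases j <;> simp [sy]
  | succ k ih =>
    rw [pow_succ, ih, m_mul]
    push_cast
    congr 1 <;> ring

/-- The centralizer of a transvection in `PSp₄(F)`. -/
theorem cent_pr {p : ℕ} (hp : p.Prime) (hp2 : p ≠ 2) (hpF : (p : F) = 0) {v : F} (hv : v ≠ 0) :
    Subgroup.centralizer {pr F (m 0 0 v)} = (S1 F).map (pr F) := by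
  ext x
  rw [Subgroup.mem_centralizer_singleton_iff]
  constructor
  · intro hx
    obtain ⟨g, rfl⟩ := pr_surjective x
    have h1 : g * m 0 0 v = m 0 0 v * g := by
      apply comm_of_pr hp hp2 _ hx
      rw [m_pow, hpF]
      have := (m_mul (0:F) 0 0 0 0 0)
      rw [add_zero] at this
      simp only [zero_mul]
      exact mul_eq_left.mp this
    obtain ⟨z, hz, hzg⟩ := of_comm_d hv h1
    exact ⟨_, hzg, by rw [map_mul, hz, one_mul]⟩
  · rintro ⟨g, hg, rfl⟩
    rw [← map_mul, ← map_mul, d_comm hg]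

end Cfsg.Agent.H339.SpCo
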