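import Cfsg.Agent.H339.Co
import Cfsg.Prelude.Def_Classical

/-!
# The coordinates in the stabiliser of a vector in `Sp₄(F)` (helper339, S3324)
-/

set_option autoImplicit false
set_option linter.unusedSectionVars false
open Subgroup Matrix

namespace Cfsg.Agent.H339.SpCo

variable {F : Type*} [Field F]

/-- `Sp₄(F)`. -/
abbrev Sp (F : Type*) [Field F] := Matrix.symplecticGroup (Fin 2) F

/-- The matrix `(1 X; 0 1)`. -/
def U (X : Matrix (Fin 2) (Fin 2) F) (hX : Xᵀ = X) : Sp F :=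
  ⟨fromBlocks 1 X 0 1, by
    rw [SymplecticGroup.mem_iff, J, fromBlocks_multiply, fromBlocks_transpose, fromBlocks_multiply]
    simp [hX]⟩

/-- The matrix `(A 0; 0 D)`. -/
def L (A D : Matrix (Fin 2) (Fin 2) F) (h : A * Dᵀ = 1) : Sp F :=
  ⟨fromBlocks A 0 0 D, by
    have h' : D * Aᵀ = 1 := by
      have := congrArg Matrix.transpose h
      rwa [transpose_mul, transpose_transpose, transpose_one] at this
    rw [SymplecticGroup.mem_iff, J, fromBlocks_multiply, fromBlocks_transpose, fromBlocks_multiply]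
    simp [h, h']⟩

theorem U_mul (X Y : Matrix (Fin 2) (Fin 2) F) (hX : Xᵀ = X) (hY : Yᵀ = Y) :
    U X hX * U Y hY = U (X + Y) (by rw [transpose_add, hX, hY]) := by
  apply Subtype.ext
  change fromBlocks 1 X 0 1 * fromBlocks 1 Y 0 1 = fromBlocks 1 (X + Y) 0 1
  rw [fromBlocks_multiply]
  simp [add_comm]

theorem L_mul (A D A' D' : Matrix (Fin 2) (Fin 2) F) (h : A * Dᵀ = 1) (h' : A' * D'ᵀ = 1) :
    L A D h * L A' D' h' = L (A * A') (D * D') (by
      rw [transpose_mul, Matrix.mul_assoc, ← Matrix.mul_assoc A', h', Matrix.one_mul, h]) := by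
  apply Subtype.ext
  change fromBlocks A 0 0 D * fromBlocks A' 0 0 D' = fromBlocks (A * A') 0 0 (D * D')
  rw [fromBlocks_multiply]
  simp

theorem L_mul_U (A D X Y : Matrix (Fin 2) (Fin 2) F) (h : A * Dᵀ = 1) (hX : Xᵀ = X)
    (hY : Yᵀ = Y) (e : A * X = Y * D) : L A D h * U X hX = U Y hY * L A D h := by
  apply Subtype.ext
  change fromBlocks A 0 0 D * fromBlocks 1 X 0 1 = fromBlocks 1 Y 0 1 * fromBlocks A 0 0 D
  rw [fromBlocks_multiply, fromBlocks_multiply]
  simp [e]

/-- The symmetric matrix `(v u; u t)`. -/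
def sy (t u v : F) : Matrix (Fin 2) (Fin 2) F := !![v, u; u, t]

theorem sy_symm (t u v : F) : (sy t u v)ᵀ = sy t u v := by
  ext i j
  fin_cases i <;> fin_cases j <;> rfl

theorem sy_add (t u v t' u' v' : F) : sy t u v + sy t' u' v' = sy (t + t') (u + u') (v + v') := by
  ext i j
  fin_cases i <;> fin_cases j <;> rfl

/-- The element `(1 X; 0 1)` with `X = (v u; u t)`. -/
def m (t u v : F) : Sp F := U (sy t u v) (sy_symm t u v)

theorem m_mul (t u v t' u' v' : F) : m t u v * m t' u' v' = m (t + t') (u + u') (v + v') := by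
  unfold m
  rw [U_mul]
  apply Subtype.ext
  change fromBlocks 1 _ 0 1 = fromBlocks 1 _ 0 1
  rw [sy_add]

/-- The element `a s`. -/
def a (s : F) : Sp F := L !![1, s; 0, 1] !![1, 0; -s, 1] (by
  ext i j
  fin_cases i <;> fin_cases j <;> simp [Matrix.mul_apply, Fin.sum_univ_two])

/-- The element `h r`. -/
def h (r : Fˣ) : Sp F := L !![1, 0; 0, (r : F)] !![1, 0; 0, (↑r⁻¹ : F)] (by
  ext i j
  fin_cases i <;> fin_cases j <;> simp [Matrix.mul_apply, Fin.sum_univ_two])

theorem a_add (s t : F) : a (s + t) = a s * a t := by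
  unfold a
  rw [L_mul]
  apply Subtype.ext
  change fromBlocks _ 0 0 _ = fromBlocks _ 0 0 _
  congr 1
  · ext i j
    fin_cases i <;> fin_cases j <;> simp [Matrix.mul_apply, Fin.sum_univ_two, add_comm]
  · ext i j
    fin_cases i <;> fin_cases j <;> simp [Matrix.mul_apply, Fin.sum_univ_two, add_comm]

theorem h_mul (r r' : Fˣ) : h (r * r') = h r * h r' := by
  unfold h
  rw [L_mul]
  apply Subtype.ext
  change fromBlocks _ 0 0 _ = fromBlocks _ 0 0 _
  congr 1
  · ext i j
    fin_cases i <;> fin_cases j <;> simp [Matrix.mul_apply, Fin.sum_univ_two]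
  · ext i j
    fin_cases i <;> fin_cases j <;> simp [Matrix.mul_apply, Fin.sum_univ_two, mul_comm]

theorem a_m (s t u v : F) :
    a s * m t u v = m t (u + s * t) (v + 2 * s * u + s * s * t) * a s := by
  apply L_mul_U
  ext i j
  fin_cases i <;> fin_cases j <;> simp [sy, Matrix.mul_apply, Fin.sum_univ_two] <;> ring

theorem h_m (r : Fˣ) (t u v : F) :
    h r * m t u v = m ((r : F) * r * t) ((r : F) * u) v * h r := by
  apply L_mul_U
  ext i j
  have := r.ne_zero
  fin_cases i <;> fin_cases j <;> simp [sy, Matrix.mul_apply, Fin.sum_univ_two] <;> field_simp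

theorem h_a (r : Fˣ) (s : F) : h r * a s = a ((↑r⁻¹ : F) * s) * h r := by
  unfold a h
  rw [L_mul, L_mul]
  apply Subtype.ext
  change fromBlocks _ 0 0 _ = fromBlocks _ 0 0 _
  have := r.ne_zero
  congr 1
  · ext i j
    fin_cases i <;> fin_cases j <;> simp [Matrix.mul_apply, Fin.sum_univ_two]
    field_simp
  · ext i j
    fin_cases i <;> fin_cases j <;> simp [Matrix.mul_apply, Fin.sum_univ_two]

theorem m_eq_one {t u v : F} (e : m t u v = 1) : t = 0 ∧ u = 0 ∧ v = 0 := by
  have e1 : fromBlocks 1 (sy t u v) 0 1 = (1 : Matrix (Fin 2 ⊕ Fin 2) (Fin 2 ⊕ Fin 2) F) :=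
    congrArg Subtype.val e
  rw [← fromBlocks_one, fromBlocks_inj] at e1
  have e2 := e1.2.1
  refine ⟨?_, ?_, ?_⟩
  · have := congrFun (congrFun e2 1) 1; simpa [sy] using this
  · have := congrFun (congrFun e2 0) 1; simpa [sy] using this
  · have := congrFun (congrFun e2 0) 0; simpa [sy] using this

/-- The stabiliser of the first basis vector. -/
def S1 (F : Type*) [Field F] : Subgroup (Sp F) where
  carrier := {g | ∀ i, g.1 i (Sum.inl 0) = (1 : Matrix (Fin 2 ⊕ Fin 2) (Fin 2 ⊕ Fin 2) F) i (Sum.inl 0)}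
  mul_mem' := by
    intro g g' hg hg' i
    change (g.1 * g'.1) i (Sum.inl 0) = _
    rw [Matrix.mul_apply]
    have : ∀ j, g.1 i j * g'.1 j (Sum.inl 0) = if j = Sum.inl 0 then g.1 i j else 0 := by
      intro j
      rw [hg' j, Matrix.one_apply]
      split_ifs <;> simp
    simp only [this, Finset.sum_ite_eq', Finset.mem_univ, if_true]
    exact hg i
  one_mem' := fun i => rfl
  inv_mem' := by
    intro g hg i
    have h1 : (g⁻¹).1 * g.1 = 1 := congrArg Subtype.val (inv_mul_cancel g)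
    have h2 := congrFun (congrFun h1 i) (Sum.inl 0)
    rw [Matrix.mul_apply] at h2
    have : ∀ j, (g⁻¹).1 i j * g.1 j (Sum.inl 0) = if j = Sum.inl 0 then (g⁻¹).1 i j else 0 := by
      intro j
      rw [hg j, Matrix.one_apply]
      split_ifs <;> simp
    simp only [this, Finset.sum_ite_eq', Finset.mem_univ, if_true] at h2
    exact h2

theorem U_mem (X : Matrix (Fin 2) (Fin 2) F) (hX : Xᵀ = X) : U X hX ∈ S1 F := by
  rintro (i | i)
  · change (fromBlocks (1 : Matrix (Fin 2) (Fin 2) F) X 0 1) (Sum.inl i) (Sum.inl 0) = _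
    rw [fromBlocks_apply₁₁, ← fromBlocks_one, fromBlocks_apply₁₁]
  · change (fromBlocks (1 : Matrix (Fin 2) (Fin 2) F) X 0 1) (Sum.inr i) (Sum.inl 0) = _
    rw [fromBlocks_apply₂₁, ← fromBlocks_one, fromBlocks_apply₂₁]

theorem m_mem (t u v : F) : m t u v ∈ S1 F := U_mem _ _

theorem a_mem (s : F) : a s ∈ S1 F := by
  rintro (i | i)
  · change (fromBlocks (!![1, s; 0, 1] : Matrix (Fin 2) (Fin 2) F) 0 0 _) (Sum.inl i) (Sum.inl 0) = _
    rw [fromBlocks_apply₁₁, ← fromBlocks_one, fromBlocks_apply₁₁]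
    fin_cases i <;> rfl
  · change (fromBlocks (!![1, s; 0, 1] : Matrix (Fin 2) (Fin 2) F) 0 0 _) (Sum.inr i) (Sum.inl 0) = _
    rw [fromBlocks_apply₂₁, ← fromBlocks_one, fromBlocks_apply₂₁]

theorem h_mem (r : Fˣ) : h r ∈ S1 F := by
  rintro (i | i)
  · change (fromBlocks (!![1, 0; 0, (r : F)] : Matrix (Fin 2) (Fin 2) F) 0 0 _) (Sum.inl i) (Sum.inl 0) = _
    rw [fromBlocks_apply₁₁, ← fromBlocks_one, fromBlocks_apply₁₁]
    fin_cases i <;> rfl
  · change (fromBlocks (!![1, 0; 0, (r : F)] : Matrix (Fin 2) (Fin 2) F) 0 0 _) (Sum.inr i) (Sum.inl 0) = _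
    rw [fromBlocks_apply₂₁, ← fromBlocks_one, fromBlocks_apply₂₁]

/-- The coordinates. -/
def co (F : Type*) [Field F] : Co (S1 F) F where
  a := fun s => ⟨a s, a_mem s⟩
  b := fun t => ⟨m t 0 0, m_mem t 0 0⟩
  c := fun u => ⟨m 0 u 0, m_mem 0 u 0⟩
  d := fun v => ⟨m 0 0 v, m_mem 0 0 v⟩
  h := fun r => ⟨h r, h_mem r⟩
  a_add := fun s t => Subtype.ext (a_add s t)
  b_add := fun s t => Subtype.ext (by
    change m (s + t) 0 0 = m s 0 0 * m t 0 0
    rw [m_mul, add_zero])
  c_add := fun s t => Subtype.ext (by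
    change m 0 (s + t) 0 = m 0 s 0 * m 0 t 0
    rw [m_mul, add_zero])
  d_add := fun s t => Subtype.ext (by
    change m 0 0 (s + t) = m 0 0 s * m 0 0 t
    rw [m_mul, add_zero])
  h_mul := fun s t => Subtype.ext (h_mul s t)
  cb := fun t u => Subtype.ext (by
    change m 0 u 0 * m t 0 0 = m t 0 0 * m 0 u 0
    rw [m_mul, m_mul]; simp)
  db := fun t u => Subtype.ext (by
    change m 0 0 u * m t 0 0 = m t 0 0 * m 0 0 u
    rw [m_mul, m_mul]; simp)
  dc := fun t u => Subtype.ext (by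
    change m 0 0 u * m 0 t 0 = m 0 t 0 * m 0 0 u
    rw [m_mul, m_mul]; simp)
  ad := fun s v => Subtype.ext (by
    change a s * m 0 0 v = m 0 0 v * a s
    rw [a_m]; simp)
  ab := fun s t => Subtype.ext (by
    change a s * m t 0 0 = m t 0 0 * m 0 (s * t) 0 * m 0 0 (s * s * t) * a s
    rw [a_m, m_mul, m_mul]; simp)
  ac := fun s u => Subtype.ext (by
    change a s * m 0 u 0 = m 0 u 0 * m 0 0 (2 * s * u) * a s
    rw [a_m, m_mul]; simp)
  ha := fun r s => Subtype.ext (h_a r s)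
  hb := fun r t => Subtype.ext (by
    change h r * m t 0 0 = m ((r : F) * r * t) 0 0 * h r
    rw [h_m]; simp)
  hc := fun r t => Subtype.ext (by
    change h r * m 0 t 0 = m 0 ((r : F) * t) 0 * h r
    rw [h_m]; simp)
  hd := fun r t => Subtype.ext (by
    change h r * m 0 0 t = m 0 0 t * h r
    rw [h_m]; simp)
  inj := fun t u v e => by
    have e1 : m t 0 0 * m 0 u 0 * m 0 0 v = (1 : Sp F) := congrArg Subtype.val e
    rw [m_mul, m_mul] at e1
    have := m_eq_one e1
    simpa using this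

theorem co_m (t u v : F) : ((co F).m t u v : Sp F) = m t u v := by
  change m t 0 0 * m 0 u 0 * m 0 0 v = _
  rw [m_mul, m_mul]; simp

/-! ### Entries of the elements of `S1` -/

theorem row_f1 {g : Sp F} (hg : g ∈ S1 F) (j : Fin 2 ⊕ Fin 2) :
    g.1 (Sum.inr 0) j = if j = Sum.inr 0 then 1 else 0 := by
  have h1 := SymplecticGroup.mem_iff'.mp g.2
  have h2 := congrFun (congrFun h1 (Sum.inl 0)) j
  rw [Matrix.mul_apply] at h2
  simp only [Matrix.mul_apply, Matrix.transpose_apply, Fintype.sum_sum_type, Fin.sum_univ_two] at h2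
  have e1 := hg (Sum.inl 0)
  have e2 := hg (Sum.inl 1)
  have e3 := hg (Sum.inr 0)
  have e4 := hg (Sum.inr 1)
  simp only [Matrix.one_apply_eq, Matrix.one_apply, reduceCtorEq, if_false, Sum.inl.injEq,
    one_ne_zero] at e1 e2 e3 e4
  simp only [e1, e2, e3, e4, J, fromBlocks_apply₁₁, fromBlocks_apply₁₂, fromBlocks_apply₂₁,
    fromBlocks_apply₂₂, Matrix.neg_apply, Matrix.one_apply, Matrix.zero_apply] at h2
  rcases j with j | j
  · fin_cases j <;> simp [fromBlocks] at h2 ⊢ <;> linear_combination h2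
  · fin_cases j <;> simp [fromBlocks] at h2 ⊢ <;> linear_combination h2

end Cfsg.Agent.H339.SpCo
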