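import Cfsg.Agent.H339.SpCo

/-!
# The stabiliser of a vector in `Sp₄(F)`: normaliser of `M`, Sylow subgroups (helper339, S3324)
-/

set_option autoImplicit false
set_option linter.unusedSectionVars false
set_option linter.unusedSimpArgs false
set_option linter.unusedVariables false
open Subgroup Matrix

namespace Cfsg.Agent.H339.SpCo

variable {F : Type*} [Field F]

theorem entries {g : Sp F} (hg : g ∈ S1 F) :
    g.1 (Sum.inl 1) (Sum.inl 1) * g.1 (Sum.inr 1) (Sum.inr 1) -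
      g.1 (Sum.inl 1) (Sum.inr 1) * g.1 (Sum.inr 1) (Sum.inl 1) = 1 ∧
    g.1 (Sum.inl 0) (Sum.inl 1) = g.1 (Sum.inr 1) (Sum.inl 1) * g.1 (Sum.inl 1) (Sum.inr 0) -
      g.1 (Sum.inl 1) (Sum.inl 1) * g.1 (Sum.inr 1) (Sum.inr 0) ∧
    g.1 (Sum.inl 0) (Sum.inr 1) = g.1 (Sum.inr 1) (Sum.inr 1) * g.1 (Sum.inl 1) (Sum.inr 0) -
      g.1 (Sum.inl 1) (Sum.inr 1) * g.1 (Sum.inr 1) (Sum.inr 0) := by
  have h1 := SymplecticGroup.mem_iff'.mp g.2
  have r1 := row_f1 hg (Sum.inl 0)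
  have r2 := row_f1 hg (Sum.inl 1)
  have r3 := row_f1 hg (Sum.inr 0)
  have r4 := row_f1 hg (Sum.inr 1)
  have key : ∀ i j, (g.1ᵀ * J (Fin 2) F * g.1) i j = J (Fin 2) F i j := fun i j => by rw [h1]
  have k1 := key (Sum.inl 1) (Sum.inr 1)
  have k2 := key (Sum.inl 1) (Sum.inr 0)
  have k3 := key (Sum.inr 1) (Sum.inr 0)
  simp [Matrix.mul_apply, Fintype.sum_sum_type, Fin.sum_univ_two, J, fromBlocks] at k1 k2 k3 r1 r2 r3 r4
  rw [r2] at k1 k2
  rw [r4] at k1 k3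
  rw [r3] at k2 k3
  refine ⟨?_, ?_, ?_⟩
  · linear_combination -k1
  · linear_combination -k2
  · linear_combination -k3

theorem col_e1 {g : Sp F} (hg : g ∈ S1 F) : g.1 (Sum.inl 0) (Sum.inl 0) = 1 ∧
    g.1 (Sum.inl 1) (Sum.inl 0) = 0 ∧ g.1 (Sum.inr 0) (Sum.inl 0) = 0 ∧
    g.1 (Sum.inr 1) (Sum.inl 0) = 0 := by
  refine ⟨?_, ?_, ?_, ?_⟩
  · rw [hg]; rfl
  · rw [hg]; rfl
  · rw [hg]; rfl
  · rw [hg]; rfl

/-- Matrix of the general element of `B`. -/
theorem e_val (t u v s : F) (r : Fˣ) : (m t u v * a s * h r).1 =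
    fromBlocks !![1, s * r; 0, (r : F)] !![v - u * s, u * ↑r⁻¹; u - t * s, t * ↑r⁻¹] 0
      !![1, 0; -s, (↑r⁻¹ : F)] := by
  change fromBlocks 1 (sy t u v) 0 1 * fromBlocks !![1, s; 0, 1] 0 0 !![1, 0; -s, 1] *
    fromBlocks !![1, 0; 0, (r : F)] 0 0 !![1, 0; 0, (↑r⁻¹ : F)] = _
  rw [fromBlocks_multiply, fromBlocks_multiply]
  congr 1
  · ext i j
    fin_cases i <;> fin_cases j <;> simp [Matrix.mul_apply, Fin.sum_univ_two]
  · ext i j
    fin_cases i <;> fin_cases j <;> simp [sy, Matrix.mul_apply, Fin.sum_univ_two] <;> ring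
  · simp
  · ext i j
    fin_cases i <;> fin_cases j <;> simp [Matrix.mul_apply, Fin.sum_univ_two]

theorem exists_of_entry {g : Sp F} (hg : g ∈ S1 F) (h0 : g.1 (Sum.inr 1) (Sum.inl 1) = 0) :
    ∃ t u v s r, g = m t u v * a s * h r ∧ (r : F) = g.1 (Sum.inl 1) (Sum.inl 1) := by
  obtain ⟨e1, e2, e3⟩ := entries hg
  obtain ⟨c1, c2, c3, c4⟩ := col_e1 hg
  have r2 := row_f1 hg (Sum.inl 1)
  have r3 := row_f1 hg (Sum.inr 0)
  have r4 := row_f1 hg (Sum.inr 1)
  simp at r2 r3 r4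
  rw [h0, mul_zero, sub_zero] at e1
  rw [h0, zero_mul, zero_sub] at e2
  have hne : g.1 (Sum.inl 1) (Sum.inl 1) ≠ 0 := left_ne_zero_of_mul_eq_one e1
  let r : Fˣ := Units.mk0 _ hne
  have hr : (r : F) = g.1 (Sum.inl 1) (Sum.inl 1) := rfl
  have hr' : (↑r⁻¹ : F) = g.1 (Sum.inr 1) (Sum.inr 1) := by
    rw [Units.val_inv_eq_inv_val, hr]
    exact inv_eq_of_mul_eq_one_right e1
  refine ⟨g.1 (Sum.inl 1) (Sum.inr 1) * r, g.1 (Sum.inl 1) (Sum.inr 0) -
    g.1 (Sum.inl 1) (Sum.inr 1) * r * g.1 (Sum.inr 1) (Sum.inr 0),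
    g.1 (Sum.inl 0) (Sum.inr 0) - (g.1 (Sum.inl 1) (Sum.inr 0) -
    g.1 (Sum.inl 1) (Sum.inr 1) * r * g.1 (Sum.inr 1) (Sum.inr 0)) * g.1 (Sum.inr 1) (Sum.inr 0),
    - g.1 (Sum.inr 1) (Sum.inr 0), r, ?_, hr⟩
  apply Subtype.ext
  rw [e_val]
  have hrr : (r : F) * ↑r⁻¹ = 1 := by simp
  ext i j
  rcases i with i | i <;> rcases j with j | j
  · rw [fromBlocks_apply₁₁]
    fin_cases i <;> fin_cases j
    · simpa using c1
    · simp only [Fin.mk_one, Fin.zero_eta, Matrix.of_apply, Matrix.cons_val', Matrix.cons_val_one,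
        Matrix.cons_val_zero]
      change g.1 (Sum.inl 0) (Sum.inl 1) = -g.1 (Sum.inr 1) (Sum.inr 0) * r
      rw [e2, hr]; ring
    · simpa using c2
    · change g.1 (Sum.inl 1) (Sum.inl 1) = r
      rw [hr]
  · rw [fromBlocks_apply₁₂]
    fin_cases i <;> fin_cases j
    · change g.1 (Sum.inl 0) (Sum.inr 0) = _ - _ * (-_)
      ring
    · change g.1 (Sum.inl 0) (Sum.inr 1) = _ * (↑r⁻¹ : F)
      rw [e3, sub_mul]
      have : g.1 (Sum.inl 1) (Sum.inr 1) * r * g.1 (Sum.inr 1) (Sum.inr 0) * (↑r⁻¹ : F) =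
        g.1 (Sum.inl 1) (Sum.inr 1) * g.1 (Sum.inr 1) (Sum.inr 0) * (r * ↑r⁻¹ : F) := by ring
      rw [this, hrr, hr']; ring
    · change g.1 (Sum.inl 1) (Sum.inr 0) = _ - _ * (-_)
      ring
    · change g.1 (Sum.inl 1) (Sum.inr 1) = _ * (↑r⁻¹ : F)
      rw [mul_assoc, hrr, mul_one]
  · rw [fromBlocks_apply₂₁]
    fin_cases i <;> fin_cases j
    · exact c3
    · exact r2
    · exact c4
    · exact h0
  · rw [fromBlocks_apply₂₂]
    fin_cases i <;> fin_cases j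
    · exact r3
    · exact r4
    · change g.1 (Sum.inr 1) (Sum.inr 0) = - -_
      ring
    · change g.1 (Sum.inr 1) (Sum.inr 1) = ↑r⁻¹
      rw [hr']

/-- The normaliser of `M` in `S1`. -/
theorem entry_of_conj {g : Sp F} (hg : g ∈ S1 F) {t u v : F}
    (h1 : g * m 1 0 0 = m t u v * g) : g.1 (Sum.inr 1) (Sum.inl 1) = 0 := by
  have h2 : g.1 * fromBlocks 1 (sy 1 0 0) 0 1 = fromBlocks 1 (sy t u v) 0 1 * g.1 :=
    congrArg Subtype.val h1
  have h3 := congrFun (congrFun h2 (Sum.inr 1)) (Sum.inr 1)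
  simp [Matrix.mul_apply, Fintype.sum_sum_type, Fin.sum_univ_two, fromBlocks, sy] at h3
  exact h3

theorem tr2 (a b c d : F) : (!![a, b; c, d] : Matrix (Fin 2) (Fin 2) F)ᵀ = !![a, c; b, d] := by
  ext i j
  fin_cases i <;> fin_cases j <;> rfl

/-- The matrix of `g ∈ S1` on `e₁^⊥/e₁`. -/
def rm (g : Sp F) : Matrix (Fin 2) (Fin 2) F :=
  !![g.1 (Sum.inl 1) (Sum.inl 1), g.1 (Sum.inl 1) (Sum.inr 1);
    g.1 (Sum.inr 1) (Sum.inl 1), g.1 (Sum.inr 1) (Sum.inr 1)]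

theorem rm_mul {g g' : Sp F} (hg : g ∈ S1 F) (hg' : g' ∈ S1 F) : rm (g * g') = rm g * rm g' := by
  obtain ⟨c1, c2, c3, c4⟩ := col_e1 hg
  have r2 := row_f1 hg' (Sum.inl 1)
  have r4 := row_f1 hg' (Sum.inr 1)
  simp at r2 r4
  have e : (g * g').1 = g.1 * g'.1 := rfl
  unfold rm
  rw [Matrix.mul_fin_two, e]
  simp only [Matrix.mul_apply, Fintype.sum_sum_type, Fin.sum_univ_two, c2, c4, r2, r4, zero_mul,
    mul_zero, zero_add]

/-- The homomorphism of `S1` to `SL₂(F)`. -/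
def rho (F : Type*) [Field F] : S1 F →* Matrix.SpecialLinearGroup (Fin 2) F where
  toFun g := ⟨rm g.1, by
      unfold rm
      rw [Matrix.det_fin_two_of]
      exact (entries g.2).1⟩
  map_one' := by
    apply Subtype.ext
    change rm 1 = 1
    ext i j
    fin_cases i <;> fin_cases j <;> rfl
  map_mul' g g' := by
    apply Subtype.ext
    exact rm_mul g.2 g'.2

/-- A section. -/
def emb (A : Matrix.SpecialLinearGroup (Fin 2) F) : Sp F :=
  ⟨fromBlocks !![1, 0; 0, A.1 0 0] !![0, 0; 0, A.1 0 1] !![0, 0; 0, A.1 1 0] !![1, 0; 0, A.1 1 1], by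
    have hA := A.2
    rw [Matrix.det_fin_two] at hA
    rw [SymplecticGroup.mem_iff, J, fromBlocks_multiply, fromBlocks_transpose, fromBlocks_multiply,
      tr2, tr2, tr2, tr2]
    congr 1
    · ext i j
      fin_cases i <;> fin_cases j <;> simp [Matrix.mul_apply, Fin.sum_univ_two]
      ring
    · ext i j
      fin_cases i <;> fin_cases j <;> simp [Matrix.mul_apply, Fin.sum_univ_two]
      linear_combination -hA
    · ext i j
      fin_cases i <;> fin_cases j <;> simp [Matrix.mul_apply, Fin.sum_univ_two]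
      linear_combination hA
    · ext i j
      fin_cases i <;> fin_cases j <;> simp [Matrix.mul_apply, Fin.sum_univ_two]
      ring⟩

theorem emb_mem (A : Matrix.SpecialLinearGroup (Fin 2) F) : emb A ∈ S1 F := by
  rintro (i | i) <;> fin_cases i <;> rfl

theorem rho_emb (A : Matrix.SpecialLinearGroup (Fin 2) F) : rho F ⟨emb A, emb_mem A⟩ = A := by
  apply Subtype.ext
  ext i j
  fin_cases i <;> fin_cases j <;> rfl

theorem rho_surjective : Function.Surjective (rho F) := fun A => ⟨_, rho_emb A⟩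

/-- `SL₂` is transitive on nonzero vectors. -/
theorem exists_sl {y z : F} (hyz : y ≠ 0 ∨ z ≠ 0) :
    ∃ A : Matrix.SpecialLinearGroup (Fin 2) F, A.1 0 0 = y ∧ A.1 1 0 = z := by
  by_cases hy : y = 0
  · have hz : z ≠ 0 := by
      rcases hyz with h | h
      · exact absurd hy h
      · exact h
    exact ⟨⟨!![y, -z⁻¹; z, 0], by rw [Matrix.det_fin_two_of]; field_simp; ring⟩, rfl, rfl⟩
  · exact ⟨⟨!![y, 0; z, y⁻¹], by rw [Matrix.det_fin_two_of]; field_simp; ring⟩, rfl, rfl⟩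

theorem isPGroup_P [Finite F] {p n : ℕ} [Fact p.Prime] (hF : Nat.card F = p ^ n) :
    IsPGroup p (co F).P := by
  have e : (F × F × F × F) ≃ (co F).P := Equiv.ofBijective
    (fun x => ⟨(co F).m x.1 x.2.1 x.2.2.1 * (co F).a x.2.2.2, ⟨_, _, _, _, rfl⟩⟩) ⟨by
      rintro ⟨t, u, v, s⟩ ⟨t', u', v', s'⟩ e
      have e1 : (co F).m t u v * (co F).a s = (co F).m t' u' v' * (co F).a s' :=
        congrArg Subtype.val e
      have e2 : m t u v * a s * h 1 = m t' u' v' * a s' * h 1 := by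
        have := congrArg (fun x : S1 F => (x : Sp F) * h 1) e1
        simp only [Subgroup.coe_mul, co_m] at this
        exact this
      have e3 := congrArg Subtype.val e2
      rw [e_val, e_val, fromBlocks_inj] at e3
      obtain ⟨-, f2, -, f4⟩ := e3
      have g1 := congrFun (congrFun f4 1) 0
      have g2 := congrFun (congrFun f2 1) 1
      have g3 := congrFun (congrFun f2 0) 1
      have g4 := congrFun (congrFun f2 0) 0
      simp at g1 g2 g3 g4
      subst g1 g2 g3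
      have : v = v' := by linear_combination g4
      subst this
      rfl, by
      rintro ⟨_, t, u, v, s, rfl⟩
      exact ⟨(t, u, v, s), rfl⟩⟩
  apply IsPGroup.of_card (n := 4 * n)
  rw [← Nat.card_congr e, Nat.card_prod, Nat.card_prod, Nat.card_prod, hF]
  ring

/-- Every `p`-subgroup of `S1` is conjugate to a subgroup of `P`. -/
theorem exists_conj_le [Finite F] {p n : ℕ} [Fact p.Prime] (hn : 1 ≤ n) (hF : Nat.card F = p ^ n)
    (Q : Subgroup (S1 F)) (hQ : IsPGroup p Q) :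
    ∃ g : S1 F, ∀ x ∈ Q, g⁻¹ * x * g ∈ (co F).P := by
  classical
  letI : MulAction Q (Fin 2 → F) :=
    { smul := fun g w => (rho F g).1 *ᵥ w
      one_smul := fun w => by
        change (rho F ((1 : Q) : S1 F)).1 *ᵥ w = w
        rw [Subgroup.coe_one, map_one]
        change (1 : Matrix (Fin 2) (Fin 2) F) *ᵥ w = w
        rw [Matrix.one_mulVec]
      mul_smul := fun g g' w => by
        change (rho F ((g * g' : Q) : S1 F)).1 *ᵥ w = (rho F g).1 *ᵥ ((rho F g').1 *ᵥ w)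
        rw [Subgroup.coe_mul, map_mul, Matrix.mulVec_mulVec]
        rfl }
  have h0 : (0 : Fin 2 → F) ∈ MulAction.fixedPoints Q (Fin 2 → F) := by
    intro g
    exact Matrix.mulVec_zero _
  obtain ⟨w, hw, hw0⟩ := hQ.exists_fixed_point_of_prime_dvd_card_of_fixed_point (Fin 2 → F)
    (by
      rw [Nat.card_fun, Nat.card_eq_fintype_card (α := Fin 2), Fintype.card_fin, hF, ← pow_mul]
      exact dvd_pow_self p (by omega)) h0
  have hw1 : w 0 ≠ 0 ∨ w 1 ≠ 0 := by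
    by_contra hcon
    push Not at hcon
    apply hw0
    ext i
    fin_cases i
    · exact hcon.1.symm
    · exact hcon.2.symm
  obtain ⟨A, hA0, hA1⟩ := exists_sl hw1
  obtain ⟨g, hg⟩ := rho_surjective A
  refine ⟨g, fun x hx => ?_⟩
  -- `A e₁ = w`
  have hAe : A.1 *ᵥ ![1, 0] = w := by
    ext i
    fin_cases i <;> simp [Matrix.mulVec, dotProduct, Fin.sum_univ_two, hA0, hA1]
  have hxw : (rho F x).1 *ᵥ w = w := hw ⟨x, hx⟩
  have h1 : (rho F (g⁻¹ * x * g)).1 *ᵥ ![1, 0] = ![1, 0] := by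
    rw [map_mul, map_mul, hg, map_inv, hg]
    have e1 : (A⁻¹ * rho F x * A).1 *ᵥ ![1, 0] = (A⁻¹).1 *ᵥ ((rho F x).1 *ᵥ (A.1 *ᵥ ![1, 0])) := by
      rw [Matrix.mulVec_mulVec, Matrix.mulVec_mulVec]
      rfl
    rw [e1, hAe, hxw, ← hAe, Matrix.mulVec_mulVec]
    have e2 : (A⁻¹).1 * A.1 = 1 := congrArg Subtype.val (inv_mul_cancel A)
    rw [e2, Matrix.one_mulVec]
  set y := g⁻¹ * x * g with hy
  have h2 := congrFun h1 0
  have h3 := congrFun h1 1
  simp [Matrix.mulVec, dotProduct, Fin.sum_univ_two] at h2 h3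
  have h3' : y.1.1 (Sum.inr 1) (Sum.inl 1) = 0 := h3
  have h2' : y.1.1 (Sum.inl 1) (Sum.inl 1) = 1 := h2
  obtain ⟨t, u, v, s, r, e, hr⟩ := exists_of_entry y.2 h3'
  rw [h2'] at hr
  have hr1 : r = 1 := Units.ext hr
  subst hr1
  refine ⟨t, u, v, s, ?_⟩
  apply Subtype.ext
  change (y : Sp F) = ((co F).m t u v : Sp F) * ((co F).a s : Sp F)
  have : h (1 : Fˣ) = (1 : Sp F) := congrArg Subtype.val (co F).h_one
  rw [co_m, e, this, mul_one]
  rfl

end Cfsg.Agent.H339.SpCo
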