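import Cfsg.Agent.H339.MaxNum
import Cfsg.Agent.H940.Engine
import Cfsg.Prelude.Def_KGroupFacts

/-!
# `Supp 3` from a context of the engine, and from `|Out| = 1` (helper339, S5907)
-/

set_option autoImplicit false

namespace Cfsg.Agent.H339.MaxNum

open Cfsg.Agent.OrdDiv Cfsg.Agent.H339.MaxCl Cfsg.Agent.H940.Eng

universe u v

/-- rows by arithmetic, the indices in `dead` being excluded by the local data -/
theorem supp_of_ctx {K : Type v} [Group K] {l : List (ℕ × ℕ)} {n b a : ℕ} {ords : List ℕ} {loc : List LD}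
    (c : Ctx K ((2, a) :: l) n ords loc) (hns : ¬ Group.IsSolvable K) (dead : List ℕ)
    (hpos : ((2, a) :: l).all (fun x => Nat.blt 0 x.2) = true) (hb : ¬ n ∣ (b - 1).factorial)
    (hc : check l b a dead = true)
    (hdead : (dead.all fun d => d != 1 && d != 0 && bad ((2, a) :: l) n [] 0 loc ords (n / d)) = true) :
    ∃ _ : Finite K, Supp.{u} 3 K := by
  have := c.fin
  have hs := c.simple
  refine ⟨this, supp_of_check hs hns dead c.card c.val hpos hb hc fun H hH => ?_⟩
  rw [List.all_eq_true] at hdead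
  have h1 := hdead _ hH
  rw [Bool.and_eq_true, Bool.and_eq_true, bne_iff_ne, bne_iff_ne] at h1
  obtain ⟨⟨h2, h3⟩, h4⟩ := h1
  have hne : H ≠ ⊤ := fun h => h2 (Subgroup.index_eq_one.2 h)
  have h5 := not_bad (full := []) (bd := 0) c.val c.card c.ords c.loc (H := H)
    (fun p hp => absurd hp List.not_mem_nil) hne
  have h6 : n / H.index = Nat.card H := by
    rw [← c.card]
    exact Nat.div_eq_of_eq_mul_left (Nat.pos_of_ne_zero Subgroup.index_ne_zero_of_finite) (Subgroup.card_mul_index H).symm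
  rw [h6, h5] at h4
  exact Bool.false_ne_true h4

/-- vacuous rows -/
theorem supp_of_out {n : ℕ} {K : Type v} [Group K] (h : Nat.card (Cfsg.Out K) = 1) : Supp.{u} n K := by
  rintro X _ _ S hSn ⟨f⟩ hC hne _ _
  exfalso
  apply hne
  rw [eq_top_iff]
  intro x _
  have hsub : Subsingleton (Cfsg.Out K) := (Nat.card_eq_one_iff_unique.1 h).1
  -- the automorphism of `K` induced by `x`
  let φ : MulAut K := (f.symm.trans (MulAut.conjNormal x : MulAut ↥S)).trans f
  have h1 : φ ∈ Cfsg.Inn K := by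
    rw [← QuotientGroup.eq_one_iff]
    exact Subsingleton.elim _ _
  obtain ⟨k, hk⟩ := h1
  have hk' : ∀ y : K, k * y * k⁻¹ = φ y := by
    intro y
    rw [← hk]
    rfl
  have h2 : ((f.symm k : ↥S) : X)⁻¹ * x ∈ Subgroup.centralizer (S : Set X) := by
    rw [Subgroup.mem_centralizer_iff]
    intro s hs
    have h3 := hk' (f ⟨s, hs⟩)
    have h4 : φ (f ⟨s, hs⟩) = f (MulAut.conjNormal x ⟨s, hs⟩) := by
      show f (MulAut.conjNormal x (f.symm (f ⟨s, hs⟩))) = _
      rw [f.symm_apply_apply]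
    rw [h4] at h3
    have h5 : f.symm k * ⟨s, hs⟩ * (f.symm k)⁻¹ = MulAut.conjNormal x ⟨s, hs⟩ := by
      apply f.injective
      rw [← h3, map_mul, map_mul, map_inv, f.apply_symm_apply]
    have h6 : ((f.symm k : ↥S) : X) * s * ((f.symm k : ↥S) : X)⁻¹ = x * s * x⁻¹ := congrArg Subtype.val h5
    have h7 : s * (((f.symm k : ↥S) : X)⁻¹ * x) = ((f.symm k : ↥S) : X)⁻¹ * (((f.symm k : ↥S) : X) * s *
        ((f.symm k : ↥S) : X)⁻¹) * x := by group
    rw [h7, h6]
    group
  rw [hC, Subgroup.mem_bot] at h2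
  have h3 : x = ((f.symm k : ↥S) : X) := by
    rw [← inv_mul_eq_one, ← inv_inj, mul_inv_rev, inv_inv, inv_one]
    exact h2
  rw [h3]
  exact (f.symm k).2

end Cfsg.Agent.H339.MaxNum
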